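import Mathlib
import Cfsg.Agent.Lib.PGroups.ShultGross.Weights

/-!
# Fixed vectors killed by the moved functionals

An operator `S` of prime order `r` acts on a space with a set `Λ` of functionals spanning the dual.
`Kills Λ S v`: the functionals moved by `S` vanish on `v`.

* `eq_zero_of_kills`: a fixed vector killed by the moved functionals, supported on at most `2 r` moved
  weights of an abelian group of coprime order, is zero
* `eq_zero_of_kills_commute`, `eq_of_kills_conj`: the consequences for a single orbit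
* `moved_or_fixed_weight`: a space with a nonzero fixed vector has a nonzero weight vector of moved
  weight, or a nonzero fixed weight vector
-/

set_option autoImplicit false
set_option linter.all false

namespace CfsgLib.PGroups.Turull

open CfsgLib.PGroups.ShultGross

variable {K : Type*} [Field K] {V : Type*} [AddCommGroup V] [Module K V]

/-- The functionals moved by `S` vanish on `v`. -/
def Kills (Λ : Set (Module.Dual K V)) (S : Module.End K V) (v : V) : Prop :=
  ∀ f ∈ Λ, f.comp S ≠ f → f v = 0

/-- The sum over an orbit. -/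
def orbitSum (S : Module.End K V) (r : ℕ) : Module.End K V := ∑ i ∈ Finset.range r, S ^ i

theorem orbitSum_apply (S : Module.End K V) (r : ℕ) (v : V) :
    orbitSum S r v = ∑ i ∈ Finset.range r, (S ^ i) v := by
  simp [orbitSum]

theorem orbitSum_fixed {S : Module.End K V} {r : ℕ} (hS : S ^ r = 1) (v : V) :
    S (orbitSum S r v) = orbitSum S r v := by
  have h1 : S * orbitSum S r - orbitSum S r = S ^ r - 1 := by
    rw [orbitSum, ← mul_geom_sum S r, sub_mul, one_mul]
  rw [hS, sub_self, sub_eq_zero] at h1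
  exact LinearMap.congr_fun h1 v

theorem orbitSum_of_fixed {S : Module.End K V} {r : ℕ} {v : V} (hv : S v = v) :
    orbitSum S r v = (r : K) • v := by
  have hp : ∀ i : ℕ, (S ^ i) v = v := by
    intro i
    induction i with
    | zero => rfl
    | succ i ih => rw [pow_succ', Module.End.mul_apply, ih, hv]
  rw [orbitSum_apply, Finset.sum_congr rfl fun i _ => hp i, Finset.sum_const, Finset.card_range,
    Nat.cast_smul_eq_nsmul]

theorem orbitSum_comm {S D : Module.End K V} (h : Commute D S) (r : ℕ) (v : V) :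
    D (orbitSum S r v) = orbitSum S r (D v) := by
  rw [orbitSum_apply, orbitSum_apply, map_sum]
  exact Finset.sum_congr rfl fun i _ => LinearMap.congr_fun (h.pow_right i).eq v

variable {A : Type*} [CommGroup A]

/-- A weight vector. -/
def IsWeight (η : A →* Module.End K V) (γ : A →* Kˣ) (v : V) : Prop :=
  ∀ a, η a v = (γ a : K) • v

theorem IsWeight.map {η : A →* Module.End K V} {γ : A →* Kˣ} {v : V} (hv : IsWeight η γ v)
    {T : Module.End K V} {x : MulAut A} (hT : ∀ a, T * η a = η (x a) * T) :
    IsWeight η (γ.comp (x⁻¹ : MulAut A).toMonoidHom) (T v) := by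
  intro a
  have h := LinearMap.congr_fun (hT ((x⁻¹ : MulAut A) a)) v
  rw [Module.End.mul_apply, Module.End.mul_apply, MulAut.apply_inv_self, hv, map_smul] at h
  exact h.symm

theorem pow_conj {η : A →* Module.End K V} {θ : MulAut A} {S : Module.End K V}
    (hS : ∀ a, S * η a = η (θ a) * S) : ∀ (i : ℕ) (a : A), S ^ i * η a = η ((θ ^ i) a) * S ^ i := by
  intro i
  induction i with
  | zero => intro a; simp
  | succ i ih =>
    intro a
    rw [pow_succ, mul_assoc, hS, ← mul_assoc, ih, mul_assoc]
    congr 2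

/-- A translation-invariant part of a finite set. -/
theorem card_dvd_of_mul_mem {G : Type*} [Group G] [Finite G] (W : Subgroup G) (Z : Finset G)
    (hZ : ∀ z ∈ Z, ∀ w ∈ W, z * w ∈ Z) : Nat.card W ∣ Z.card := by
  classical
  rw [Finset.card_eq_sum_card_image (QuotientGroup.mk : G → G ⧸ W) Z]
  refine Finset.dvd_sum fun b hb => ?_
  obtain ⟨z, hz, rfl⟩ := Finset.mem_image.mp hb
  refine dvd_of_eq ?_
  rw [← Nat.card_eq_finsetCard]
  refine Nat.card_congr
    { toFun := fun w => ⟨z * w, Finset.mem_filter.mpr ⟨hZ z hz w w.2, ?_⟩⟩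
      invFun := fun y => ⟨z⁻¹ * y.1, QuotientGroup.eq.mp (Finset.mem_filter.mp y.2).2.symm⟩
      left_inv := fun w => Subtype.ext (inv_mul_cancel_left z (w : G))
      right_inv := fun y => Subtype.ext (mul_inv_cancel_left z y.1) }
  rw [QuotientGroup.eq, mul_inv_rev, mul_assoc, inv_mul_cancel, mul_one]
  exact inv_mem w.2

variable [IsAlgClosed K] [Finite A]

/-- The main lemma on killed fixed vectors. -/
theorem eq_zero_of_kills {r : ℕ} [hr : Fact r.Prime] (hA : (Nat.card A : K) ≠ 0)
    (hcop : (Nat.card A).Coprime r) (η : A →* Module.End K V) (θ : MulAut A) (hθ : θ ^ r = 1)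
    (S : Module.End K V) (hS : ∀ a, S * η a = η (θ a) * S)
    (Λ : Set (Module.Dual K V)) (hspan : ∀ v, (∀ f ∈ Λ, f v = 0) → v = 0)
    (hΛ : ∀ a, ∀ f ∈ Λ, f.comp (η a) ∈ Λ)
    (n : V) (hn : S n = n) (hk : Kills Λ S n)
    {ι : Type*} (s : Finset ι) (hcard : s.card ≤ 2 * r) (γ : ι → A →* Kˣ) (u : ι → V)
    (hw : ∀ i ∈ s, IsWeight η (γ i) (u i)) (hmov : ∀ i ∈ s, (γ i).comp θ.toMonoidHom ≠ γ i)
    (hsum : ∑ i ∈ s, u i = n) : n = 0 := by
  classical
  haveI := Fintype.ofFinite A
  haveI : NeZero (Monoid.exponent A : K) := ⟨fun h => hA (by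
    obtain ⟨c, hc⟩ := Group.exponent_dvd_nat_card (G := A)
    rw [hc, Nat.cast_mul, h, zero_mul])⟩
  haveI : Finite (A →* Kˣ) := Nat.finite_of_card_ne_zero (by
    rw [CommGroup.card_monoidHom_of_hasEnoughRootsOfUnity]; exact Nat.card_pos.ne')
  haveI := Fintype.ofFinite (A →* Kˣ)
  refine hspan n fun f hf => ?_
  by_cases hfix : f.comp S = f
  swap
  · exact hk f hf hfix
  -- the coefficient function
  let C : (A →* Kˣ) → K := fun χ => ∑ i ∈ s.filter (fun i => γ i = χ), f (u i)
  have hfa : ∀ a, f (η a n) = ∑ χ, C χ * (χ a : K) := by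
    intro a
    rw [← hsum, map_sum, map_sum, ← Finset.sum_fiberwise s γ]
    refine Finset.sum_congr rfl fun χ _ => ?_
    rw [Finset.sum_mul]
    refine Finset.sum_congr rfl fun i hi => ?_
    obtain ⟨his, rfl⟩ := Finset.mem_filter.mp hi
    rw [hw i his a, map_smul, smul_eq_mul, mul_comm]
  have hind : ∀ D : (A →* Kˣ) → K, (∀ a, ∑ χ, D χ * (χ a : K) = 0) → ∀ χ, D χ = 0 := by
    have hli : LinearIndependent K (fun χ : A →* Kˣ => (fun a => (χ a : K))) := by
      refine (linearIndependent_monoidHom A K).comp (fun χ : A →* Kˣ => (Units.coeHom K).comp χ) ?_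
      intro a b hab
      exact MonoidHom.ext fun x => Units.ext (DFunLike.congr_fun hab x)
    intro D hD
    refine Fintype.linearIndependent_iff.mp hli D ?_
    funext a
    rw [Finset.sum_apply]
    simpa using hD a
  have hfn : f n = ∑ χ, C χ := by
    have := hfa 1
    simpa using this
  -- the stabiliser
  let St : Subgroup A :=
    { carrier := {d | f.comp (η d) = f}
      one_mem' := by simp [Module.End.one_eq_id]
      mul_mem' := fun {a b} (ha : f.comp (η a) = f) (hb : f.comp (η b) = f) => by
        show f.comp (η (a * b)) = f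
        rw [map_mul, Module.End.mul_eq_comp, ← LinearMap.comp_assoc, ha, hb]
      inv_mem' := fun {a} (ha : f.comp (η a) = f) => by
        show f.comp (η a⁻¹) = f
        conv_lhs => rw [← ha, LinearMap.comp_assoc, ← Module.End.mul_eq_comp, ← map_mul,
          mul_inv_cancel, map_one, Module.End.one_eq_id, LinearMap.comp_id] }
  let ψ : A →* A := MonoidHom.id A * ((θ⁻¹ : MulAut A).toMonoidHom)⁻¹
  let U : Subgroup A := St.comap ψ
  have hU : ∀ a, a ∉ U → f (η a n) = 0 := by
    intro a ha
    refine hk _ (hΛ a f hf) fun he => ha ?_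
    have h1 : S * η ((θ⁻¹ : MulAut A) a) = η a * S := by rw [hS, MulAut.apply_inv_self]
    have h2 : f.comp (η ((θ⁻¹ : MulAut A) a)) = f.comp (η a) := by
      conv_lhs => rw [← hfix, LinearMap.comp_assoc, ← Module.End.mul_eq_comp, h1,
        Module.End.mul_eq_comp, ← LinearMap.comp_assoc, he]
    show f.comp (η (a * ((θ⁻¹ : MulAut A) a)⁻¹)) = f
    rw [map_mul, Module.End.mul_eq_comp, ← LinearMap.comp_assoc, ← h2, LinearMap.comp_assoc,
      ← Module.End.mul_eq_comp, ← map_mul, mul_inv_cancel, map_one, Module.End.one_eq_id,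
      LinearMap.comp_id]
  have hCinv : ∀ χ : A →* Kˣ, C (χ.comp (θ⁻¹ : MulAut A).toMonoidHom) = C χ := by
    intro χ
    have hfθ : ∀ a, f (η (θ a) n) = f (η a n) := by
      intro a
      conv_lhs => rw [← hn, ← Module.End.mul_apply, ← hS, Module.End.mul_apply]
      exact LinearMap.congr_fun hfix _
    let e : (A →* Kˣ) ≃ (A →* Kˣ) :=
      { toFun := fun c => c.comp θ.toMonoidHom
        invFun := fun c => c.comp (θ⁻¹ : MulAut A).toMonoidHom
        left_inv := fun c => MonoidHom.ext fun a => by simp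
        right_inv := fun c => MonoidHom.ext fun a => by simp }
    have h0 := hind (fun c => C (e.symm c) - C c) (fun a => by
      simp only [sub_mul, Finset.sum_sub_distrib]
      rw [← hfa a, ← hfθ a, hfa (θ a), sub_eq_zero, ← Equiv.sum_comp e]
      refine Finset.sum_congr rfl fun c _ => ?_
      rw [e.symm_apply_apply]
      rfl) χ
    exact sub_eq_zero.mp h0
  rw [hfn]
  suffices hC : ∀ χ, C χ = 0 by simp [hC]
  by_cases hUt : U = ⊤
  · intro χ
    by_contra hne
    obtain ⟨i, hi⟩ : ∃ i, i ∈ s.filter (fun i => γ i = χ) := by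
      by_contra h
      push Not at h
      exact hne (Finset.sum_eq_zero fun i hi => absurd hi (h i))
    obtain ⟨his, rfl⟩ := Finset.mem_filter.mp hi
    obtain ⟨b, hb⟩ : ∃ b, γ i (ψ b) ≠ 1 := by
      by_contra h
      push Not at h
      refine hmov i his (MonoidHom.ext fun a => ?_)
      have := h (θ a)
      simp only [ψ, MonoidHom.mul_apply, MonoidHom.id_apply, MonoidHom.inv_apply,
        MulEquiv.coe_toMonoidHom, MulAut.inv_apply_self, map_mul, map_inv, mul_inv_eq_one] at this
      exact this
    have h0 := hind (fun c => C c * ((c (ψ b) : K) - 1)) (fun a => by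
      have h2 : f (η (ψ b * a) n) = f (η a n) := by
        rw [map_mul, Module.End.mul_apply]
        exact LinearMap.congr_fun ((hUt ▸ Subgroup.mem_top b : b ∈ U) : f.comp (η (ψ b)) = f) _
      rw [hfa, hfa] at h2
      rw [← sub_eq_zero, ← Finset.sum_sub_distrib] at h2
      rw [← h2]
      refine Finset.sum_congr rfl fun c _ => ?_
      rw [map_mul, Units.val_mul]; ring) (γ i)
    rcases mul_eq_zero.mp h0 with h | h
    · exact hne h
    · exact hb (Units.ext (by rw [Units.val_one]; exact sub_eq_zero.mp h))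
  · -- translation by the characters vanishing on `U`
    let W : Subgroup (A →* Kˣ) :=
      { carrier := {c | ∀ a ∈ U, c a = 1}
        one_mem' := fun a _ => rfl
        mul_mem' := fun {c d} hc hd a ha => by rw [MonoidHom.mul_apply, hc a ha, hd a ha, mul_one]
        inv_mem' := fun {c} hc a ha => by rw [MonoidHom.inv_apply, hc a ha, inv_one] }
    have htr : ∀ c ∈ W, ∀ χ, C (χ * c) = C χ := by
      intro c hc χ
      have h0 := hind (fun d => C (d * c) - C d) (fun a => ?_) χ
      · exact sub_eq_zero.mp h0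
      simp only [sub_mul, Finset.sum_sub_distrib]
      rw [← hfa, sub_eq_zero]
      have h1 : f (η a n) = (c a : K)⁻¹ * f (η a n) := by
        by_cases ha : a ∈ U
        · rw [hc a ha, Units.val_one, inv_one, one_mul]
        · rw [hU a ha, mul_zero]
      rw [h1, hfa a, Finset.mul_sum]
      conv_rhs => rw [← Equiv.sum_comp (Equiv.mulRight c)]
      refine Finset.sum_congr rfl fun d _ => ?_
      simp only [Equiv.coe_mulRight, MonoidHom.mul_apply, Units.val_mul]
      field_simp
    let Z : Finset (A →* Kˣ) := Finset.univ.filter fun χ => C χ ≠ 0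
    suffices hZ : Z = ∅ by
      intro χ
      by_contra hne
      have hm : χ ∈ Z := Finset.mem_filter.mpr ⟨Finset.mem_univ χ, hne⟩
      rw [hZ] at hm
      simp at hm
    have hZs : Z ⊆ s.image γ := by
      intro χ hχ
      obtain ⟨i, hi, -⟩ := Finset.exists_ne_zero_of_sum_ne_zero (Finset.mem_filter.mp hχ).2
      exact Finset.mem_image.mpr ⟨i, (Finset.mem_filter.mp hi).1, (Finset.mem_filter.mp hi).2⟩
    have hZle : Z.card ≤ 2 * r := (Finset.card_le_card hZs).trans (Finset.card_image_le.trans hcard)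
    have hWZ : Nat.card W ∣ Z.card := card_dvd_of_mul_mem W Z fun z hz w hw => by
      refine Finset.mem_filter.mpr ⟨Finset.mem_univ _, ?_⟩
      rw [htr w hw]
      exact (Finset.mem_filter.mp hz).2
    -- the permutation induced by `θ`
    let P : Equiv.Perm (A →* Kˣ) :=
      { toFun := fun c => c.comp (θ⁻¹ : MulAut A).toMonoidHom
        invFun := fun c => c.comp θ.toMonoidHom
        left_inv := fun c => MonoidHom.ext fun a => by simp
        right_inv := fun c => MonoidHom.ext fun a => by simp }
    have hPpow : ∀ (i : ℕ) (c : A →* Kˣ) (a : A), (P ^ i) c a = c (((θ⁻¹) ^ i) a) := by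
      intro i
      induction i with
      | zero => intro c a; rfl
      | succ i ih =>
        intro c a
        rw [pow_succ, Equiv.Perm.mul_apply, ih, pow_succ']
        rfl
    have hPr : P ^ r = 1 := Equiv.ext fun c => MonoidHom.ext fun a => by
      rw [hPpow, inv_pow, hθ, inv_one]; rfl
    have hcount : ∀ (T : Finset (A →* Kˣ)) (hT : ∀ c, c ∈ T ↔ P c ∈ T),
        (T.filter fun c => P c = c).card ≡ T.card [MOD r] := by
      intro T hT
      let Q : Equiv.Perm T := P.subtypePerm (fun c => (hT c).symm)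
      have hQ : Q ^ r ^ 1 = 1 := by
        rw [pow_one, Equiv.Perm.subtypePerm_pow]
        exact Equiv.ext fun c => Subtype.ext (by simp [hPr])
      have h := Equiv.Perm.card_compl_support_modEq hQ
      rw [Fintype.card_coe] at h
      refine Nat.ModEq.trans ?_ h
      show _ % r = _ % r
      refine (congrArg (· % r) (?_ : _ = _))
      refine Finset.card_bij (fun c hc => (⟨c, (Finset.mem_filter.mp hc).1⟩ : T)) ?_ ?_ ?_
      · intro c hc
        simpa [Q, Subtype.ext_iff] using (Finset.mem_filter.mp hc).2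
      · intro c _ d _ h; exact congrArg Subtype.val h
      · intro c hc
        exact ⟨c.1, Finset.mem_filter.mpr ⟨c.2, by simpa [Q, Subtype.ext_iff] using hc⟩, rfl⟩
    have hPmov : ∀ i ∈ s, P (γ i) ≠ γ i := by
      intro i hi he
      refine hmov i hi (MonoidHom.ext fun a => ?_)
      have := DFunLike.congr_fun he (θ a)
      simpa [P] using this.symm
    have hrZ : r ∣ Z.card := by
      have h := hcount Z fun c => by
        simp only [Z, Finset.mem_filter, Finset.mem_univ, true_and]
        rw [show C (P c) = C c from hCinv c]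
      rw [Finset.filter_eq_empty_iff.mpr (fun {c} hc => ?_), Finset.card_empty] at h
      · exact Nat.modEq_zero_iff_dvd.mp h.symm
      · obtain ⟨i, hi, rfl⟩ := Finset.mem_image.mp (hZs hc)
        exact hPmov i hi
    -- `W` is large
    have hUθ : ∀ a, a ∈ U → (θ⁻¹ : MulAut A) a ∈ U := by
      intro a ha
      show f.comp (η (ψ ((θ⁻¹ : MulAut A) a))) = f
      have e : ψ ((θ⁻¹ : MulAut A) a) = (θ⁻¹ : MulAut A) (ψ a) := by simp [ψ]
      have h1 : S * η ((θ⁻¹ : MulAut A) (ψ a)) = η (ψ a) * S := by rw [hS, MulAut.apply_inv_self]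
      rw [e]
      calc f.comp (η ((θ⁻¹ : MulAut A) (ψ a)))
          = (f.comp S).comp (η ((θ⁻¹ : MulAut A) (ψ a))) := by rw [hfix]
        _ = f.comp (S * η ((θ⁻¹ : MulAut A) (ψ a))) := rfl
        _ = f.comp (η (ψ a) * S) := by rw [h1]
        _ = (f.comp (η (ψ a))).comp S := rfl
        _ = f := by rw [(ha : f.comp (η (ψ a)) = f), hfix]
    have hWcount := hcount (Finset.univ.filter fun c => c ∈ W) fun c => by
      simp only [Finset.mem_filter, Finset.mem_univ, true_and]
      refine ⟨fun hc a ha => hc _ (hUθ a ha), fun hc => ?_⟩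
      have hall : ∀ i : ℕ, (P ^ i) (P c) ∈ W := by
        intro i
        induction i with
        | zero => exact hc
        | succ i ih =>
          rw [pow_succ', Equiv.Perm.mul_apply]
          exact fun a ha => ih _ (hUθ a ha)
      have := hall (r - 1)
      rwa [← Equiv.Perm.mul_apply, ← pow_succ, Nat.sub_add_cancel hr.out.one_le, hPr] at this
    have hfix1 : ((Finset.univ.filter fun c => c ∈ W).filter fun c => P c = c) = {1} := by
      ext c
      simp only [Finset.mem_filter, Finset.mem_univ, true_and, Finset.mem_singleton]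
      refine ⟨fun hc => ?_, fun hc => ?_⟩
      swap
      · subst hc
        exact ⟨one_mem W, MonoidHom.ext fun a => rfl⟩
      refine MonoidHom.ext fun a => ?_
      have hprod : (∏ i ∈ Finset.range r, ((θ⁻¹ : MulAut A) ^ i) a) ∈ U := by
        have hfx : (θ⁻¹ : MulAut A) (∏ i ∈ Finset.range r, ((θ⁻¹ : MulAut A) ^ i) a) =
            ∏ i ∈ Finset.range r, ((θ⁻¹ : MulAut A) ^ i) a := by
          rw [map_prod]
          have h1 := Finset.prod_range_succ' (fun i => ((θ⁻¹ : MulAut A) ^ i) a) r
          have h2 := Finset.prod_range_succ (fun i => ((θ⁻¹ : MulAut A) ^ i) a) r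
          rw [h1, inv_pow θ r, hθ, inv_one, pow_zero] at h2
          rw [← mul_right_cancel h2]
          exact Finset.prod_congr rfl fun i _ => by rw [pow_succ']; rfl
        show f.comp (η (ψ _)) = f
        have h1 : ψ (∏ i ∈ Finset.range r, ((θ⁻¹ : MulAut A) ^ i) a) = 1 := by
          show (∏ i ∈ Finset.range r, ((θ⁻¹ : MulAut A) ^ i) a) *
            ((θ⁻¹ : MulAut A) (∏ i ∈ Finset.range r, ((θ⁻¹ : MulAut A) ^ i) a))⁻¹ = 1
          rw [hfx, mul_inv_cancel]
        rw [h1, map_one, Module.End.one_eq_id, LinearMap.comp_id]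
      have h1 : c a ^ r = 1 := by
        rw [← hc.1 _ hprod, map_prod]
        rw [Finset.prod_congr rfl fun i _ => show c (((θ⁻¹ : MulAut A) ^ i) a) = c a by
          rw [← hPpow i c a]
          have : ∀ j : ℕ, (P ^ j) c = c := by
            intro j
            induction j with
            | zero => rfl
            | succ j ih => rw [pow_succ', Equiv.Perm.mul_apply, ih, hc.2]
          rw [this]]
        rw [Finset.prod_const, Finset.card_range]
      have h2 : c a ^ Nat.card A = 1 := by rw [← map_pow, pow_card_eq_one', map_one]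
      have h3 := (pow_gcd_eq_one.mpr ⟨h2, h1⟩ : c a ^ Nat.gcd (Nat.card A) r = 1)
      rwa [hcop.gcd_eq_one, pow_one] at h3
    rw [hfix1, Finset.card_singleton, show (Finset.univ.filter fun c => c ∈ W).card = Nat.card W by
      rw [Nat.card_eq_fintype_card, Fintype.card_subtype]] at hWcount
    -- `W` is not trivial
    obtain ⟨b, hb⟩ : ∃ b, b ∉ U := by
      by_contra h
      push Not at h
      exact hUt (eq_top_iff.mpr fun a _ => h a)
    have hW1 : Nat.card W ≠ 1 := by
      intro h1
      haveI : NeZero (Monoid.exponent (A ⧸ U) : K) := ⟨fun h => hA (by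
        obtain ⟨c, hc⟩ := (Group.exponent_dvd_nat_card (G := A ⧸ U)).trans U.card_quotient_dvd_card
        rw [hc, Nat.cast_mul, h, zero_mul])⟩
      obtain ⟨φ, hφ⟩ := CommGroup.exists_apply_ne_one_of_hasEnoughRootsOfUnity (A ⧸ U) K
        (a := (b : A ⧸ U)) (by rwa [Ne, QuotientGroup.eq_one_iff])
      refine hφ ?_
      have hmem : φ.comp (QuotientGroup.mk' U) ∈ W := fun a ha => by
        show φ (a : A ⧸ U) = 1
        rw [(QuotientGroup.eq_one_iff a).mpr ha, map_one]
      have : (⟨_, hmem⟩ : W) = 1 := by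
        haveI := (Nat.card_eq_one_iff_unique.mp h1).1
        exact Subsingleton.elim _ _
      exact DFunLike.congr_fun (congrArg Subtype.val this) b
    by_contra hne
    have hZ0 : 0 < Z.card := Finset.card_pos.mpr (Finset.nonempty_iff_ne_empty.mpr hne)
    have hWr : r + 1 ≤ Nat.card W := by
      have hd : r ∣ Nat.card W - 1 := (Nat.modEq_iff_dvd' Nat.card_pos).mp hWcount
      have hpos : 0 < Nat.card W := Nat.card_pos
      have := Nat.le_of_dvd (by omega) hd
      omega
    have hcop2 : Nat.Coprime r (Nat.card W) := by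
      refine hr.out.coprime_iff_not_dvd.mpr fun hd => hr.out.ne_one ?_
      have h0 := (Nat.modEq_zero_iff_dvd.mpr hd)
      exact Nat.dvd_one.mp (Nat.modEq_zero_iff_dvd.mp (hWcount.trans h0))
    have h2r := Nat.le_of_dvd hZ0 (hcop2.mul_dvd_of_dvd_of_dvd hrZ hWZ)
    have h3 : r * (r + 1) ≤ 2 * r := (Nat.mul_le_mul_left r hWr).trans (h2r.trans hZle)
    nlinarith [hr.out.two_le]


/-- The translates of a weight vector. -/
theorem IsWeight.pow {η : A →* Module.End K V} {θ : MulAut A} {S : Module.End K V}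
    (hS : ∀ a, S * η a = η (θ a) * S) {γ : A →* Kˣ} {w : V} (hw : IsWeight η γ w) (i : ℕ) :
    IsWeight η (γ.comp ((θ ^ i)⁻¹ : MulAut A).toMonoidHom) ((S ^ i) w) :=
  hw.map (pow_conj hS i)

section Orbit

variable {r : ℕ} [hr : Fact r.Prime] {η : A →* Module.End K V} {θ : MulAut A} {S : Module.End K V}

omit [IsAlgClosed K] [Finite A] in
theorem fixed_of_comp_pow (hθ : θ ^ r = 1) {γ : A →* Kˣ} {i : ℕ} (h0 : 0 < i) (hi : i < r)
    (h : γ.comp (θ ^ i).toMonoidHom = γ) : γ.comp θ.toMonoidHom = γ := by
  have hm : ∀ (j : ℕ) (a : A), γ (((θ ^ i) ^ j) a) = γ a := by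
    intro j
    induction j with
    | zero => intro a; rfl
    | succ j ih =>
      intro a
      rw [pow_succ', MulAut.mul_apply]
      exact (DFunLike.congr_fun h _).trans (ih a)
  obtain ⟨j, -, hj⟩ := Nat.exists_mul_mod_eq_one_of_coprime
    ((hr.out.coprime_iff_not_dvd.mpr fun hd => absurd (Nat.le_of_dvd h0 hd) (by omega)).symm)
    hr.out.one_lt
  refine MonoidHom.ext fun a => ?_
  have := hm j a
  rw [← pow_mul, pow_eq_pow_mod _ hθ, hj, pow_one] at this
  exact this

omit [IsAlgClosed K] [Finite A] in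
theorem orbit_injOn (hθ : θ ^ r = 1) {γ : A →* Kˣ} (hγ : γ.comp θ.toMonoidHom ≠ γ) {i j : ℕ}
    (hi : i < r) (hj : j < r)
    (h : γ.comp ((θ ^ i)⁻¹ : MulAut A).toMonoidHom = γ.comp ((θ ^ j)⁻¹ : MulAut A).toMonoidHom) :
    i = j := by
  by_contra hne
  wlog hlt : i < j generalizing i j with H
  · exact H hj hi h.symm (Ne.symm hne) (lt_of_le_of_ne (not_lt.mp hlt) (Ne.symm hne))
  refine hγ (fixed_of_comp_pow (i := j - i) hθ (by omega) (by omega) (MonoidHom.ext fun a => ?_))
  have h1 := DFunLike.congr_fun h ((θ ^ j) a)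
  simp only [MonoidHom.comp_apply, MulEquiv.coe_toMonoidHom, MulAut.inv_apply_self] at h1
  rw [← Nat.sub_add_cancel hlt.le, add_comm, pow_add, MulAut.mul_apply, MulAut.inv_apply_self] at h1
  exact h1

variable (hcop : (Nat.card A).Coprime r) (hA : (Nat.card A : K) ≠ 0) (hθ : θ ^ r = 1)
  (hS : ∀ a, S * η a = η (θ a) * S) (hSr : S ^ r = 1)
  {Λ : Set (Module.Dual K V)} (hspan : ∀ v, (∀ f ∈ Λ, f v = 0) → v = 0)
  (hΛ : ∀ a, ∀ f ∈ Λ, f.comp (η a) ∈ Λ)
include hcop hA hθ hS hSr hspan hΛ

/-- An operator commuting with everything annihilates moved weights. -/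
theorem eq_zero_of_kills_commute {D : Module.End K V} (hDS : Commute D S)
    (hDA : ∀ a, Commute D (η a)) (hD : ∀ v, S v = v → Kills Λ S (D v))
    {γ : A →* Kˣ} (hγ : γ.comp θ.toMonoidHom ≠ γ) {w : V} (hw : IsWeight η γ w) : D w = 0 := by
  classical
  have hw' : IsWeight η γ (D w) := fun a => by
    rw [← Module.End.mul_apply, ← (hDA a).eq, Module.End.mul_apply, hw, map_smul]
  have hn : orbitSum S r (D w) = 0 := by
    refine eq_zero_of_kills hA hcop η θ hθ S hS Λ hspan hΛ _ (orbitSum_fixed hSr _)
      (orbitSum_comm hDS r w ▸ hD _ (orbitSum_fixed hSr w)) (Finset.range r) (by simp; omega)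
      (fun i => γ.comp ((θ ^ i)⁻¹ : MulAut A).toMonoidHom) (fun i => (S ^ i) (D w))
      (fun i _ => hw'.pow hS i) (fun i _ he => hγ ?_) (orbitSum_apply S r (D w)).symm
    refine MonoidHom.ext fun a => ?_
    have := DFunLike.congr_fun he ((θ ^ i) a)
    simp only [MonoidHom.comp_apply, MulEquiv.coe_toMonoidHom, MulAut.inv_apply_self] at this
    rw [show θ ((θ ^ i) a) = (θ ^ i) (θ a) by rw [← MulAut.mul_apply, ← pow_succ', pow_succ]; rfl,
      MulAut.inv_apply_self] at this
    exact this
  rw [orbitSum_apply] at hn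
  have := weights_independent (fun a => η a) (fun i a => ((γ.comp ((θ ^ i)⁻¹ : MulAut A).toMonoidHom) a : K))
    (fun i => (S ^ i) (D w)) (Finset.range r) ?_ (fun i _ a => hw'.pow hS i a) hn 0
    (Finset.mem_range.mpr hr.out.pos)
  · simpa using this
  · intro i hi j hj he
    exact orbit_injOn hθ hγ (Finset.mem_range.mp hi) (Finset.mem_range.mp hj)
      (MonoidHom.ext fun a => Units.ext (congrFun he a))

/-- An operator of order prime to `r` fixes moved weights. -/
theorem eq_of_kills_conj {T : Module.End K V} (hTS : Commute T S) {x : MulAut A}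
    (hTA : ∀ a, T * η a = η (x a) * T) (hxθ : Commute x θ) {P : ℕ} (hxP : x ^ P = 1)
    (hPr : P.Coprime r) (hD : ∀ v, S v = v → Kills Λ S (T v - v))
    {γ : A →* Kˣ} (hγ : γ.comp θ.toMonoidHom ≠ γ) {w : V} (hw : IsWeight η γ w) (hw0 : w ≠ 0) :
    γ.comp x.toMonoidHom = γ ∧ T w = w := by
  classical
  set γ' := γ.comp (x⁻¹ : MulAut A).toMonoidHom with hγ'def
  have hw' : IsWeight η γ' (T w) := hw.map hTA
  have hmov' : γ'.comp θ.toMonoidHom ≠ γ' := by
    intro he
    refine hγ (MonoidHom.ext fun a => ?_)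
    have h1 := DFunLike.congr_fun he (x a)
    have h2 : θ (x a) = x (θ a) := by
      rw [← MulAut.mul_apply, ← hxθ.eq, MulAut.mul_apply]
    simp only [γ', MonoidHom.comp_apply, MulEquiv.coe_toMonoidHom, h2, MulAut.inv_apply_self] at h1
    exact h1
  have hmov : ∀ {δ : A →* Kˣ}, δ.comp θ.toMonoidHom ≠ δ → ∀ i : ℕ,
      (δ.comp ((θ ^ i)⁻¹ : MulAut A).toMonoidHom).comp θ.toMonoidHom ≠
        δ.comp ((θ ^ i)⁻¹ : MulAut A).toMonoidHom := by
    intro δ hδ i he
    refine hδ (MonoidHom.ext fun a => ?_)
    have := DFunLike.congr_fun he ((θ ^ i) a)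
    simp only [MonoidHom.comp_apply, MulEquiv.coe_toMonoidHom, MulAut.inv_apply_self] at this
    rw [show θ ((θ ^ i) a) = (θ ^ i) (θ a) by rw [← MulAut.mul_apply, ← pow_succ', pow_succ]; rfl,
      MulAut.inv_apply_self] at this
    exact this
  let G : ℕ ⊕ ℕ → A →* Kˣ := Sum.elim (fun i => γ'.comp ((θ ^ i)⁻¹ : MulAut A).toMonoidHom)
    (fun i => γ.comp ((θ ^ i)⁻¹ : MulAut A).toMonoidHom)
  let u : ℕ ⊕ ℕ → V := Sum.elim (fun i => (S ^ i) (T w)) (fun i => -(S ^ i) w)
  let s := (Finset.range r).disjSum (Finset.range r)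
  have hu : ∀ i ∈ s, IsWeight η (G i) (u i) := by
    rintro (i | i) - a
    · exact hw'.pow hS i a
    · simp [u, G, hw.pow hS i a]
  have hn : ∑ i ∈ s, u i = T (orbitSum S r w) - orbitSum S r w := by
    rw [Finset.sum_disjSum, orbitSum_comm hTS, orbitSum_apply, orbitSum_apply, sub_eq_add_neg]
    simp [u, Finset.sum_neg_distrib]
  have hz : ∑ i ∈ s, u i = 0 := by
    rw [hn]
    refine eq_zero_of_kills hA hcop η θ hθ S hS Λ hspan hΛ _ ?_ (hD _ (orbitSum_fixed hSr w)) s
      (by simp [s, two_mul]) G u hu ?_ hn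
    · rw [map_sub, orbitSum_fixed hSr, orbitSum_comm hTS, orbitSum_fixed hSr]
    · rintro (i | i) -
      · exact hmov hmov' i
      · exact hmov hγ i
  have hsame : γ' = γ := by
    by_contra hne
    have hinj : Set.InjOn (fun i a => (G i a : K)) (s : Set (ℕ ⊕ ℕ)) := by
      intro i hi j hj he
      have he' : G i = G j := MonoidHom.ext fun a => Units.ext (congrFun he a)
      -- the two orbits are disjoint
      have hdis : ∀ i j, i < r → j < r → γ'.comp ((θ ^ i)⁻¹ : MulAut A).toMonoidHom ≠
          γ.comp ((θ ^ j)⁻¹ : MulAut A).toMonoidHom := by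
        intro i j hi hj h
        have hk : ∀ a, γ a = γ ((θ ^ ((i + r - j) % r)) (x a)) := by
          intro a
          have h1 := DFunLike.congr_fun h ((θ ^ i) (x a))
          simp only [γ', MonoidHom.comp_apply, MulEquiv.coe_toMonoidHom, MulAut.inv_apply_self] at h1
          rw [h1]
          congr 1
          rw [← pow_eq_pow_mod _ hθ]
          refine (θ ^ j).injective ?_
          rw [MulAut.apply_inv_self]
          show (θ ^ i) (x a) = ((θ ^ j) * (θ ^ (i + r - j))) (x a)
          rw [← pow_add,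
            show j + (i + r - j) = i + r by omega, pow_add, hθ, mul_one]
        have hpow : ∀ (m : ℕ) (a : A), γ a = γ ((θ ^ (((i + r - j) % r) * m)) ((x ^ m) a)) := by
          intro m
          induction m with
          | zero => intro a; simp
          | succ m ih =>
            intro a
            rw [hk a, ih ((θ ^ ((i + r - j) % r)) (x a))]
            congr 1
            rw [Nat.mul_succ, pow_add, MulAut.mul_apply, pow_succ, MulAut.mul_apply]
            congr 1
            rw [← MulAut.mul_apply, ← MulAut.mul_apply, ← MulAut.mul_apply,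
              (hxθ.pow_pow m ((i + r - j) % r)).eq]
            rfl
        by_cases hk0 : (i + r - j) % r = 0
        · refine hne (MonoidHom.ext fun a => ?_)
          have := hk ((x⁻¹ : MulAut A) a)
          rw [hk0, pow_zero, MulAut.one_apply, MulAut.apply_inv_self] at this
          exact this
        · refine hγ (fixed_of_comp_pow hθ (i := ((i + r - j) % r * P) % r) ?_ (Nat.mod_lt _ hr.out.pos)
            (MonoidHom.ext fun a => ?_))
          · refine Nat.pos_of_ne_zero fun h0 => ?_
            have hd := Nat.dvd_of_mod_eq_zero h0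
            rcases hr.out.dvd_mul.mp hd with h' | h'
            · exact hk0 (Nat.eq_zero_of_dvd_of_lt h' (Nat.mod_lt _ hr.out.pos))
            · exact hr.out.ne_one (Nat.eq_one_of_dvd_coprimes hPr h' dvd_rfl)
          · have h1 := hpow P a
            rw [hxP, MulAut.one_apply] at h1
            rw [← pow_eq_pow_mod _ hθ]
            exact h1.symm
      rcases i with i | i <;> rcases j with j | j <;>
        simp only [s, Finset.mem_coe, Finset.inl_mem_disjSum, Finset.inr_mem_disjSum,
          Finset.mem_range] at hi hj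
      · exact congrArg Sum.inl (orbit_injOn hθ hmov' hi hj he')
      · exact absurd he' (hdis i j hi hj)
      · exact absurd he'.symm (hdis j i hj hi)
      · exact congrArg Sum.inr (orbit_injOn hθ hγ hi hj he')
    have := weights_independent (fun a => η a) (fun i a => (G i a : K)) u s hinj
      (fun i hi a => hu i hi a) hz (Sum.inr 0) (by simp [s, hr.out.pos])
    simp [u] at this
    exact hw0 this
  have hTw : T w - w = 0 := by
    have hd : IsWeight η γ (T w - w) := fun a => by
      have h1 := hw' a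
      rw [hsame] at h1
      rw [map_sub, h1, hw a, smul_sub]
    have h0 : ∑ i ∈ Finset.range r, (S ^ i) (T w - w) = 0 := by
      rw [← orbitSum_apply, map_sub, ← orbitSum_comm hTS]
      rw [hn] at hz
      exact hz
    have := weights_independent (fun a => η a)
      (fun i a => ((γ.comp ((θ ^ i)⁻¹ : MulAut A).toMonoidHom) a : K))
      (fun i => (S ^ i) (T w - w)) (Finset.range r) ?_ (fun i _ a => hd.pow hS i a) h0 0
      (Finset.mem_range.mpr hr.out.pos)
    · simpa using this
    · intro i hi j hj he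
      exact orbit_injOn hθ hγ (Finset.mem_range.mp hi) (Finset.mem_range.mp hj)
        (MonoidHom.ext fun a => Units.ext (congrFun he a))
  refine ⟨MonoidHom.ext fun a => ?_, sub_eq_zero.mp hTw⟩
  have := DFunLike.congr_fun hsame (x a)
  simp only [γ', MonoidHom.comp_apply, MulEquiv.coe_toMonoidHom, MulAut.inv_apply_self] at this
  exact this.symm

omit hcop hθ hSr hspan hΛ in
/-- A moved weight, or a fixed weight vector. -/
theorem moved_or_fixed_weight (hC : ∃ v, v ≠ 0 ∧ S v = v) :
    (∃ (γ : A →* Kˣ) (w : V), w ≠ 0 ∧ IsWeight η γ w ∧ γ.comp θ.toMonoidHom ≠ γ) ∨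
      (∃ (γ : A →* Kˣ) (w : V), w ≠ 0 ∧ IsWeight η γ w ∧ γ.comp θ.toMonoidHom = γ ∧ S w = w) := by
  by_contra hno
  push Not at hno
  obtain ⟨hall, hnone⟩ := hno
  have hcomm : ∀ a, S * η a = η a * S := by
    intro a
    refine LinearMap.ext_on_range (ι := {v : V | ∃ θ' : A →* Kˣ, ∀ h, η h v = (θ' h : K) • v})
      (v := Subtype.val) (by rw [Subtype.range_coe]; exact span_weights_eq_top hA η) fun ⟨v, γ, hv⟩ => ?_
    show S (η a v) = η a (S v)
    by_cases hv0 : v = 0
    · simp [hv0]
    have hfix := hall γ v hv0 hv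
    have h1 := LinearMap.congr_fun (hS ((θ⁻¹ : MulAut A) a)) v
    rw [Module.End.mul_apply, Module.End.mul_apply, MulAut.apply_inv_self, hv, map_smul] at h1
    rw [hv, map_smul, ← h1]
    congr 2
    have := DFunLike.congr_fun hfix ((θ⁻¹ : MulAut A) a)
    simp only [MonoidHom.comp_apply, MulEquiv.coe_toMonoidHom, MulAut.apply_inv_self] at this
    exact this
  let Cs : Submodule K V := LinearMap.ker (S - 1)
  have hmem : ∀ v, v ∈ Cs ↔ S v = v := fun v => by simp [Cs, sub_eq_zero]
  have hinv : ∀ a, ∀ v ∈ Cs, η a v ∈ Cs := fun a v hv => by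
    rw [hmem] at hv ⊢
    rw [← Module.End.mul_apply, hcomm, Module.End.mul_apply, hv]
  let ηC : A →* Module.End K Cs :=
    { toFun := fun a => (η a).restrict (hinv a)
      map_one' := LinearMap.ext fun v => Subtype.ext (by simp)
      map_mul' := fun a b => LinearMap.ext fun v => Subtype.ext (by simp) }
  obtain ⟨v, hv0, hv⟩ := hC
  haveI : Nontrivial Cs := nontrivial_of_ne (⟨v, (hmem v).mpr hv⟩ : Cs) 0
    fun h => hv0 (congrArg Subtype.val h)
  have htop := span_weights_eq_top hA ηC
  obtain ⟨w, hw, hw0⟩ : ∃ w ∈ {v : Cs | ∃ θ' : A →* Kˣ, ∀ h, ηC h v = (θ' h : K) • v}, w ≠ 0 := by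
    by_contra h
    push Not at h
    have : (⊤ : Submodule K Cs) ≤ ⊥ := htop ▸ Submodule.span_le.mpr fun u hu => by simp [h u hu]
    exact top_ne_bot (le_bot_iff.mp this)
  obtain ⟨γ, hγ⟩ := hw
  have hwV : (w : V) ≠ 0 := fun h => hw0 (Subtype.ext h)
  have hγV : IsWeight η γ (w : V) := fun a => congrArg Subtype.val (hγ a)
  exact hnone γ _ hwV hγV (hall γ _ hwV hγV) ((hmem _).mp w.2)

end Orbit

end CfsgLib.PGroups.Turull
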