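import Mathlib
import Cfsg.Agent.Lib.PGroups.Turull.Weights

/-!
# A group of automorphisms on an extended elementary abelian group

* `extRep`: the automorphisms of `E` on `K ⊗ E`
* `extLabels`: extensions of functionals on `E`; they separate (`extLabels_sep`)
* `exists_fixed_witness`: a fixed vector that is not killed comes from a fixed element
-/

set_option autoImplicit false
set_option linter.all false
set_option maxHeartbeats 1000000

namespace CfsgLib.PGroups.Turull

open scoped TensorProduct

/-- The extension of a functional. -/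
noncomputable def extDual {p : ℕ} [Fact p.Prime] (K : Type*) [Field K] [Algebra (ZMod p) K] {M : Type*}
    [AddCommGroup M] [Module (ZMod p) M] :
    Module.Dual (ZMod p) M →ₗ[ZMod p] Module.Dual K (K ⊗[ZMod p] M) where
  toFun f := LinearMap.liftBaseChange K ((Algebra.linearMap (ZMod p) K).comp f)
  map_add' f g := by ext; simp
  map_smul' c f := by ext; simp [Algebra.smul_def]

theorem extDual_tmul {p : ℕ} [Fact p.Prime] (K : Type*) [Field K] [Algebra (ZMod p) K] {M : Type*}
    [AddCommGroup M] [Module (ZMod p) M] (f : Module.Dual (ZMod p) M) (k : K) (m : M) :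
    extDual K f (k ⊗ₜ[ZMod p] m) = k * algebraMap (ZMod p) K (f m) := by
  simp [extDual]

/-- Separating functionals extend to separating functionals. -/
theorem extDual_sep {p : ℕ} [Fact p.Prime] (K : Type*) [Field K] [Algebra (ZMod p) K] {M : Type*}
    [AddCommGroup M] [Module (ZMod p) M] [Module.Finite (ZMod p) M] {F : Set (Module.Dual (ZMod p) M)}
    (hF : ∀ m, (∀ f ∈ F, f m = 0) → m = 0) {v : K ⊗[ZMod p] M}
    (hv : ∀ f ∈ F, extDual K f v = 0) : v = 0 := by
  have htop : Submodule.span (ZMod p) F = ⊤ := by
    by_contra hne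
    obtain ⟨g, hg, hgF⟩ := Submodule.exists_dual_map_eq_bot_of_lt_top (lt_top_iff_ne_top.mpr hne) inferInstance
    obtain ⟨m, rfl⟩ := (Module.evalEquiv (ZMod p) M).surjective g
    refine hg ?_
    rw [hF m fun f hf => ?_, map_zero]
    have h1 : (Module.evalEquiv (ZMod p) M m) f ∈ (Submodule.span (ZMod p) F).map
        (Module.evalEquiv (ZMod p) M m) := Submodule.mem_map_of_mem (Submodule.subset_span hf)
    rw [hgF] at h1
    exact h1
  have hall : ∀ f, extDual K f v = 0 := by
    intro f
    have hf : f ∈ Submodule.span (ZMod p) F := htop ▸ Submodule.mem_top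
    induction hf using Submodule.span_induction with
    | mem x hx => exact hv x hx
    | zero => simp
    | add x y _ _ hx hy => rw [map_add, LinearMap.add_apply, hx, hy, add_zero]
    | smul c x _ hx => rw [map_smul, LinearMap.smul_apply, hx, smul_zero]
  let b := Module.finBasis (ZMod p) M
  refine (b.baseChange K).ext_elem fun j => ?_
  rw [map_zero, Finsupp.zero_apply, ← hall (b.coord j)]
  have h1 : (b.baseChange K).coord j = extDual K (b.coord j) := by
    refine LinearMap.ext fun w => ?_
    induction w using TensorProduct.induction_on with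
    | zero => simp
    | add x y hx hy => rw [map_add, map_add, hx, hy]
    | tmul k m =>
      rw [extDual_tmul, Module.Basis.coord_apply, Module.Basis.baseChange_repr_tmul,
        Module.Basis.coord_apply, Algebra.smul_def, mul_comm]
  rw [← h1]
  rfl

variable {p : ℕ} [Fact p.Prime] (K : Type*) [Field K] [Algebra (ZMod p) K] {E : Type*} [CommGroup E]
  [Module (ZMod p) (Additive E)]

/-- An endomorphism of the group as a linear map. -/
noncomputable def linOf (α : MulAut E) : Module.End (ZMod p) (Additive E) :=
  AddMonoidHom.toZModLinearMap p (MonoidHom.toAdditive α.toMonoidHom)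

theorem linOf_apply (α : MulAut E) (a : E) :
    (linOf α : Module.End (ZMod p) (Additive E)) (Additive.ofMul a) = Additive.ofMul (α a) := rfl

/-- The automorphisms on the extended group. -/
noncomputable def extRep : MulAut E →* Module.End K (K ⊗[ZMod p] Additive E) where
  toFun α := (linOf α).baseChange K
  map_one' := by
    rw [show (linOf (1 : MulAut E) : Module.End (ZMod p) (Additive E)) = LinearMap.id from
      LinearMap.ext fun v => rfl, LinearMap.baseChange_id]
    rfl
  map_mul' α β := by
    rw [show (linOf (α * β) : Module.End (ZMod p) (Additive E)) = (linOf α).comp (linOf β) from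
      LinearMap.ext fun v => rfl, LinearMap.baseChange_comp]
    rfl

theorem extRep_tmul (α : MulAut E) (k : K) (a : E) :
    extRep (p := p) K α (k ⊗ₜ[ZMod p] Additive.ofMul a) = k ⊗ₜ[ZMod p] Additive.ofMul (α a) := rfl

theorem extRep_injective : Function.Injective (extRep (p := p) (E := E) K) := by
  intro α β hab
  refine MulEquiv.ext fun a => ?_
  have h1 : (1 : K) ⊗ₜ[ZMod p] Additive.ofMul (α a) = (1 : K) ⊗ₜ[ZMod p] Additive.ofMul (β a) :=
    LinearMap.congr_fun hab ((1 : K) ⊗ₜ Additive.ofMul a)
  have h2 := Module.Flat.rTensor_preserves_injective_linearMap (M := Additive E)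
    (Algebra.linearMap (ZMod p) K) (algebraMap (ZMod p) K).injective
  have h3 : ((Algebra.linearMap (ZMod p) K).rTensor (Additive E)) ((1 : ZMod p) ⊗ₜ Additive.ofMul (α a)) =
      ((Algebra.linearMap (ZMod p) K).rTensor (Additive E)) ((1 : ZMod p) ⊗ₜ Additive.ofMul (β a)) := by
    simpa using h1
  simpa using congrArg (fun z => TensorProduct.lid (ZMod p) (Additive E) z) (h2 h3)

/-- A functional as a linear map. -/
noncomputable def dualOf (f : E →* Multiplicative (ZMod p)) : Module.Dual (ZMod p) (Additive E) :=
  AddMonoidHom.toZModLinearMap p (MonoidHom.toAdditiveLeft f)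

theorem dualOf_apply (f : E →* Multiplicative (ZMod p)) (a : E) :
    dualOf f (Additive.ofMul a) = Multiplicative.toAdd (f a) := rfl

/-- The extended functionals. -/
noncomputable def extLabels (F : Set (E →* Multiplicative (ZMod p))) :
    Set (Module.Dual K (K ⊗[ZMod p] Additive E)) :=
  (fun f => extDual K (dualOf f)) '' F

theorem extLabels_sep [Finite E] {F : Set (E →* Multiplicative (ZMod p))}
    (hF : ∀ a, (∀ f ∈ F, f a = 1) → a = 1) :
    ∀ v, (∀ g ∈ extLabels K F, g v = 0) → v = 0 := fun v hv => by
  haveI : Module.Finite (ZMod p) (Additive E) := Module.Finite.of_finite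
  refine extDual_sep K (F := dualOf '' F) (fun m hm => ?_) ?_
  · obtain ⟨a, rfl⟩ := Additive.ofMul.surjective m
    rw [hF a fun f hf => ?_]
    · rfl
    · exact Multiplicative.toAdd.injective (hm _ ⟨f, hf, rfl⟩)
  · rintro _ ⟨f, hf, rfl⟩
    exact hv _ ⟨f, hf, rfl⟩

theorem extLabels_comp {F : Set (E →* Multiplicative (ZMod p))} {α : MulAut E}
    (hα : ∀ f ∈ F, f.comp α.toMonoidHom ∈ F) :
    ∀ g ∈ extLabels K F, g.comp (extRep (p := p) K α) ∈ extLabels K F := by
  rintro _ ⟨f, hf, rfl⟩
  refine ⟨_, hα f hf, LinearMap.ext fun w => ?_⟩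
  induction w using TensorProduct.induction_on with
  | zero => simp
  | add x y hx hy => rw [map_add, map_add, hx, hy]
  | tmul k m =>
    obtain ⟨a, rfl⟩ := Additive.ofMul.surjective m
    rw [LinearMap.comp_apply, extRep_tmul, extDual_tmul, extDual_tmul, dualOf_apply, dualOf_apply]
    rfl

/-- A fixed vector that is not killed comes from a fixed element. -/
theorem exists_fixed_witness {F : Set (E →* Multiplicative (ZMod p))} {s : MulAut E} {r : ℕ}
    (hr : (r : K) ≠ 0) (hs : s ^ r = 1) (D : Module.End (ZMod p) (Additive E))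
    {n : K ⊗[ZMod p] Additive E}
    (hn : extRep (p := p) K s n = n) (hk : ¬ Kills (extLabels K F) (extRep (p := p) K s) (D.baseChange K n)) :
    ∃ a : E, s a = a ∧ ∃ f ∈ F, f.comp s.toMonoidHom ≠ f ∧ dualOf f (D (Additive.ofMul a)) ≠ 0 := by
  simp only [Kills, not_forall] at hk
  obtain ⟨_, ⟨f, hf, rfl⟩, hmv, hne⟩ := hk
  have hmoved : f.comp s.toMonoidHom ≠ f := by
    intro he
    refine hmv (LinearMap.ext fun w => ?_)
    induction w using TensorProduct.induction_on with
    | zero => simp
    | add x y hx hy => rw [map_add, map_add, hx, hy]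
    | tmul k m =>
      obtain ⟨a, rfl⟩ := Additive.ofMul.surjective m
      rw [LinearMap.comp_apply, extRep_tmul, extDual_tmul, extDual_tmul, dualOf_apply, dualOf_apply]
      rw [show f (s a) = f a from DFunLike.congr_fun he a]
  set S0 : Module.End (ZMod p) (Additive E) := linOf s with hS0
  have hpow : ∀ (j : ℕ) (a : E), (S0 ^ j) (Additive.ofMul a) = Additive.ofMul ((s ^ j) a) := by
    intro j
    induction j with
    | zero => intro a; rfl
    | succ j ih => intro a; rw [pow_succ', Module.End.mul_apply, ih, pow_succ']; rfl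
  have hS0r : S0 ^ r = 1 := LinearMap.ext fun v => by
    obtain ⟨a, rfl⟩ := Additive.ofMul.surjective v
    rw [hpow, hs]
    rfl
  obtain ⟨a, ha⟩ : ∃ a, dualOf f (D (orbitSum S0 r a)) ≠ 0 := by
    by_contra hno
    push Not at hno
    have hzero : ∀ v, extDual K (dualOf f) (D.baseChange K (orbitSum (extRep (p := p) K s) r v)) = 0 := by
      intro v
      induction v using TensorProduct.induction_on with
      | zero => simp
      | add x y hx hy => rw [map_add, map_add, map_add, hx, hy, add_zero]
      | tmul k m =>
        obtain ⟨a, rfl⟩ := Additive.ofMul.surjective m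
        have e : orbitSum (extRep (p := p) K s) r (k ⊗ₜ[ZMod p] Additive.ofMul a) =
            k ⊗ₜ[ZMod p] orbitSum S0 r (Additive.ofMul a) := by
          rw [orbitSum_apply, orbitSum_apply, TensorProduct.tmul_sum]
          exact Finset.sum_congr rfl fun j _ => by rw [← map_pow, extRep_tmul, hpow]
        rw [e, LinearMap.baseChange_tmul, extDual_tmul, hno, map_zero, mul_zero]
    have h1 := hzero n
    rw [orbitSum_of_fixed (K := K) hn, map_smul, map_smul, smul_eq_mul] at h1
    exact hne ((mul_eq_zero.mp h1).resolve_left hr)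
  obtain ⟨b, hb⟩ := Additive.ofMul.surjective (orbitSum S0 r a)
  refine ⟨b, ?_, f, hf, hmoved, hb ▸ ha⟩
  have h1 := orbitSum_fixed hS0r a
  rw [← hb] at h1
  exact Additive.ofMul.injective h1

end CfsgLib.PGroups.Turull
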