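import Mathlib
import Cfsg.Agent.Lib.PGroups.ShultGross.Counting

/-!
# The multiplicities of a semiregular operator on a twisted group algebra

* `eigen_diff`: on an irreducible space two eigenspaces of the operator differ in dimension by at
  most one
-/

set_option autoImplicit false
set_option linter.all false
set_option maxHeartbeats 1000000

namespace CfsgLib.PGroups.Turull

open CfsgLib.PGroups.ShultGross Module

variable {K : Type*} [Field K] [IsAlgClosed K] {U : Type*} [AddCommGroup U] [Module K U]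
  [FiniteDimensional K U] [Nontrivial U] {E : Type*} [CommGroup E] [Finite E]

/-- The eigenspaces have almost equal dimensions. -/
theorem eigen_diff {e : E → Module.End K U} {c : E → E → K} (h : Twisted e c)
    (hirr : ∀ S : Submodule K U, (∀ a, ∀ v ∈ S, e a v ∈ S) → S = ⊥ ∨ S = ⊤)
    (hE : (Nat.card E : K) ≠ 0) {φ : MulAut E} {m : ℕ}
    (hmK : (m : K) ≠ 0) (hφm : φ ^ m = 1)
    (hfree : ∀ i, 0 < i → i < m → ∀ a, (φ ^ i) a = a → a = 1)
    (β : Module.End K U) (s : E → K) (hβe : ∀ a, β * e a = s a • (e (φ a) * β))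
    (hβm : β ^ m = 1) {μ ν : K} (hμ : μ ^ m = 1) (hν : ν ^ m = 1) :
    finrank K (Module.End.eigenspace β μ) ≤ finrank K (Module.End.eigenspace β ν) + 1 := by
  classical
  haveI := Fintype.ofFinite E
  haveI : NeZero m := ⟨by rintro rfl; simp at hmK⟩
  -- every averaged operator is a scalar
  have hscalar : ∀ X : Module.End K U, ∃ k : K, h.avg X = k • (1 : Module.End K U) := by
    intro X
    obtain ⟨k, hk⟩ := Module.End.exists_eigenvalue (h.avg X)
    refine ⟨k, ?_⟩
    rcases hirr (Module.End.eigenspace (h.avg X) k) (fun a v hv => by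
      rw [Module.End.mem_eigenspace_iff] at hv ⊢
      rw [← Module.End.mul_apply, ← (h.commute_avg a X).eq, Module.End.mul_apply, hv, map_smul]) with hS | hS
    · exact absurd hS hk
    · refine LinearMap.ext fun v => ?_
      have : v ∈ Module.End.eigenspace (h.avg X) k := hS ▸ Submodule.mem_top
      rw [Module.End.mem_eigenspace_iff] at this
      rw [this, LinearMap.smul_apply, Module.End.one_apply]
  -- the operators form a basis
  have hind : LinearIndependent K e := by
    rw [Fintype.linearIndependent_iff]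
    intro g hg a
    have h1 := weights_independent (V := Module.End K U)
      (fun x => (LinearMap.mulRight K (↑(h.u x)⁻¹ : Module.End K U)).comp (LinearMap.mulLeft K (e x)))
      (fun i x => h.κ x i) (fun i => g i • e i) Finset.univ ?_ (fun i _ x => ?_) hg a (Finset.mem_univ a)
    · exact (smul_eq_zero.mp h1).resolve_right (h.ne_zero a)
    · intro i _ j _ hij
      by_contra hne
      obtain ⟨x, hx⟩ := h.exists_κ_ne_one (a := i * j⁻¹) (by rwa [Ne, mul_inv_eq_one])
      refine hx ?_
      have e1 : h.conj x (e (i * j⁻¹) * e j) = h.κ x (i * j⁻¹) • (h.κ x j • (e (i * j⁻¹) * e j)) := by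
        rw [show h.conj x (e (i * j⁻¹) * e j) = h.conj x (e (i * j⁻¹)) * h.conj x (e j) by
          unfold ShultGross.Twisted.conj
          simp only [mul_assoc]
          rw [← mul_assoc (↑(h.u x)⁻¹ : Module.End K U) (e x), h.inv_mul_e, one_mul],
          h.conj_e, h.conj_e, smul_mul_smul_comm, smul_smul]
      rw [h.mul, inv_mul_cancel_right, h.conj_smul, h.conj_e] at e1
      simp only [smul_smul] at e1
      have e2 := smul_left_injective K (h.ne_zero i) e1
      have e3 : h.κ x i = h.κ x j := congrFun hij x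
      rw [e3] at e2
      have : (1 : K) * (h.κ x j * c (i * j⁻¹) j) = h.κ x (i * j⁻¹) * (h.κ x j * c (i * j⁻¹) j) := by
        rw [one_mul]
        linear_combination e2
      exact (mul_right_cancel₀ (mul_ne_zero (h.κ_ne _ _) (h.c_ne _ _)) this).symm
    · show e x * (g i • e i) * ↑(h.u x)⁻¹ = _
      rw [show e x * (g i • e i) * ↑(h.u x)⁻¹ = h.conj x (g i • e i) from rfl, h.conj_smul, h.conj_e,
        smul_comm]
  have hspan : ⊤ ≤ Submodule.span K (Set.range e) := by
    intro X _
    have h1 : (Nat.card E : K) • X ∈ Submodule.span K (Set.range e) := by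
      rw [← h.expansion X]
      refine sum_mem fun d _ => ?_
      obtain ⟨k, hk⟩ := hscalar (↑(h.u d)⁻¹ * X)
      rw [hk, mul_smul_comm, mul_one]
      exact Submodule.smul_mem _ _ (Submodule.subset_span ⟨d, rfl⟩)
    have h2 := Submodule.smul_mem _ (Nat.card E : K)⁻¹ h1
    rwa [smul_smul, inv_mul_cancel₀ hE, one_smul] at h2
  let be : Basis E K (Module.End K U) := Basis.mk hind hspan
  have hbe : ∀ a, be a = e a := fun a => Basis.mk_apply hind hspan a
  -- conjugation by `β`
  obtain ⟨m', rfl⟩ : ∃ m', m = m' + 1 := ⟨m - 1, (Nat.succ_pred_eq_of_pos (NeZero.pos m)).symm⟩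
  let C : Module.End K (Module.End K U) :=
    (LinearMap.mulRight K (β ^ m')).comp (LinearMap.mulLeft K β)
  have hCe : ∀ a, C (e a) = s a • e (φ a) := fun a => by
    show β * e a * β ^ m' = _
    rw [hβe, smul_mul_assoc, mul_assoc, ← pow_succ', hβm, mul_one]
  have hs1 : s 1 = 1 := by
    have h1 := hCe 1
    rw [map_one, h.one, show C 1 = β * 1 * β ^ m' from rfl, mul_one, ← pow_succ', hβm] at h1
    exact (smul_left_injective K (one_ne_zero (α := Module.End K U))
      (show (1 : K) • (1 : Module.End K U) = s 1 • 1 by rw [one_smul]; exact h1)).symm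
  have hs0 : ∀ a, s a ≠ 0 := fun a h0 => h.ne_zero a (by
    have h1 := hβe a
    rw [h0, zero_smul] at h1
    calc e a = β ^ (m' + 1) * e a := by rw [hβm, one_mul]
      _ = β ^ m' * (β * e a) := by rw [pow_succ, mul_assoc]
      _ = 0 := by rw [h1, mul_zero])
  obtain ⟨ω, hω⟩ : ∃ ω : K, IsPrimitiveRoot ω (m' + 1) :=
    haveI : NeZero ((m' + 1 : ℕ) : K) := ⟨hmK⟩
    HasEnoughRootsOfUnity.exists_primitiveRoot K (m' + 1)
  let w : ZMod (m' + 1) → K := fun t => ω ^ t.val
  have hw0 : w 0 = 1 := by simp [w]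
  have hwadd : ∀ a b, w (a + b) = w a * w b := fun a b => by
    simp only [w, ← pow_add, ZMod.val_add]
    exact (pow_eq_pow_mod _ hω.pow_eq_one).symm
  have hwinj : Function.Injective w := fun a b hab =>
    ZMod.val_injective _ (hω.pow_inj (ZMod.val_lt a) (ZMod.val_lt b) hab)
  have hwne : ∀ a, w a ≠ 0 := fun a => pow_ne_zero _ (hω.ne_zero (Nat.succ_ne_zero _))
  -- positions in the free orbits
  obtain ⟨R, hR⟩ := CfsgLib.Core.HHCritical.exists_orbit_reps (MulAut.toPerm E φ) (m' + 1) (Nat.succ_pos _)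
    (by rw [← map_pow, hφm, map_one]) (fun a => a ≠ 1) (fun a ha i hi1 hi2 hia => ha (hfree i hi1 hi2 a (by
      rw [← map_pow] at hia; exact hia)))
  let pos : E → ℕ := fun a => if ha : a ≠ 1 then Classical.choose (hR a ha) else 0
  have hpos : ∀ a, a ≠ 1 → pos a < m' + 1 ∧ (φ ^ pos a) a ∈ R ∧
      ∀ i, i < m' + 1 → (φ ^ i) a ∈ R → i = pos a := by
    intro a ha
    simp only [pos, dif_pos ha]
    have h1 := Classical.choose_spec (hR a ha)
    have hpw : ∀ (i : ℕ) (b : E), ((MulAut.toPerm E φ) ^ i) b = (φ ^ i) b := fun i b => by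
      rw [← map_pow]; rfl
    exact ⟨h1.1.1, hpw _ a ▸ h1.1.2, fun i hi hiR => h1.2 i ⟨hi, (hpw i a).symm ▸ hiR⟩⟩
  let k : E → ZMod (m' + 1) := fun a => -(pos a : ZMod (m' + 1))
  have hk : ∀ a, a ≠ 1 → k (φ a) = k a + 1 := by
    intro a ha
    have hφa : φ a ≠ 1 := fun e' => ha (φ.injective (by rw [e', map_one]))
    obtain ⟨h1, h2, -⟩ := hpos (φ a) hφa
    obtain ⟨-, -, h3⟩ := hpos a ha
    have h4 : (φ ^ ((pos (φ a) + 1) % (m' + 1))) a ∈ R := by
      rw [← pow_eq_pow_mod _ hφm, pow_succ, MulAut.mul_apply]; exact h2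
    have h5 := h3 _ (Nat.mod_lt _ (Nat.succ_pos _)) h4
    show -(pos (φ a) : ZMod (m' + 1)) = -(pos a : ZMod (m' + 1)) + 1
    rw [← h5, ZMod.natCast_mod]
    push_cast; ring
  -- the eigenspaces of `C` have almost equal dimensions
  let coef : Module.End K (Module.End K U) →ₗ[K] Module.End K (Module.End K U) := LinearMap.id
  let H0 : Submodule K (Module.End K U) := LinearMap.ker (be.coord 1)
  let Eig : ZMod (m' + 1) → Submodule K (Module.End K U) := fun t => Module.End.eigenspace C (w t)
  have hshift : ∀ a b, finrank K ↥(Eig a ⊓ H0) ≤ finrank K ↥(Eig b ⊓ H0) := by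
    intro a b
    let D : Module.End K (Module.End K U) :=
      be.constr K fun x => (if x = 1 then (0 : K) else w ((a - b) * k x)) • e x
    have hDe : ∀ x, D (e x) = (if x = 1 then (0 : K) else w ((a - b) * k x)) • e x := fun x => by
      rw [← hbe x, Basis.constr_basis, hbe]
    have hCD : ∀ X, C (D X) = w (b - a) • D (C X) := by
      refine LinearMap.congr_fun (be.ext (f₁ := C * D) (f₂ := w (b - a) • (D * C)) fun x => ?_)
      rw [hbe, LinearMap.smul_apply, Module.End.mul_apply, Module.End.mul_apply, hDe, map_smul,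
        hCe, map_smul, hDe, smul_smul, smul_smul, smul_smul]
      congr 1
      by_cases hx : x = 1
      · subst hx; simp
      · rw [if_neg hx, if_neg fun e' => hx (φ.injective (by rw [e', map_one])), hk x hx,
          mul_add, mul_one, hwadd]
        have : w (b - a) * w (a - b) = 1 := by rw [← hwadd, show b - a + (a - b) = 0 by abel, hw0]
        linear_combination (-(s x) * w ((a - b) * k x)) * this
    have hcoord : ∀ X x, be.coord x (D X) = (if x = 1 then (0 : K) else w ((a - b) * k x)) * be.coord x X := by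
      intro X x
      refine LinearMap.congr_fun (be.ext (f₁ := (be.coord x).comp D)
        (f₂ := (if x = 1 then (0 : K) else w ((a - b) * k x)) • be.coord x) fun y => ?_) X
      rw [LinearMap.comp_apply, LinearMap.smul_apply, hbe, hDe, map_smul, ← hbe, be.coord_apply,
        be.repr_self, smul_eq_mul, smul_eq_mul]
      by_cases hxy : y = x
      · subst hxy; rfl
      · rw [Finsupp.single_eq_of_ne (Ne.symm hxy), mul_zero, mul_zero]
    let f : ↥(Eig a ⊓ H0) →ₗ[K] ↥(Eig b ⊓ H0) :=
      (D.comp (Eig a ⊓ H0).subtype).codRestrict _ fun X => by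
        refine ⟨?_, ?_⟩
        · show D X.1 ∈ Module.End.eigenspace C (w b)
          rw [Module.End.mem_eigenspace_iff, hCD, Module.End.mem_eigenspace_iff.mp X.2.1, map_smul,
            smul_smul, ← hwadd, sub_add_cancel]
        · show be.coord 1 (D X.1) = 0
          rw [hcoord, if_pos rfl, zero_mul]
    refine LinearMap.finrank_le_finrank_of_injective (f := f) (LinearMap.ker_eq_bot.mp ?_)
    rw [eq_bot_iff]
    intro X hX
    have h1 : D X.1 = 0 := congrArg Subtype.val (LinearMap.mem_ker.mp hX)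
    have h2 : be.coord 1 X.1 = 0 := X.2.2
    rw [Submodule.mem_bot]
    refine Subtype.ext (be.forall_coord_eq_zero_iff.mp fun x => ?_)
    by_cases hx : x = 1
    · subst hx; exact h2
    · have h3 := hcoord X.1 x
      rw [h1, map_zero, if_neg hx] at h3
      exact (mul_eq_zero.mp h3.symm).resolve_left (hwne _)
  have hcoordC : ∀ X, be.coord 1 (C X) = be.coord 1 X := by
    refine LinearMap.congr_fun (be.ext (f₁ := (be.coord 1).comp C) (f₂ := be.coord 1) fun x => ?_)
    rw [LinearMap.comp_apply, hbe, hCe, map_smul, ← hbe, ← hbe, be.coord_apply, be.coord_apply,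
      be.repr_self, be.repr_self]
    by_cases hx : x = 1
    · subst hx; simp [hs1]
    · have hφx : φ x ≠ 1 := fun e' => hx (φ.injective (by rw [e', map_one]))
      rw [Finsupp.single_eq_of_ne (Ne.symm hφx), Finsupp.single_eq_of_ne (Ne.symm hx), smul_zero]
  have hsub : ∀ t, t ≠ 0 → Eig t ≤ H0 := by
    intro t ht X hX
    have h1 := hcoordC X
    rw [Module.End.mem_eigenspace_iff.mp hX, map_smul, smul_eq_mul] at h1
    by_contra hne
    exact ht (hwinj (by rw [hw0]; exact (mul_left_eq_self₀.mp h1).resolve_right hne))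
  have hdim : ∀ t, t ≠ 0 → finrank K (Eig t) + 1 = finrank K (Eig 0) := by
    intro t ht
    have e1 : finrank K ↥(Eig t ⊓ H0) = finrank K (Eig t) := by rw [inf_eq_left.mpr (hsub t ht)]
    have e2 : finrank K ↥(Eig t ⊓ H0) = finrank K ↥(Eig 0 ⊓ H0) :=
      le_antisymm (hshift t 0) (hshift 0 t)
    have hone : (1 : Module.End K U) ∈ Eig 0 := by
      rw [Module.End.mem_eigenspace_iff, hw0, one_smul, ← h.one, hCe, map_one, hs1, one_smul]
    let g : Eig 0 →ₗ[K] K := (be.coord 1).comp (Eig 0).subtype
    have hgs : LinearMap.range g = ⊤ := by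
      refine LinearMap.range_eq_top.mpr fun r => ⟨r • ⟨1, hone⟩, ?_⟩
      show be.coord 1 (r • (1 : Module.End K U)) = r
      rw [map_smul, ← h.one, ← hbe 1, be.coord_apply, be.repr_self, Finsupp.single_eq_same,
        smul_eq_mul, mul_one]
    have e3 := LinearMap.finrank_range_add_finrank_ker g
    rw [hgs, finrank_top, finrank_self] at e3
    have e4 : finrank K (LinearMap.ker g) = finrank K ↥(Eig 0 ⊓ H0) := by
      refine LinearEquiv.finrank_eq
        { toFun := fun X => ⟨X.1.1, X.1.2, X.2⟩
          invFun := fun X => ⟨⟨X.1, X.2.1⟩, X.2.2⟩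
          map_add' := fun _ _ => rfl
          map_smul' := fun _ _ => rfl
          left_inv := fun _ => rfl
          right_inv := fun _ => rfl }
    omega
  -- an eigenbasis of `β`
  let ρ : Multiplicative (ZMod (m' + 1)) →* Module.End K U :=
    { toFun := fun x => β ^ (Multiplicative.toAdd x).val
      map_one' := by simp
      map_mul' := fun x y => by
        simp only [toAdd_mul, ZMod.val_add, ← pow_add]
        exact (pow_eq_pow_mod _ hβm).symm }
  have htop := span_weights_eq_top (K := K) (H := Multiplicative (ZMod (m' + 1)))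
    (by rw [Nat.card_congr Multiplicative.toAdd, Nat.card_zmod]; exact hmK) ρ
  have hρ1 : ρ (Multiplicative.ofAdd 1) = β := by
    show β ^ (1 : ZMod (m' + 1)).val = β
    rw [ZMod.val_one_eq_one_mod]
    exact (pow_eq_pow_mod _ hβm).symm.trans (pow_one β)
  obtain ⟨S, hSs, hSspan, hSind⟩ := exists_linearIndependent K
    {v : U | ∃ θ : Multiplicative (ZMod (m' + 1)) →* Kˣ, ∀ x, ρ x v = (θ x : K) • v}
  rw [htop] at hSspan
  let bu : Basis S K U := Basis.mk hSind (by rw [Subtype.range_coe, hSspan])
  haveI : Fintype S := FiniteDimensional.fintypeBasisIndex bu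
  have hex : ∀ v : S, ∃ t : ZMod (m' + 1), β (bu v) = w t • bu v := by
    intro v
    obtain ⟨θ, hθ⟩ := hSs v.2
    rw [show bu v = (v : U) from Basis.mk_apply _ _ v]
    have hu : (θ (Multiplicative.ofAdd 1) : K) ^ (m' + 1) = 1 := by
      rw [← Units.val_pow_eq_pow_val, ← map_pow, ← ofAdd_nsmul, nsmul_one, ZMod.natCast_self,
        ofAdd_zero, map_one, Units.val_one]
    obtain ⟨i, hi, hθi⟩ := hω.eq_pow_of_pow_eq_one hu
    exact ⟨(i : ZMod (m' + 1)), by
      rw [← hρ1, hθ, show w (i : ZMod (m' + 1)) = ω ^ i by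
        simp only [w, ZMod.val_natCast, Nat.mod_eq_of_lt hi], hθi]⟩
  choose ε hε using hex
  have hεpow : ∀ (n : ℕ) v, (β ^ n) (bu v) = w (n • ε v) • bu v := by
    intro n v
    induction n with
    | zero => simp [hw0]
    | succ n ih => rw [pow_succ', Module.End.mul_apply, ih, map_smul, hε, smul_smul, succ_nsmul, hwadd]
  -- matrix units
  let bM : Basis (S × S) K (Module.End K U) := (Matrix.stdBasis K S S).map (Matrix.toLin bu bu)
  have hbM : ∀ x y v, bM (x, y) (bu v) = if y = v then bu x else 0 := by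
    intro x y v
    simp only [bM, Basis.map_apply, Matrix.stdBasis_eq_single, Matrix.toLin_self, Matrix.single_apply,
      ite_smul, one_smul, zero_smul]
    by_cases hyv : y = v
    · simp [hyv]
    · simp [hyv]
  have hCM : ∀ xy, C (bM xy) = w (ε xy.1 - ε xy.2) • bM xy := by
    rintro ⟨x, y⟩
    refine bu.ext fun v => ?_
    show (β * bM (x, y) * β ^ m') (bu v) = (w (ε x - ε y) • bM (x, y)) (bu v)
    rw [Module.End.mul_apply, Module.End.mul_apply, hεpow, map_smul, map_smul, LinearMap.smul_apply, hbM]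
    by_cases hyv : y = v
    · subst hyv
      rw [if_pos rfl, hε, smul_smul, ← hwadd]
      congr 2
      rw [nsmul_eq_mul, show (m' : ZMod (m' + 1)) = -1 from eq_neg_of_add_eq_zero_left (by
        exact_mod_cast ZMod.natCast_self (m' + 1))]
      ring
    · rw [if_neg hyv, map_zero, smul_zero, smul_zero]
  have hcount : ∀ t, finrank K (Eig t) = Nat.card {xy : S × S // ε xy.1 - ε xy.2 = t} := by
    intro t
    show finrank K (Module.End.eigenspace C (w t)) = _
    rw [finrank_diag_eigenspace bM C _ hCM (w t)]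
    exact Nat.card_congr (Equiv.subtypeEquivRight fun xy => hwinj.eq_iff)
  let nn : ZMod (m' + 1) → ℤ := fun j => ∑ x : S, if ε x = j then 1 else 0
  have hconv : ∀ t, ∑ j, nn j * nn (j + t) =
      ((Nat.card {xy : S × S // ε xy.1 - ε xy.2 = t} : ℕ) : ℤ) := by
    intro t
    have e' : ((Nat.card {xy : S × S // ε xy.1 - ε xy.2 = t} : ℕ) : ℤ) =
        ∑ x : S, ∑ y : S, if ε x - ε y = t then 1 else 0 := by
      rw [Nat.card_eq_fintype_card, Fintype.card_subtype, ← Fintype.sum_prod_type',
        Finset.sum_boole]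
    rw [e']
    simp only [nn, Finset.sum_mul_sum]
    rw [Finset.sum_comm, Finset.sum_comm (s := (Finset.univ : Finset S)) (t := (Finset.univ : Finset S))
      (f := fun x y => if ε x - ε y = t then (1 : ℤ) else 0)]
    refine Finset.sum_congr rfl fun y _ => ?_
    rw [Finset.sum_comm]
    refine Finset.sum_congr rfl fun x _ => ?_
    rw [Finset.sum_eq_single (ε y) (fun j _ hj => by rw [if_neg (Ne.symm hj), zero_mul]) (by simp),
      if_pos rfl, one_mul]
    by_cases h : ε x = ε y + t
    · rw [if_pos h, if_pos (by rw [h]; abel)]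
    · rw [if_neg h, if_neg fun e' => h (by rw [← e']; abel)]
  obtain ⟨i, hi, rfl⟩ := hω.eq_pow_of_pow_eq_one hμ
  obtain ⟨j, hj, rfl⟩ := hω.eq_pow_of_pow_eq_one hν
  have hwi : ∀ i, i < m' + 1 → ω ^ i = w (i : ZMod (m' + 1)) := fun i hi => by
    simp only [w, ZMod.val_natCast, Nat.mod_eq_of_lt hi]
  have hfr : ∀ t : ZMod (m' + 1), (finrank K (Module.End.eigenspace β (w t)) : ℤ) = nn t := by
    intro t
    rw [finrank_diag_eigenspace bu β _ hε (w t),
      Nat.card_congr (Equiv.subtypeEquivRight fun v => hwinj.eq_iff), Nat.card_eq_fintype_card,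
      Fintype.card_subtype]
    simp only [nn, Finset.sum_boole]
  rw [hwi i hi, hwi j hj]
  suffices hd : (nn i - nn j) ^ 2 ≤ 2 by
    have h1 : nn i ≤ nn j + 1 := by nlinarith
    rw [← hfr, ← hfr] at h1
    omega
  by_cases hij : (i : ZMod (m' + 1)) = j
  · simp [hij]
  set t : ZMod (m' + 1) := (j : ZMod (m' + 1)) - i with htdef
  have ht : t ≠ 0 := sub_ne_zero.mpr (Ne.symm hij)
  have hsq : ∑ k, (nn k - nn (k + t)) ^ 2 = 2 := by
    have e1 : ∑ k, nn (k + t) ^ 2 = ∑ k, nn k ^ 2 :=
      Equiv.sum_comp (Equiv.addRight t) (fun k => nn k ^ 2)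
    have e2 := hconv t
    have e3 := hconv 0
    have e4 : (Nat.card {xy : S × S // ε xy.1 - ε xy.2 = t} : ℤ) + 1 =
        Nat.card {xy : S × S // ε xy.1 - ε xy.2 = 0} := by
      rw [← hcount, ← hcount]; exact_mod_cast hdim t ht
    simp only [add_zero, ← sq] at e3
    have e5 : ∑ k, (nn k - nn (k + t)) ^ 2 =
        ∑ k, nn k ^ 2 + ∑ k, nn (k + t) ^ 2 - 2 * ∑ k, nn k * nn (k + t) := by
      rw [Finset.mul_sum, ← Finset.sum_add_distrib, ← Finset.sum_sub_distrib]
      exact Finset.sum_congr rfl fun k _ => by ring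
    rw [e5, e1, e2, e3]; linarith
  have h2 := Finset.single_le_sum (f := fun k => (nn k - nn (k + t)) ^ 2)
    (fun k _ => sq_nonneg _) (Finset.mem_univ (i : ZMod (m' + 1)))
  rw [hsq] at h2
  simpa [htdef] using h2

end CfsgLib.PGroups.Turull
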