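import Mathlib
import Cfsg.Agent.Lib.PGroups.ShultGross.Counting
import Cfsg.Agent.Lib.PGroups.Turull.Weights

/-!
# Killed fixed vectors of a twisted group algebra

* `exists_eigen_of_kills`: a fixed functional with killed translates gives a common eigen-operator
* `eq_zero_of_kills_irred`: a family of functionals killing the fixed vectors when moved is zero
* `eq_zero_of_kills_twisted`: an operator commuting with everything annihilates the fixed vectors
-/

set_option autoImplicit false
set_option linter.all false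
set_option maxHeartbeats 1000000

namespace CfsgLib.PGroups.Turull

open CfsgLib.PGroups.ShultGross

variable {K : Type*} [Field K] [IsAlgClosed K] {U : Type*} [AddCommGroup U] [Module K U]
  [FiniteDimensional K U] {E : Type*} [CommGroup E] [Finite E]
  {e : E → Module.End K U} {c : E → E → K}

section Basic

variable [Nontrivial U] (h : Twisted e c)
include h

theorem e_ne_apply (a : E) {v : U} (hv : v ≠ 0) : e a v ≠ 0 := fun h0 => hv (by
  have := congrArg (↑(h.u a)⁻¹ : Module.End K U) h0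
  rwa [map_zero, ← Module.End.mul_apply, h.inv_mul_e, Module.End.one_apply] at this)

theorem κ_self (a : E) : h.κ a a = 1 := div_self (h.c_ne a a)

theorem κ_swap (a b : E) : h.κ b a = (h.κ a b)⁻¹ := (inv_div _ _).symm

theorem κ_one_left (b : E) : h.κ 1 b = 1 := by
  have h1 := h.κ_mul 1 1 b
  rw [mul_one] at h1
  exact (mul_left_eq_self₀.mp h1.symm).resolve_right (h.κ_ne _ _)

theorem κ_mul_right (a b b' : E) : h.κ a (b * b') = h.κ a b * h.κ a b' := by
  rw [κ_swap h (b * b') a, κ_swap h b a, κ_swap h b' a, h.κ_mul, mul_inv]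

/-- The pairing as a character. -/
noncomputable def κhom (a : E) : E →* Kˣ where
  toFun b := Units.mk0 (h.κ a b) (h.κ_ne a b)
  map_one' := Units.ext (by
    show h.κ a 1 = 1
    rw [κ_swap h 1 a, κ_one_left h, inv_one])
  map_mul' b b' := Units.ext (κ_mul_right h a b b')

theorem κhom_apply (a b : E) : (κhom h a b : K) = h.κ a b := rfl

theorem κhom_injective : Function.Injective (κhom h) := by
  intro a b hab
  by_contra hne
  obtain ⟨x, hx⟩ := h.exists_κ_ne_one (a := a * b⁻¹) (by rwa [Ne, mul_inv_eq_one])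
  refine hx ?_
  rw [κ_swap h (a * b⁻¹) x, inv_eq_one]
  have h1 := h.κ_mul (a * b⁻¹) b x
  rw [inv_mul_cancel_right] at h1
  have h2 : h.κ a x = h.κ b x := congrArg Units.val (DFunLike.congr_fun hab x)
  rw [h2] at h1
  exact (mul_left_eq_self₀.mp h1.symm).resolve_right (h.κ_ne _ _)

/-- A proper subgroup is orthogonal to some non-identity element. -/
theorem exists_orth (hE : (Nat.card E : K) ≠ 0) {H : Subgroup E} (hH : H ≠ ⊤) :
    ∃ d, d ≠ 1 ∧ ∀ a ∈ H, h.κ d a = 1 := by
  haveI := Fintype.ofFinite E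
  haveI : NeZero (Monoid.exponent E : K) := ⟨fun h' => hE (by
    obtain ⟨m, hm⟩ := Group.exponent_dvd_nat_card (G := E)
    rw [hm, Nat.cast_mul, h', zero_mul])⟩
  haveI : Finite (E →* Kˣ) := Nat.finite_of_card_ne_zero (by
    rw [CommGroup.card_monoidHom_of_hasEnoughRootsOfUnity]; exact Nat.card_pos.ne')
  haveI : NeZero (Monoid.exponent (E ⧸ H) : K) := ⟨fun h' => hE (by
    obtain ⟨m, hm⟩ := (Group.exponent_dvd_nat_card (G := E ⧸ H)).trans H.card_quotient_dvd_card
    rw [hm, Nat.cast_mul, h', zero_mul])⟩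
  obtain ⟨b, hb⟩ : ∃ b, b ∉ H := by
    by_contra h'
    push Not at h'
    exact hH (eq_top_iff.mpr fun a _ => h' a)
  obtain ⟨χ, hχ⟩ := CommGroup.exists_apply_ne_one_of_hasEnoughRootsOfUnity (E ⧸ H) K
    (a := (b : E ⧸ H)) (by rwa [Ne, QuotientGroup.eq_one_iff])
  have hbij : Function.Bijective (κhom h) := (Nat.bijective_iff_injective_and_card _).mpr
    ⟨κhom_injective h, (CommGroup.card_monoidHom_of_hasEnoughRootsOfUnity E K).symm⟩
  obtain ⟨d, hd⟩ := hbij.2 (χ.comp (QuotientGroup.mk' H))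
  refine ⟨d, fun h1 => hχ (Units.ext ?_), fun a ha => ?_⟩
  · have := congrArg Units.val (DFunLike.congr_fun hd b)
    rw [h1] at this
    exact this.symm.trans (κ_one_left h b)
  · have := congrArg Units.val (DFunLike.congr_fun hd a)
    rw [κhom_apply, MonoidHom.comp_apply, QuotientGroup.mk'_apply,
      (QuotientGroup.eq_one_iff a).mpr ha, map_one, Units.val_one] at this
    exact this

/-- The operators span the endomorphisms of an irreducible space. -/
theorem span_range_eq_top
    (hirr : ∀ T : Submodule K U, (∀ a, ∀ v ∈ T, e a v ∈ T) → T = ⊥ ∨ T = ⊤)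
    (hE : (Nat.card E : K) ≠ 0) : Submodule.span K (Set.range e) = ⊤ := by
  haveI := Fintype.ofFinite E
  rw [eq_top_iff]
  intro X _
  have hsc : ∀ X : Module.End K U, ∃ k : K, h.avg X = k • (1 : Module.End K U) := by
    intro X
    obtain ⟨k, hk⟩ := Module.End.exists_eigenvalue (h.avg X)
    refine ⟨k, ?_⟩
    rcases hirr (Module.End.eigenspace (h.avg X) k) (fun a v hv => by
      rw [Module.End.mem_eigenspace_iff] at hv ⊢
      rw [← Module.End.mul_apply, ← (h.commute_avg a X).eq, Module.End.mul_apply, hv, map_smul])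
      with hS | hS
    · exact absurd hS hk
    · refine LinearMap.ext fun v => ?_
      have : v ∈ Module.End.eigenspace (h.avg X) k := hS ▸ Submodule.mem_top
      rw [Module.End.mem_eigenspace_iff] at this
      rw [this, LinearMap.smul_apply, Module.End.one_apply]
  have h1 : (Nat.card E : K) • X ∈ Submodule.span K (Set.range e) := by
    rw [← h.expansion X]
    refine sum_mem fun d _ => ?_
    obtain ⟨k, hk⟩ := hsc (↑(h.u d)⁻¹ * X)
    rw [hk, mul_smul_comm, mul_one]
    exact Submodule.smul_mem _ _ (Submodule.subset_span ⟨d, rfl⟩)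
  have h2 := Submodule.smul_mem _ (Nat.card E : K)⁻¹ h1
  rwa [smul_smul, inv_mul_cancel₀ hE, one_smul] at h2

/-- The elements for which every vector of a set is an eigenvector. -/
def eigenSubgroup (Y : Set U) : Subgroup E where
  carrier := {d | ∀ y ∈ Y, ∃ w : K, e d y = w • y}
  one_mem' := fun y _ => ⟨1, by rw [h.one, Module.End.one_apply, one_smul]⟩
  mul_mem' := fun {a b} ha hb y hy => by
    obtain ⟨w, hw⟩ := ha y hy
    obtain ⟨w', hw'⟩ := hb y hy
    refine ⟨(c a b)⁻¹ * (w' * w), ?_⟩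
    have h1 := LinearMap.congr_fun (h.mul a b) y
    rw [Module.End.mul_apply, hw', map_smul, hw, smul_smul, LinearMap.smul_apply] at h1
    rw [← smul_smul, h1, smul_smul, inv_mul_cancel₀ (h.c_ne a b), one_smul]
  inv_mem' := fun {a} ha y hy => by
    obtain ⟨w, hw⟩ := ha y hy
    by_cases hy0 : y = 0
    · exact ⟨0, by simp [hy0]⟩
    have hw0 : w ≠ 0 := fun h0 => e_ne_apply h a hy0 (by rw [hw, h0, zero_smul])
    refine ⟨w⁻¹ * c a⁻¹ a, ?_⟩
    have h1 := LinearMap.congr_fun (h.mul a⁻¹ a) y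
    rw [Module.End.mul_apply, hw, map_smul, inv_mul_cancel, h.one, LinearMap.smul_apply,
      Module.End.one_apply] at h1
    rw [← smul_smul, ← h1, smul_smul, inv_mul_cancel₀ hw0, one_smul]

end Basic

/-- Restriction of the labels to a nondegenerate subgroup. -/
theorem twisted_subgroup [Nontrivial U] (h : Twisted e c) (F : Subgroup E)
    (hF : ∀ a ∈ F, a ≠ 1 → ∃ b ∈ F, h.κ a b ≠ 1) :
    Twisted (fun a : F => e a) (fun a b : F => c a b) where
  c_ne a b := h.c_ne a b
  mul a b := h.mul a b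
  one := h.one
  nondeg a ha := by
    obtain ⟨b, hb, hne⟩ := hF a a.2 (fun h1 => ha (Subtype.ext h1))
    refine ⟨⟨b, hb⟩, fun heq => hne ?_⟩
    have h1 := h.comm (a : E) b
    rw [show e (a : E) * e b = e b * e (a : E) from heq] at h1
    have hne0 : e b * e (a : E) ≠ 0 := by
      rw [← h.u_val b, ← h.u_val (a : E), ← Units.val_mul]
      exact Units.ne_zero _
    exact (smul_left_injective K hne0
      (show (1 : K) • (e b * e (a : E)) = h.κ a b • (e b * e (a : E)) by rw [one_smul]; exact h1)).symm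

section Op

variable [Nontrivial U] (h : Twisted e c) {φ : MulAut E} {β : Module.End K U} {s : E → K}
  (hβe : ∀ a, β * e a = s a • (e (φ a) * β))
include h hβe

theorem s_ne (hβ : IsUnit β) (a : E) : s a ≠ 0 := fun h0 => h.ne_zero a (by
  have h1 := hβe a
  rw [h0, zero_smul] at h1
  exact hβ.mul_right_eq_zero.mp h1)

theorem κ_map (hβ : IsUnit β) (a b : E) : h.κ (φ a) (φ b) = h.κ a b := by
  have hswap : ∀ a b, β * (e a * e b) = (s a * s b) • (e (φ a) * e (φ b) * β) := fun a b => by
    rw [← mul_assoc, hβe, smul_mul_assoc, mul_assoc, hβe, mul_smul_comm, smul_smul, mul_assoc]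
  have h1 := hswap a b
  rw [h.comm a b, mul_smul_comm, hswap b a, h.comm (φ a) (φ b), smul_mul_assoc, smul_smul,
    smul_smul, mul_comm (s b) (s a), mul_comm (h.κ a b)] at h1
  have hne : e (φ b) * e (φ a) * β ≠ 0 := by
    obtain ⟨u, hu⟩ := hβ
    rw [← hu, ← h.u_val (φ b), ← h.u_val (φ a), ← Units.val_mul, ← Units.val_mul]
    exact Units.ne_zero _
  have h2 := smul_left_injective K hne h1
  exact (mul_left_cancel₀ (mul_ne_zero (s_ne h hβe hβ a) (s_ne h hβe hβ b)) h2).symm

theorem map_mem_eigen (hβ : IsUnit β) {Y : Set U} (hY : ∀ y ∈ Y, β y = y) {d : E}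
    (hd : d ∈ eigenSubgroup h Y) : φ d ∈ eigenSubgroup h Y := by
  intro y hy
  obtain ⟨w, hw⟩ := hd y hy
  refine ⟨(s d)⁻¹ * w, ?_⟩
  have h1 := LinearMap.congr_fun (hβe d) y
  rw [Module.End.mul_apply, hw, map_smul, hY y hy, LinearMap.smul_apply, Module.End.mul_apply,
    hY y hy] at h1
  rw [← smul_smul, h1, smul_smul, inv_mul_cancel₀ (s_ne h hβe hβ d), one_smul]

omit hβe in
theorem eigen_iso {Y : Set U} {y : U} (hy : y ∈ Y) (hy0 : y ≠ 0) {a b : E}
    (ha : a ∈ eigenSubgroup h Y) (hb : b ∈ eigenSubgroup h Y) : h.κ a b = 1 := by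
  obtain ⟨w, hw⟩ := ha y hy
  obtain ⟨w', hw'⟩ := hb y hy
  have h1 := LinearMap.congr_fun (h.comm a b) y
  rw [Module.End.mul_apply, hw', map_smul, hw, LinearMap.smul_apply, Module.End.mul_apply, hw,
    map_smul, hw', smul_smul, smul_smul, smul_smul] at h1
  have h2 := smul_left_injective K hy0 h1
  have hne : w ≠ 0 ∧ w' ≠ 0 :=
    ⟨fun h0 => e_ne_apply h a hy0 (by rw [hw, h0, zero_smul]),
      fun h0 => e_ne_apply h b hy0 (by rw [hw', h0, zero_smul])⟩
  have h3 : w' * w = w' * w * h.κ a b := by linear_combination h2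
  exact (mul_eq_left₀ (mul_ne_zero hne.2 hne.1)).mp h3.symm

/-- Two fixed eigenvectors of an invariant subgroup have the same eigenvalues. -/
theorem eigen_eq (hβ : IsUnit β) (hfree : ∀ a, φ a = a → a = 1) {D : Subgroup E}
    (hDφ : ∀ d ∈ D, φ d ∈ D) {y y' : U} (hy : β y = y) (hy' : β y' = y') (hy0 : y ≠ 0)
    (hy0' : y' ≠ 0) {w w' : E → K} (hw : ∀ d ∈ D, e d y = w d • y)
    (hw' : ∀ d ∈ D, e d y' = w' d • y') : ∀ d ∈ D, w d = w' d := by
  have hwne : ∀ d ∈ D, w d ≠ 0 := fun d hd h0 => e_ne_apply h d hy0 (by rw [hw d hd, h0, zero_smul])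
  have hwne' : ∀ d ∈ D, w' d ≠ 0 :=
    fun d hd h0 => e_ne_apply h d hy0' (by rw [hw' d hd, h0, zero_smul])
  have hmul : ∀ {v : U}, v ≠ 0 → ∀ {u : E → K}, (∀ d ∈ D, e d v = u d • v) →
      ∀ a ∈ D, ∀ b ∈ D, u a * u b = c a b * u (a * b) := by
    intro v hv u hu a ha b hb
    have h1 := LinearMap.congr_fun (h.mul a b) v
    rw [Module.End.mul_apply, hu b hb, map_smul, hu a ha, smul_smul, LinearMap.smul_apply,
      hu _ (mul_mem ha hb), smul_smul] at h1
    rw [← smul_left_injective K hv h1, mul_comm]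
  have hφw : ∀ {v : U}, β v = v → v ≠ 0 → ∀ {u : E → K}, (∀ d ∈ D, e d v = u d • v) →
      ∀ a ∈ D, u a = s a * u (φ a) := by
    intro v hv hv0 u hu a ha
    have h1 := LinearMap.congr_fun (hβe a) v
    rw [Module.End.mul_apply, hu a ha, map_smul, hv, LinearMap.smul_apply, Module.End.mul_apply, hv,
      hu _ (hDφ a ha), smul_smul] at h1
    exact smul_left_injective K hv0 h1
  let δ : D →* K :=
    { toFun := fun d => w d / w' d
      map_one' := by
        have e1 : w 1 = 1 := smul_left_injective K hy0 (show w 1 • y = (1 : K) • y by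
          rw [← hw 1 D.one_mem, h.one, Module.End.one_apply, one_smul])
        have e2 : w' 1 = 1 := smul_left_injective K hy0' (show w' 1 • y' = (1 : K) • y' by
          rw [← hw' 1 D.one_mem, h.one, Module.End.one_apply, one_smul])
        simp [e1, e2]
      map_mul' := fun a b => by
        have e1 := hmul hy0 hw a a.2 b b.2
        have e2 := hmul hy0' hw' a a.2 b b.2
        show w ((a : E) * b) / w' ((a : E) * b) = w a / w' a * (w b / w' b)
        rw [div_mul_div_comm, e1, e2, mul_div_mul_left _ _ (h.c_ne _ _)] }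
  let ψ : D → D := fun d => ⟨φ d * (d : E)⁻¹, mul_mem (hDφ d d.2) (inv_mem d.2)⟩
  have hψ : Function.Surjective ψ := Finite.surjective_of_injective fun a b hab => by
    have h2 : φ (a : E) * (a : E)⁻¹ = φ b * (b : E)⁻¹ := congrArg Subtype.val hab
    refine Subtype.ext (mul_inv_eq_one.mp (hfree _ ?_))
    rw [map_mul, map_inv, mul_inv_eq_iff_eq_mul.mp h2]
    simp [mul_comm, mul_left_comm, mul_assoc]
  intro d hd
  obtain ⟨a, ha⟩ := hψ ⟨d, hd⟩
  have hfix : δ ⟨φ a, hDφ a a.2⟩ = δ a := by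
    show w (φ a) / w' (φ a) = w a / w' a
    rw [hφw hy hy0 hw a a.2, hφw hy' hy0' hw' a a.2, mul_div_mul_left _ _ (s_ne h hβe hβ _)]
  have hone : δ ⟨d, hd⟩ = 1 := by
    have h1 : (⟨φ (a : E), hDφ a a.2⟩ : D) = ψ a * a :=
      Subtype.ext (inv_mul_cancel_right (φ (a : E)) (a : E)).symm
    rw [h1, map_mul, ha] at hfix
    have : δ a ≠ 0 := div_ne_zero (hwne a a.2) (hwne' a a.2)
    exact (mul_left_eq_self₀.mp hfix).resolve_right this
  exact eq_of_div_eq_one hone

variable {r : ℕ} [hr : Fact r.Prime]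

/-- The translates of an eigenvector have translated eigenvalues. -/
theorem orbit_weight {y : U} {w : K} {d g : E} (hw : e d y = w • y) :
    ∀ i : ℕ, (∀ (hy : β y = y), e d ((β ^ i) (e g y)) = (h.κ d ((φ ^ i) g) * w) • (β ^ i) (e g y)) := by
  intro i hy
  have hp : ∀ i : ℕ, ∃ t : K, (β ^ i) (e g y) = t • e ((φ ^ i) g) y := by
    intro i
    induction i with
    | zero => exact ⟨1, by simp⟩
    | succ i ih =>
      obtain ⟨t, ht⟩ := ih
      refine ⟨t * s ((φ ^ i) g), ?_⟩
      rw [pow_succ', Module.End.mul_apply, ht, map_smul, ← Module.End.mul_apply β, hβe,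
        LinearMap.smul_apply, Module.End.mul_apply, hy, smul_smul, pow_succ', MulAut.mul_apply]
  obtain ⟨t, ht⟩ := hp i
  rw [ht, map_smul, smul_comm]
  congr 1
  rw [← Module.End.mul_apply, h.comm, LinearMap.smul_apply, Module.End.mul_apply, hw, map_smul,
    smul_smul]

/-- Not every fixed vector is an eigenvector of a non-trivial invariant subgroup. -/
theorem not_all_eigen (hE : (Nat.card E : K) ≠ 0) (hφr : φ ^ r = 1) (hβr : β ^ r = 1)
    (hfree : ∀ a, φ a = a → a = 1) (hC : ∃ y, y ≠ 0 ∧ β y = y) {d₀ : E} (hd₀ : d₀ ≠ 1)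
    (hall : ∀ y, β y = y → ∃ w : K, e d₀ y = w • y) : False := by
  have hβ : IsUnit β := IsUnit.of_pow_eq_one hβr hr.out.ne_zero
  let Y : Set U := {y | β y = y}
  set D := eigenSubgroup h Y with hD
  have hdD : d₀ ∈ D := fun y hy => hall y hy
  have hDφ : ∀ d ∈ D, φ d ∈ D := fun d hd => map_mem_eigen h hβe hβ (fun y hy => hy) hd
  obtain ⟨y₀, hy₀, hy₀f⟩ := hC
  have hch : ∀ d, ∃ w : K, d ∈ D → e d y₀ = w • y₀ := fun d => by
    by_cases hd : d ∈ D
    · obtain ⟨w, hw⟩ := hd y₀ hy₀f
      exact ⟨w, fun _ => hw⟩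
    · exact ⟨0, fun hc => absurd hc hd⟩
  choose w hw using hch
  obtain ⟨g, hg⟩ := h.exists_κ_ne_one hd₀
  have hinv : ∀ (i : ℕ) (d : E), d ∈ D → (φ ^ i) d ∈ D := by
    intro i
    induction i with
    | zero => exact fun d hd => hd
    | succ i ih => intro d hd; rw [pow_succ', MulAut.mul_apply]; exact hDφ _ (ih d hd)
  have hκ : ∀ (i : ℕ) (a b : E), h.κ ((φ ^ i) a) ((φ ^ i) b) = h.κ a b := by
    intro i
    induction i with
    | zero => intro a b; rfl
    | succ i ih => intro a b; rw [pow_succ', MulAut.mul_apply, MulAut.mul_apply, κ_map h hβe hβ, ih]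
  have hmov : ∃ d ∈ D, h.κ d (φ g) ≠ h.κ d g := by
    by_contra hno
    push Not at hno
    let ψ : D → D := fun d => ⟨φ d * (d : E)⁻¹, mul_mem (hDφ d d.2) (inv_mem d.2)⟩
    have hψ : Function.Surjective ψ := Finite.surjective_of_injective fun a b hab => by
      have h2 : φ (a : E) * (a : E)⁻¹ = φ b * (b : E)⁻¹ := congrArg Subtype.val hab
      refine Subtype.ext (mul_inv_eq_one.mp (hfree _ ?_))
      rw [map_mul, map_inv, mul_inv_eq_iff_eq_mul.mp h2]
      simp [mul_comm, mul_left_comm, mul_assoc]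
    obtain ⟨a, ha⟩ := hψ ⟨d₀, hdD⟩
    have h1 : φ (a : E) * (a : E)⁻¹ = d₀ := congrArg Subtype.val ha
    refine hg ?_
    rw [κ_swap h d₀ g, inv_eq_one, ← h1, h.κ_mul]
    have h2 : h.κ (φ (a : E)) g = h.κ a g := by
      rw [← hno _ (hDφ a a.2), κ_map h hβe hβ]
    have h3 := h.κ_mul (a : E) (a : E)⁻¹ g
    rw [mul_inv_cancel, κ_one_left h] at h3
    rw [h2, ← h3]
  have hinj : ∀ i j, i < r → j < r → (∀ d ∈ D, h.κ d ((φ ^ i) g) = h.κ d ((φ ^ j) g)) → i = j := by
    intro i j hi hj he
    by_contra hne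
    wlog hlt : i < j generalizing i j with H
    · exact H j i hj hi (fun d hd => (he d hd).symm) (Ne.symm hne)
        (lt_of_le_of_ne (not_lt.mp hlt) (Ne.symm hne))
    have hk : ∀ d ∈ D, h.κ d g = h.κ d ((φ ^ (j - i)) g) := by
      intro d hd
      have := he ((φ ^ i) d) (hinv i d hd)
      rw [hκ, ← Nat.sub_add_cancel hlt.le, add_comm, pow_add, MulAut.mul_apply, hκ] at this
      exact this
    have hm : ∀ (m : ℕ), ∀ d ∈ D, h.κ d g = h.κ d ((φ ^ ((j - i) * m)) g) := by
      intro m
      induction m with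
      | zero => intro d _; simp
      | succ m ih =>
        intro d hd
        have hdec : ∀ (t : ℕ) (a : E), a = (φ ^ t) (((φ ^ t)⁻¹ : MulAut E) a) :=
          fun t a => (MulAut.apply_inv_self _ (φ ^ t) a).symm
        have hmem : ((φ ^ (j - i))⁻¹ : MulAut E) d ∈ D := by
          have hjr : (φ ^ (j - i))⁻¹ = φ ^ (r - (j - i)) := inv_eq_of_mul_eq_one_right (by
            rw [← pow_add, Nat.add_sub_cancel' (by omega), hφr])
          rw [hjr]; exact hinv _ d hd
        rw [hk d hd]
        conv_lhs => rw [hdec (j - i) d, hκ, ih _ hmem, ← hκ (j - i), ← hdec (j - i) d,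
          ← MulAut.mul_apply, ← pow_add]
        rw [Nat.mul_succ, add_comm]
    obtain ⟨d, hd, hne'⟩ := hmov
    obtain ⟨m, -, hm1⟩ := Nat.exists_mul_mod_eq_one_of_coprime
      (show (j - i).Coprime r from (hr.out.coprime_iff_not_dvd.mpr fun hd' =>
        absurd (Nat.le_of_dvd (Nat.sub_pos_of_lt hlt) hd') (by omega)).symm)
      hr.out.one_lt
    have := hm m d hd
    rw [pow_eq_pow_mod _ hφr, hm1, pow_one] at this
    exact hne' this.symm
  set n := orbitSum β r (e g y₀) with hn
  have hnf : β n = n := orbitSum_fixed hβr _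
  have hn0 : n ≠ 0 := by
    intro h0
    rw [hn, orbitSum_apply] at h0
    have := weights_independent (fun d : D => e d) (fun i d => h.κ d ((φ ^ i) g) * w d)
      (fun i => (β ^ i) (e g y₀)) (Finset.range r) ?_
      (fun i _ d => orbit_weight h hβe (hw d d.2) i hy₀f) h0 0 (Finset.mem_range.mpr hr.out.pos)
    · exact e_ne_apply h g hy₀ (by simpa using this)
    · intro i hi j hj he
      refine hinj i j (Finset.mem_range.mp hi) (Finset.mem_range.mp hj) fun d hd => ?_
      have hwd : w d ≠ 0 := fun h' => e_ne_apply h d hy₀ (by rw [hw d hd, h', zero_smul])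
      exact mul_right_cancel₀ hwd (congrFun he ⟨d, hd⟩)
  -- `n` has the eigenvalues of `y₀`
  have hne : ∀ d, ∃ v : K, d ∈ D → e d n = v • n := fun d => by
    by_cases hd : d ∈ D
    · obtain ⟨v, hv⟩ := hd n hnf
      exact ⟨v, fun _ => hv⟩
    · exact ⟨0, fun hc => absurd hc hd⟩
  choose v hv using hne
  have heq := eigen_eq h hβe hβ hfree hDφ hy₀f hnf hy₀ hn0 hw hv
  obtain ⟨d, hd, hdg⟩ : ∃ d ∈ D, h.κ d g ≠ 1 := by
    refine ⟨d₀, hdD, fun h1 => hg ?_⟩
    rw [κ_swap h d₀ g, h1, inv_one]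
  have hsum : ∑ i ∈ Finset.range r, (h.κ d ((φ ^ i) g) * w d - w d) • (β ^ i) (e g y₀) = 0 := by
    simp only [sub_smul, Finset.sum_sub_distrib]
    rw [← Finset.smul_sum, ← orbitSum_apply, ← hn, sub_eq_zero]
    conv_rhs => rw [heq d hd, ← hv d hd, hn, orbitSum_apply, map_sum]
    exact Finset.sum_congr rfl fun i _ => (orbit_weight h hβe (hw d hd) i hy₀f).symm
  have := weights_independent (fun d : D => e d) (fun i d => h.κ d ((φ ^ i) g) * w d)
    (fun i => (h.κ d ((φ ^ i) g) * w d - w d) • (β ^ i) (e g y₀)) (Finset.range r) ?_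
    (fun i _ d' => by rw [map_smul, orbit_weight h hβe (hw d' d'.2) i hy₀f, smul_comm]) hsum 0
    (Finset.mem_range.mpr hr.out.pos)
  · have hwd : w d ≠ 0 := fun h' => e_ne_apply h d hy₀ (by rw [hw d hd, h', zero_smul])
    rcases smul_eq_zero.mp this with h1 | h1
    · rw [pow_zero, MulAut.one_apply, sub_eq_zero] at h1
      exact hdg ((mul_left_eq_self₀.mp h1).resolve_right hwd)
    · exact e_ne_apply h g hy₀ (by simpa using h1)
  · intro i hi j hj he
    refine hinj i j (Finset.mem_range.mp hi) (Finset.mem_range.mp hj) fun d hd => ?_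
    have hwd : w d ≠ 0 := fun h' => e_ne_apply h d hy₀ (by rw [hw d hd, h', zero_smul])
    exact mul_right_cancel₀ hwd (congrFun he ⟨d, hd⟩)

variable (hirr : ∀ T : Submodule K U, (∀ a, ∀ v ∈ T, e a v ∈ T) → T = ⊥ ∨ T = ⊤)
include hirr

/-- A fixed functional with killed translates gives a common eigen-operator. -/
theorem exists_eigen_of_kills (hE : (Nat.card E : K) ≠ 0) (hE1 : ∃ a : E, a ≠ 1) (hβ : IsUnit β)
    (hfree : ∀ a, φ a = a → a = 1)
    (μ : Module.Dual K U) (hμ : μ ≠ 0) (hμβ : μ.comp β = μ) :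
    ∃ d, d ≠ 1 ∧ ∀ y, (∀ a, (μ.comp (e a)).comp β ≠ μ.comp (e a) → μ (e a y) = 0) →
      ∃ w : K, e d y = w • y := by
  -- the stabiliser of the line of `μ`
  let St : Subgroup E :=
    { carrier := {d | ∃ w : K, μ.comp (e d) = w • μ}
      one_mem' := ⟨1, by rw [h.one, one_smul]; rfl⟩
      mul_mem' := fun {a b} ⟨w, hw⟩ ⟨w', hw'⟩ => by
        refine ⟨(c a b)⁻¹ * (w * w'), ?_⟩
        have e1 : μ.comp (e a * e b) = (w * w') • μ := by
          rw [Module.End.mul_eq_comp, ← LinearMap.comp_assoc, hw, LinearMap.smul_comp, hw', smul_smul]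
        rw [h.mul, LinearMap.comp_smul] at e1
        rw [← smul_smul, ← e1, smul_smul, inv_mul_cancel₀ (h.c_ne a b), one_smul]
      inv_mem' := fun {a} ⟨w, hw⟩ => by
        have e1 : (μ.comp (e a)).comp (e a⁻¹) = c a a⁻¹ • μ := by
          rw [LinearMap.comp_assoc, ← Module.End.mul_eq_comp, h.mul, mul_inv_cancel, h.one,
            LinearMap.comp_smul]
          rfl
        rw [hw, LinearMap.smul_comp] at e1
        have hw0 : w ≠ 0 := fun h0 => hμ (by
          rw [h0, zero_smul] at e1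
          rcases smul_eq_zero.mp e1.symm with h' | h'
          · exact absurd h' (h.c_ne _ _)
          · exact h')
        refine ⟨w⁻¹ * c a a⁻¹, ?_⟩
        rw [← smul_smul, ← e1, smul_smul, inv_mul_cancel₀ hw0, one_smul] }
  let ψ : E →* E := MonoidHom.id E * ((φ⁻¹ : MulAut E).toMonoidHom)⁻¹
  have hψ : ∀ a, ψ a = a * ((φ⁻¹ : MulAut E) a)⁻¹ := fun a => rfl
  let Ub : Subgroup E := St.comap ψ
  have hUb : ∀ a, a ∉ Ub → (μ.comp (e a)).comp β ≠ μ.comp (e a) := by
    intro a ha heq
    refine ha ?_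
    set a' := (φ⁻¹ : MulAut E) a with ha'
    have h1 : β * e a' = s a' • (e a * β) := by rw [hβe, ha', MulAut.apply_inv_self]
    have h2 : μ.comp (e a') = s a' • μ.comp (e a) := by
      conv_lhs => rw [← hμβ]
      rw [LinearMap.comp_assoc, ← Module.End.mul_eq_comp, h1, LinearMap.comp_smul,
        Module.End.mul_eq_comp, ← LinearMap.comp_assoc, heq]
    show ∃ w : K, μ.comp (e (ψ a)) = w • μ
    refine ⟨(c a a'⁻¹)⁻¹ * ((s a')⁻¹ * c a' a'⁻¹), ?_⟩
    have h3 : μ.comp (e a) = (s a')⁻¹ • μ.comp (e a') := by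
      rw [h2, smul_smul, inv_mul_cancel₀ (s_ne h hβe hβ a'), one_smul]
    have h4 : (μ.comp (e a)).comp (e a'⁻¹) = ((s a')⁻¹ * c a' a'⁻¹) • μ := by
      rw [h3, LinearMap.smul_comp, LinearMap.comp_assoc, ← Module.End.mul_eq_comp, h.mul,
        mul_inv_cancel, h.one, LinearMap.comp_smul, smul_smul]
      rfl
    rw [LinearMap.comp_assoc, ← Module.End.mul_eq_comp, h.mul, LinearMap.comp_smul] at h4
    rw [hψ, ← smul_smul, ← h4, smul_smul, inv_mul_cancel₀ (h.c_ne _ _), one_smul]
  have hUtop : Ub ≠ ⊤ := by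
    intro htop
    have hsurj : Function.Surjective ψ := Finite.surjective_of_injective fun a b hab => by
      rw [hψ, hψ] at hab
      refine mul_inv_eq_one.mp (hfree _ ?_)
      have h2 : (φ⁻¹ : MulAut E) (a * b⁻¹) = a * b⁻¹ := by
        rw [map_mul, map_inv]
        generalize (φ⁻¹ : MulAut E) a = a' at hab ⊢
        generalize (φ⁻¹ : MulAut E) b = b' at hab ⊢
        rw [mul_inv_eq_iff_eq_mul] at hab
        subst hab
        simp [mul_comm, mul_left_comm, mul_assoc]
        rw [mul_left_comm b a', mul_inv_cancel_left]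
      conv_lhs => rw [← h2, MulAut.apply_inv_self]
    have hall : ∀ d, ∃ w : K, μ.comp (e d) = w • μ := fun d => by
      obtain ⟨a, rfl⟩ := hsurj d
      have ha : a ∈ Ub := by rw [htop]; exact Subgroup.mem_top a
      exact ha
    obtain ⟨d, hd⟩ := hE1
    obtain ⟨b, hb⟩ := h.exists_κ_ne_one hd
    obtain ⟨w, hw⟩ := hall d
    obtain ⟨w', hw'⟩ := hall b
    have e1 := congrArg μ.comp (h.comm b d)
    rw [LinearMap.comp_smul, Module.End.mul_eq_comp, Module.End.mul_eq_comp, ← LinearMap.comp_assoc,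
      ← LinearMap.comp_assoc, hw, hw', LinearMap.smul_comp, LinearMap.smul_comp, hw, hw', smul_smul,
      smul_smul, smul_smul] at e1
    have hne : ∀ {d : E} {w : K}, μ.comp (e d) = w • μ → w ≠ 0 := by
      intro d w hw h0
      refine hμ (LinearMap.ext fun v => ?_)
      have := LinearMap.congr_fun hw ((↑(h.u d)⁻¹ : Module.End K U) v)
      rw [LinearMap.comp_apply, ← Module.End.mul_apply, h.e_mul_inv, h0, zero_smul] at this
      simpa using this
    have e2 := smul_left_injective K hμ e1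
    have e3 : w' * w = w' * w * h.κ b d := by linear_combination e2
    exact hb ((mul_eq_left₀ (mul_ne_zero (hne hw') (hne hw))).mp e3.symm)
  obtain ⟨d, hd1, hd⟩ := exists_orth h hE hUtop
  refine ⟨d, hd1, fun y hy => ?_⟩
  by_cases hy0 : y = 0
  · exact ⟨0, by simp [hy0]⟩
  set y' := (↑(h.u d)⁻¹ : Module.End K U) y with hy'
  have hfun : ∀ X : Module.End K U, μ (e d (X y')) = μ (X y) := by
    let F : Module.End K U →ₗ[K] K :=
      { toFun := fun X => μ (e d (X y')) - μ (X y)
        map_add' := fun X Y => by simp only [LinearMap.add_apply, map_add]; ring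
        map_smul' := fun t X => by simp [mul_sub] }
    have hF : F = 0 := LinearMap.ext_on (span_range_eq_top h hirr hE) (fun X ⟨a, ha⟩ => by
      subst ha
      show μ (e d (e a y')) - μ (e a y) = (0 : K)
      have e1 : e d (e a y') = h.κ d a • e a y := by
        rw [← Module.End.mul_apply, h.comm, LinearMap.smul_apply, Module.End.mul_apply, hy',
          ← Module.End.mul_apply (e d), h.e_mul_inv, Module.End.one_apply]
      rw [e1, map_smul, sub_eq_zero]
      by_cases ha : a ∈ Ub
      · rw [hd a ha, one_smul]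
      · rw [hy a (hUb a ha), smul_zero])
    exact fun X => sub_eq_zero.mp (LinearMap.congr_fun hF X)
  by_cases hmem : y' ∈ Submodule.span K {y}
  · obtain ⟨t, ht⟩ := Submodule.mem_span_singleton.mp hmem
    have h1 : t • e d y = y := by
      rw [← map_smul, ht, hy', ← Module.End.mul_apply, h.e_mul_inv, Module.End.one_apply]
    have ht0 : t ≠ 0 := fun h0 => hy0 (by rw [← h1, h0, zero_smul])
    refine ⟨t⁻¹, ?_⟩
    conv_rhs => rw [← h1, smul_smul, inv_mul_cancel₀ ht0, one_smul]
  · exfalso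
    obtain ⟨g, hg1, hg0⟩ := Submodule.exists_dual_map_eq_bot_of_notMem hmem inferInstance
    obtain ⟨v, hv⟩ : ∃ v, μ (e d v) ≠ 0 := by
      by_contra hno
      push Not at hno
      refine hμ (LinearMap.ext fun v => ?_)
      have := hno ((↑(h.u d)⁻¹ : Module.End K U) v)
      rwa [← Module.End.mul_apply, h.e_mul_inv, Module.End.one_apply] at this
    have hgy : g y = 0 := by
      have : g y ∈ (Submodule.span K {y}).map g :=
        Submodule.mem_map_of_mem (Submodule.mem_span_singleton_self y)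
      rw [hg0] at this
      exact this
    have := hfun (g.smulRight v)
    rw [LinearMap.smulRight_apply, LinearMap.smulRight_apply, hgy, zero_smul, map_zero, map_smul,
      map_smul, smul_eq_mul] at this
    exact mul_ne_zero hg1 hv this

/-- Moved functionals killing the fixed vectors are zero. -/
theorem eq_zero_of_kills_irred (hE : (Nat.card E : K) ≠ 0) (hE1 : ∃ a : E, a ≠ 1) (hφr : φ ^ r = 1)
    (hβr : β ^ r = 1) (hfree : ∀ a, φ a = a → a = 1) (hC : ∃ y, y ≠ 0 ∧ β y = y)
    (M : Set (Module.Dual K U)) (hM : ∀ a, ∀ f ∈ M, f.comp (e a) ∈ M)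
    (hkill : ∀ y, β y = y → Kills M β y) : ∀ f ∈ M, f = 0 := by
  intro f hf
  by_contra hf0
  have hβ : IsUnit β := IsUnit.of_pow_eq_one hβr hr.out.ne_zero
  by_cases hfix : ∃ a, (f.comp (e a)).comp β = f.comp (e a)
  · obtain ⟨a, ha⟩ := hfix
    have hne : f.comp (e a) ≠ 0 := fun h0 => hf0 (LinearMap.ext fun v => by
      have := LinearMap.congr_fun h0 ((↑(h.u a)⁻¹ : Module.End K U) v)
      rwa [LinearMap.comp_apply, ← Module.End.mul_apply, h.e_mul_inv, Module.End.one_apply] at this)
    obtain ⟨d, hd, hd'⟩ := exists_eigen_of_kills h hβe hirr hE hE1 hβ hfree _ hne ha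
    refine not_all_eigen h hβe hE hφr hβr hfree hC hd fun y hy => hd' y fun b hb => ?_
    exact hkill y hy _ (hM b _ (hM a f hf)) hb
  · push Not at hfix
    obtain ⟨y, hy0, hy⟩ := hC
    have hz : ∀ a, f (e a y) = 0 := fun a => hkill y hy _ (hM a f hf) (hfix a)
    have hF : (f.comp (LinearMap.applyₗ y) : Module.End K U →ₗ[K] K) = 0 :=
      LinearMap.ext_on (span_range_eq_top h hirr hE) fun X ⟨a, ha⟩ => by
        subst ha; exact hz a
    obtain ⟨g, hg1, -⟩ := Submodule.exists_dual_map_eq_bot_of_notMem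
      (show y ∉ (⊥ : Submodule K U) by simpa using hy0) inferInstance
    refine hf0 (LinearMap.ext fun v => ?_)
    have := LinearMap.congr_fun hF (g.smulRight v)
    simp only [LinearMap.comp_apply, LinearMap.applyₗ_apply_apply, LinearMap.smulRight_apply,
      map_smul, smul_eq_mul, LinearMap.zero_apply] at this
    exact (mul_eq_zero.mp this).resolve_left hg1

end Op

end CfsgLib.PGroups.Turull
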