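import Mathlib
import Cfsg.Agent.Lib.PGroups.Turull.Twisted

/-!
# Reduction to irreducible spaces

* `exists_irreducible_fixed`: a space with a suitable fixed vector has an irreducible invariant
  subspace with one
* `eq_zero_of_kills_twisted`: an operator commuting with everything annihilates the fixed vectors
-/

set_option autoImplicit false
set_option linter.all false
set_option maxHeartbeats 1000000

namespace CfsgLib.PGroups.Turull

open CfsgLib.PGroups.ShultGross

variable {K : Type*} [Field K] [IsAlgClosed K] {U : Type*} [AddCommGroup U] [Module K U]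
  [FiniteDimensional K U] [Nontrivial U] {E : Type*} [CommGroup E] [Finite E]
  {e : E → Module.End K U} {c : E → E → K}

/-- An irreducible invariant subspace with a fixed vector that is not annihilated. -/
theorem exists_irreducible_fixed (h : Twisted e c) (hE : (Nat.card E : K) ≠ 0) {φ : MulAut E}
    {β : Module.End K U} {s : E → K} (hβe : ∀ a, β * e a = s a • (e (φ a) * β)) {m : ℕ}
    (hm : 0 < m)
    (hβm : β ^ m = 1) (hfree : ∀ a, φ a = a → a = 1) (j : ℕ)
    {U' : Type*} [AddCommGroup U'] [Module K U'] (D : U →ₗ[K] U')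
    (hu : ∃ u, (β ^ j) u = u ∧ D u ≠ 0) (hdiag : (m : K) ≠ 0) :
    ∃ T : Submodule K U, (∀ a, ∀ v ∈ T, e a v ∈ T) ∧ (∀ v ∈ T, β v ∈ T) ∧
      (∃ u ∈ T, (β ^ j) u = u ∧ D u ≠ 0) ∧
      ∀ T' : Submodule K U, T' ≤ T → (∀ a, ∀ v ∈ T', e a v ∈ T') → T' = ⊥ ∨ T' = T := by
  classical
  haveI := Fintype.ofFinite E
  obtain ⟨u, hu, hDu⟩ := hu
  obtain ⟨T, hT⟩ := exists_minimal_of_wellFoundedLT
    (fun T : Submodule K U => (∀ a, ∀ v ∈ T, e a v ∈ T) ∧ (∀ v ∈ T, β v ∈ T) ∧
      ∃ u ∈ T, (β ^ j) u = u ∧ D u ≠ 0)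
    ⟨⊤, fun _ _ _ => trivial, fun _ _ => trivial, u, trivial, hu, hDu⟩
  obtain ⟨hTe, hTβ, hTu⟩ := hT.prop
  refine ⟨T, hTe, hTβ, hTu, ?_⟩
  obtain ⟨m', rfl⟩ : ∃ m', m = m' + 1 := ⟨m - 1, by omega⟩
  have hβ : IsUnit β := IsUnit.of_pow_eq_one hβm (Nat.succ_ne_zero _)
  have hs0 : ∀ a, s a ≠ 0 := s_ne h hβe hβ
  -- irreducibility for both
  have hboth : ∀ T' : Submodule K U, T' ≤ T → (∀ a, ∀ v ∈ T', e a v ∈ T') → (∀ v ∈ T', β v ∈ T') →
      T' = ⊥ ∨ T' = T := by
    intro T' hle he' hβ'
    by_contra hne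
    push Not at hne
    obtain ⟨q, hq⟩ := T'.exists_isCompl
    let π : Module.End K U := T'.subtype.comp (T'.projectionOnto q hq)
    have hπmem : ∀ v, π v ∈ T' := fun v => ((T'.projectionOnto q hq) v).2
    have hπid : ∀ v ∈ T', π v = v := fun v hv => by
      show ((T'.projectionOnto q hq) ((⟨v, hv⟩ : T') : U) : U) = v
      rw [Submodule.projectionOnto_apply_left]
    have hinv' : ∀ a, ∀ v ∈ T', (↑(h.u a)⁻¹ : Module.End K U) v ∈ T' := by
      intro a v hv
      have h1 : (↑(h.u a)⁻¹ : Module.End K U) = (c a a⁻¹)⁻¹ • e a⁻¹ := by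
        refine Units.inv_eq_of_mul_eq_one_right ?_
        rw [h.u_val, mul_smul_comm, h.mul, mul_inv_cancel, h.one, smul_smul,
          inv_mul_cancel₀ (h.c_ne _ _), one_smul]
      rw [h1, LinearMap.smul_apply]
      exact T'.smul_mem _ (he' _ v hv)
    set p1 := (Nat.card E : K)⁻¹ • h.avg π with hp1
    have hp1e : ∀ a, Commute (e a) p1 := fun a => (h.commute_avg a π).smul_right _
    have hp1mem : ∀ v, p1 v ∈ T' := fun v => by
      rw [hp1, LinearMap.smul_apply, Twisted.avg, LinearMap.sum_apply]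
      exact T'.smul_mem _ (sum_mem fun a _ => he' a _ (hπmem _))
    have hp1id : ∀ v ∈ T', p1 v = v := fun v hv => by
      rw [hp1, LinearMap.smul_apply, Twisted.avg, LinearMap.sum_apply,
        Finset.sum_congr rfl fun a _ => show h.conj a π v = v by
          rw [Twisted.conj, Module.End.mul_apply, Module.End.mul_apply, hπid _ (hinv' a v hv),
            ← Module.End.mul_apply, h.e_mul_inv, Module.End.one_apply],
        Finset.sum_const, Finset.card_univ, ← Nat.card_eq_fintype_card, ← Nat.cast_smul_eq_nsmul K,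
        smul_smul, inv_mul_cancel₀ hE, one_smul]
    -- average over the powers of `β`
    let C : Module.End K (Module.End K U) :=
      (LinearMap.mulRight K (β ^ m')).comp (LinearMap.mulLeft K β)
    have hC : ∀ X, C X = β * X * β ^ m' := fun X => rfl
    have hCpow : ∀ (i : ℕ) X, (C ^ i) X = β ^ i * X * (β ^ m') ^ i := by
      intro i
      induction i with
      | zero => intro X; simp
      | succ i ih =>
        intro X
        rw [pow_succ' C, Module.End.mul_apply, ih, hC, pow_succ' β i, pow_succ (β ^ m') i]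
        simp only [mul_assoc]
    have hCm : C ^ (m' + 1) = 1 := LinearMap.ext fun X => by
      rw [hCpow, hβm, ← pow_mul, mul_comm m', pow_mul, hβm, one_pow, one_mul, mul_one,
        Module.End.one_apply]
    have hCe : ∀ X, (∀ a, Commute (e a) X) → ∀ a, Commute (e a) (C X) := by
      intro X hX a
      obtain ⟨b, rfl⟩ := φ.surjective a
      have h1 : e (φ b) * β = (s b)⁻¹ • (β * e b) := by
        rw [hβe, smul_smul, inv_mul_cancel₀ (hs0 b), one_smul]
      have h2 : e b * β ^ m' = s b • (β ^ m' * e (φ b)) := by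
        calc e b * β ^ m' = β ^ m' * β * e b * β ^ m' := by rw [← pow_succ, hβm, one_mul]
          _ = β ^ m' * (β * e b) * β ^ m' := by simp only [mul_assoc]
          _ = _ := by
            rw [hβe, mul_smul_comm, smul_mul_assoc, mul_assoc (β ^ m'), mul_assoc (e (φ b)),
              ← pow_succ', hβm, mul_one]
      show e (φ b) * (β * X * β ^ m') = β * X * β ^ m' * e (φ b)
      calc e (φ b) * (β * X * β ^ m') = (e (φ b) * β) * X * β ^ m' := by simp only [mul_assoc]
        _ = (s b)⁻¹ • (β * (e b * X) * β ^ m') := by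
          rw [h1, smul_mul_assoc, smul_mul_assoc, mul_assoc β]
        _ = (s b)⁻¹ • (β * X * (e b * β ^ m')) := by
          rw [(hX b).eq]; simp only [mul_assoc]
        _ = β * X * β ^ m' * e (φ b) := by
          rw [h2, mul_smul_comm, smul_smul, inv_mul_cancel₀ (hs0 b), one_smul]
          simp only [mul_assoc]
    set p2 := ((m' + 1 : ℕ) : K)⁻¹ • orbitSum C (m' + 1) p1 with hp2
    have hCpe : ∀ i a, Commute (e a) ((C ^ i) p1) := by
      intro i
      induction i with
      | zero => exact hp1e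
      | succ i ih => rw [pow_succ', Module.End.mul_apply]; exact hCe _ ih
    have hp2e : ∀ a, Commute (e a) p2 := fun a => by
      rw [hp2, orbitSum_apply]
      exact (Commute.sum_right _ _ _ fun i _ => hCpe i a).smul_right _
    have hp2β : Commute β p2 := by
      have h1 : C p2 = p2 := by rw [hp2, map_smul, orbitSum_fixed hCm]
      show β * p2 = p2 * β
      conv_rhs => rw [← h1, hC, mul_assoc, ← pow_succ, hβm, mul_one]
    have hβpow : ∀ (i : ℕ) v, v ∈ T' → (β ^ i) v ∈ T' := by
      intro i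
      induction i with
      | zero => exact fun v hv => hv
      | succ i ih => intro v hv; rw [pow_succ', Module.End.mul_apply]; exact hβ' _ (ih v hv)
    have hp2mem : ∀ v, p2 v ∈ T' := fun v => by
      rw [hp2, LinearMap.smul_apply, orbitSum_apply, LinearMap.sum_apply]
      refine T'.smul_mem _ (sum_mem fun i _ => ?_)
      rw [hCpow, Module.End.mul_apply, Module.End.mul_apply]
      exact hβpow i _ (hp1mem _)
    have hp2id : ∀ v ∈ T', p2 v = v := fun v hv => by
      rw [hp2, LinearMap.smul_apply, orbitSum_apply, LinearMap.sum_apply,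
        Finset.sum_congr rfl fun i _ => show ((C ^ i) p1) v = v by
          rw [hCpow, Module.End.mul_apply, Module.End.mul_apply,
            hp1id _ (by rw [← pow_mul]; exact hβpow _ v hv), ← Module.End.mul_apply, ← pow_mul,
            ← pow_add, show i + m' * i = (m' + 1) * i by ring, pow_mul, hβm, one_pow,
            Module.End.one_apply],
        Finset.sum_const, Finset.card_range, ← Nat.cast_smul_eq_nsmul K, smul_smul,
        inv_mul_cancel₀ hdiag, one_smul]
    let T'' : Submodule K U := T ⊓ LinearMap.ker p2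
    have hT''e : ∀ a, ∀ v ∈ T'', e a v ∈ T'' := fun a v hv =>
      ⟨hTe a v hv.1, by
        show p2 (e a v) = 0
        rw [← Module.End.mul_apply, ← (hp2e a).eq, Module.End.mul_apply,
          LinearMap.mem_ker.mp hv.2, map_zero]⟩
    have hT''β : ∀ v ∈ T'', β v ∈ T'' := fun v hv =>
      ⟨hTβ v hv.1, by
        show p2 (β v) = 0
        rw [← Module.End.mul_apply, ← hp2β.eq, Module.End.mul_apply,
          LinearMap.mem_ker.mp hv.2, map_zero]⟩
    obtain ⟨v, hvT, hv, hDv⟩ := hTu
    have hf1 : (β ^ j) (p2 v) = p2 v := by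
      rw [← Module.End.mul_apply, (hp2β.pow_left j).eq, Module.End.mul_apply, hv]
    by_cases hD1 : D (p2 v) = 0
    · have hv'' : v - p2 v ∈ T'' := ⟨sub_mem hvT (hle (hp2mem v)), by
        show p2 (v - p2 v) = 0
        rw [map_sub, hp2id _ (hp2mem v), sub_self]⟩
      have heq : T'' = T := hT.eq_of_le ⟨hT''e, hT''β, v - p2 v, hv'', by rw [map_sub, hv, hf1],
        by rwa [map_sub, hD1, sub_zero]⟩ inf_le_left
      refine hne.1 ((Submodule.eq_bot_iff _).mpr fun w hw => ?_)
      rw [← hp2id w hw]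
      exact (heq.symm.le (hle hw)).2
    · exact hne.2 (hT.eq_of_le ⟨he', hβ', p2 v, hp2mem v, hf1, hD1⟩ hle)
  intro T' hle he'
  by_cases hbot : T' = ⊥
  · exact Or.inl hbot
  right
  haveI : Nontrivial T := by
    rw [Submodule.nontrivial_iff_ne_bot]
    intro h0
    exact hbot (le_bot_iff.mp (h0 ▸ hle))
  let hr := h.restrict hTe
  have hβT : ∀ a, β.restrict hTβ * (e a).restrict (hTe a) =
      s a • ((e (φ a)).restrict (hTe (φ a)) * β.restrict hTβ) := fun a =>
    LinearMap.ext fun v => Subtype.ext (LinearMap.congr_fun (hβe a) (v : U))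
  obtain ⟨l, hl⟩ := Module.End.exists_eigenvalue (hr.avg (β.restrict hTβ))
  -- the eigenspace is everything
  have hinv : ∀ v ∈ Module.End.eigenspace (hr.avg (β.restrict hTβ)) l,
      (∀ a, (e a).restrict (hTe a) v ∈ Module.End.eigenspace (hr.avg (β.restrict hTβ)) l) ∧
        β.restrict hTβ v ∈ Module.End.eigenspace (hr.avg (β.restrict hTβ)) l := by
    intro v hv
    rw [Module.End.mem_eigenspace_iff] at hv
    refine ⟨fun a => ?_, ?_⟩
    · rw [Module.End.mem_eigenspace_iff, ← Module.End.mul_apply, ← (hr.commute_avg a _).eq,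
        Module.End.mul_apply, hv, map_smul]
    · rw [Module.End.mem_eigenspace_iff, ← Module.End.mul_apply,
        ← (hr.commute_self_avg hβT hs0).eq, Module.End.mul_apply, hv, map_smul]
  have htop : Module.End.eigenspace (hr.avg (β.restrict hTβ)) l = ⊤ := by
    rcases hboth ((Module.End.eigenspace (hr.avg (β.restrict hTβ)) l).map T.subtype)
      (Submodule.map_subtype_le T _)
      (by rintro a _ ⟨v, hv, rfl⟩; exact ⟨_, (hinv v hv).1 a, rfl⟩)
      (by rintro _ ⟨v, hv, rfl⟩; exact ⟨_, (hinv v hv).2, rfl⟩) with h1 | h1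
    · exact absurd (Submodule.map_injective_of_injective T.injective_subtype
        (h1.trans (Submodule.map_bot T.subtype).symm)) hl
    · exact Submodule.map_injective_of_injective T.injective_subtype
        (h1.trans (by rw [Submodule.map_top, Submodule.range_subtype]))
  obtain ⟨χ, hχ⟩ := hr.eq_mul_avg hβT hs0 hE hfree
  have hβ' : ∀ v ∈ T', β v ∈ T' := by
    intro v hv
    have hm' : (⟨v, hle hv⟩ : T) ∈ Module.End.eigenspace (hr.avg (β.restrict hTβ)) l :=
      htop ▸ Submodule.mem_top
    rw [Module.End.mem_eigenspace_iff] at hm'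
    have h1 := congrArg Subtype.val (LinearMap.congr_fun hχ ⟨v, hle hv⟩)
    rw [Module.End.mul_apply, hm', map_smul, LinearMap.sum_apply] at h1
    simp only [LinearMap.smul_apply, Submodule.coe_smul, Submodule.coe_sum] at h1
    rw [show β v = _ from h1]
    exact T'.smul_mem _ (sum_mem fun d _ => T'.smul_mem _ (he' d v hv))
  exact (hboth T' hle he' hβ').resolve_left hbot

/-- An operator commuting with everything annihilates the fixed vectors. -/
theorem eq_zero_of_kills_twisted {r : ℕ} [hr : Fact r.Prime] (h : Twisted e c)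
    (hE : (Nat.card E : K) ≠ 0) (hE1 : ∃ a : E, a ≠ 1) (hrK : (r : K) ≠ 0) {φ : MulAut E}
    (hφr : φ ^ r = 1) (hfree : ∀ a, φ a = a → a = 1) {β : Module.End K U} {s : E → K}
    (hβe : ∀ a, β * e a = s a • (e (φ a) * β)) (hβr : β ^ r = 1)
    {U' : Type*} [AddCommGroup U'] [Module K U'] (D : U →ₗ[K] U') (Λ : Set (Module.Dual K U'))
    (hspan : ∀ v, (∀ f ∈ Λ, f v = 0) → v = 0)
    (hΛ : ∀ a, ∀ f ∈ Λ, ∃ f' ∈ Λ, f'.comp D = (f.comp D).comp (e a))
    (hkill : ∀ y, β y = y → ∀ f ∈ Λ, (f.comp D).comp β ≠ f.comp D → f (D y) = 0) :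
    ∀ y, β y = y → D y = 0 := by
  intro y hy
  by_contra hne
  obtain ⟨T, hTe, hTβ, ⟨u, huT, hu, hDu⟩, hirr⟩ := exists_irreducible_fixed h hE hβe hr.out.pos
    hβr hfree 1 D ⟨y, by rwa [pow_one], hne⟩ hrK
  rw [pow_one] at hu
  haveI : Nontrivial T := nontrivial_of_ne (⟨u, huT⟩ : T) 0 fun h0 => hDu (by
    rw [show u = 0 from congrArg Subtype.val h0, map_zero])
  refine hDu (hspan _ fun f hf => ?_)
  have hirr' : ∀ S : Submodule K T, (∀ a, ∀ v ∈ S, (e a).restrict (hTe a) v ∈ S) → S = ⊥ ∨ S = ⊤ := by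
    intro S hS
    rcases hirr (S.map T.subtype) (Submodule.map_subtype_le T S)
      (by rintro a _ ⟨v, hv, rfl⟩; exact ⟨_, hS a v hv, rfl⟩) with h1 | h1
    · exact Or.inl (Submodule.map_injective_of_injective T.injective_subtype
        (h1.trans (Submodule.map_bot T.subtype).symm))
    · exact Or.inr (Submodule.map_injective_of_injective T.injective_subtype
        (h1.trans (by rw [Submodule.map_top, Submodule.range_subtype])))
  let M : Set (Module.Dual K T) := (fun g : Module.Dual K U' => (g.comp D).comp T.subtype) '' Λ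
  have := eq_zero_of_kills_irred (h.restrict hTe) (φ := φ) (β := β.restrict hTβ) (s := s)
    (fun a => LinearMap.ext fun v => Subtype.ext (LinearMap.congr_fun (hβe a) (v : U))) hirr' hE hE1
    hφr (LinearMap.ext fun v => Subtype.ext (by
      rw [Module.End.pow_restrict]
      show (β ^ r) (v : U) = _
      rw [hβr]; rfl)) hfree
    ⟨⟨u, huT⟩, fun h0 => hDu (by rw [show u = 0 from congrArg Subtype.val h0, map_zero]),
      Subtype.ext hu⟩ M
    (by
      rintro a _ ⟨g, hg, rfl⟩
      obtain ⟨g', hg', hg''⟩ := hΛ a g hg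
      refine ⟨g', hg', ?_⟩
      show (g'.comp D).comp T.subtype = _
      rw [hg'']
      rfl)
    (by
      rintro w hw _ ⟨g, hg, rfl⟩ hne'
      refine hkill _ (congrArg Subtype.val hw) g hg fun he => hne' (LinearMap.ext fun v => ?_)
      exact LinearMap.congr_fun he (v : U))
    _ ⟨f, hf, rfl⟩
  exact LinearMap.congr_fun this ⟨u, huT⟩

end CfsgLib.PGroups.Turull
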