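import Mathlib
import Cfsg.Agent.Lib.PGroups.Turull.Irreducible
import Cfsg.Agent.Lib.PGroups.Turull.EigenDiff

/-!
# An operator of order prime to `r` commuting with the fixed point operator

* `trivial_or_fixed`: if the moved functionals kill `T y - y` for the fixed vectors `y`, then `T`
  induces the identity on the labels or fixes the fixed vectors
* `false_of_semiregular`: an operator inducing a semiregular automorphism of order a prime power `≥ 3`
  does not fix all the fixed vectors
-/

set_option autoImplicit false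
set_option linter.all false
set_option maxHeartbeats 1000000

namespace CfsgLib.PGroups.Turull

open CfsgLib.PGroups.ShultGross

variable {K : Type*} [Field K] [IsAlgClosed K] {U : Type*} [AddCommGroup U] [Module K U]
  [FiniteDimensional K U] [Nontrivial U] {E : Type*} [CommGroup E] [Finite E]
  {e : E → Module.End K U} {c : E → E → K}
  {r : ℕ} [hr : Fact r.Prime] {φ : MulAut E} {β : Module.End K U} {s : E → K}

theorem pow_fixed_of_commute {T : Module.End K U} (hTβ : Commute T β) {y : U} (hy : β y = y) (i : ℕ) :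
    β ((T ^ i) y) = (T ^ i) y := by
  rw [← Module.End.mul_apply, ← (hTβ.pow_left i).eq, Module.End.mul_apply, hy]

theorem κ_pow_map (h : Twisted e c) (hβe : ∀ a, β * e a = s a • (e (φ a) * β)) (hβ : IsUnit β)
    (i : ℕ) (a b : E) : h.κ ((φ ^ i) a) ((φ ^ i) b) = h.κ a b := by
  induction i with
  | zero => rfl
  | succ i ih => rw [pow_succ', MulAut.mul_apply, MulAut.mul_apply, κ_map h hβe hβ, ih]

omit [IsAlgClosed K] in
theorem pow_mem_of_mem {G : Type*} [Group G] {D : Subgroup G} {ψ : MulAut G}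
    (hD : ∀ d ∈ D, ψ d ∈ D) (i : ℕ) {d : G} (hd : d ∈ D) : (ψ ^ i) d ∈ D := by
  induction i with
  | zero => exact hd
  | succ i ih => rw [pow_succ', MulAut.mul_apply]; exact hD _ ih

theorem fixed_of_pow_fixed {G : Type*} [Group G] {ψ : MulAut G} {r' : ℕ} [hr' : Fact r'.Prime]
    (hψ : ψ ^ r' = 1) {i : ℕ} (hi : ¬ r' ∣ i) {a : G} (h : (ψ ^ i) a = a) : ψ a = a := by
  have hm : ∀ j : ℕ, ((ψ ^ i) ^ j) a = a := by
    intro j
    induction j with
    | zero => rfl
    | succ j ih => rw [pow_succ', MulAut.mul_apply, ih, h]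
  obtain ⟨j, -, hj⟩ := Nat.exists_mul_mod_eq_one_of_coprime
    (show i.Coprime r' from (hr'.out.coprime_iff_not_dvd.mpr hi).symm) hr'.out.one_lt
  have := hm j
  rwa [← pow_mul, pow_eq_pow_mod _ hψ, hj, pow_one] at this

/-- A character on an invariant subgroup has a free orbit. -/
theorem moved_of_nontrivial (h : Twisted e c) (hβe : ∀ a, β * e a = s a • (e (φ a) * β))
    (hβ : IsUnit β) (hφr : φ ^ r = 1) (hfree : ∀ a, φ a = a → a = 1) {D : Subgroup E}
    (hDφ : ∀ d ∈ D, φ d ∈ D) {g : E} {d₀ : E} (hd₀ : d₀ ∈ D) (hg : h.κ d₀ g ≠ 1) {i : ℕ}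
    (hi : ¬ r ∣ i) : ∃ d ∈ D, h.κ d ((φ ^ i) g) ≠ h.κ d g := by
  by_contra hno
  push Not at hno
  let ψ : D → D := fun d => ⟨(φ ^ i) d * (d : E)⁻¹, mul_mem (pow_mem_of_mem hDφ i d.2) (inv_mem d.2)⟩
  have hψ : Function.Surjective ψ := Finite.surjective_of_injective fun a b hab => by
    have h2 : (φ ^ i) (a : E) * (a : E)⁻¹ = (φ ^ i) b * (b : E)⁻¹ := congrArg Subtype.val hab
    refine Subtype.ext (mul_inv_eq_one.mp (hfree _ (fixed_of_pow_fixed hφr hi ?_)))
    rw [map_mul, map_inv, mul_inv_eq_iff_eq_mul.mp h2]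
    simp [mul_comm, mul_left_comm, mul_assoc]
  obtain ⟨a, ha⟩ := hψ ⟨d₀, hd₀⟩
  have h1 : (φ ^ i) (a : E) * (a : E)⁻¹ = d₀ := congrArg Subtype.val ha
  refine hg ?_
  rw [← h1, h.κ_mul]
  have h2 : h.κ ((φ ^ i) (a : E)) g = h.κ a g := by
    rw [← hno _ (pow_mem_of_mem hDφ i a.2), κ_pow_map h hβe hβ]
  have h3 := h.κ_mul (a : E) (a : E)⁻¹ g
  rw [mul_inv_cancel, κ_one_left h] at h3
  rw [h2, ← h3]

variable (h : Twisted e c) (hE : (Nat.card E : K) ≠ 0) (hE1 : ∃ a : E, a ≠ 1)
  (hφr : φ ^ r = 1) (hfree : ∀ a, φ a = a → a = 1) (hβe : ∀ a, β * e a = s a • (e (φ a) * β))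
  (hβr : β ^ r = 1) {T : Module.End K U} {x : MulAut E} {t : E → K}
  (hTe : ∀ a, T * e a = t a • (e (x a) * T)) (hTβ : Commute T β) (hxφ : Commute x φ) {P : ℕ}
  (hP : 0 < P) (hxP : x ^ P = 1) (hTP : T ^ P = 1) (hPr : P.Coprime r)
include h hE hE1 hφr hfree hβe hβr hTe hTβ hxφ hP hxP hTP hPr

/-- Killed displacements: the identity on the labels, or the fixed vectors are fixed. -/
theorem trivial_or_fixed (hirr : ∀ S : Submodule K U, (∀ a, ∀ v ∈ S, e a v ∈ S) → S = ⊥ ∨ S = ⊤)
    (hPE : P.Coprime (Nat.card E)) (M : Set (Module.Dual K U))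
    (hspan : ∀ v, (∀ f ∈ M, f v = 0) → v = 0) (hM : ∀ a, ∀ f ∈ M, f.comp (e a) ∈ M)
    (hkill : ∀ y, β y = y → Kills M β (T y - y)) :
    x = 1 ∨ ∀ y, β y = y → T y = y := by
  by_contra hno
  push Not at hno
  obtain ⟨hx, y₁, hy₁, hTy₁⟩ := hno
  have hβ : IsUnit β := IsUnit.of_pow_eq_one hβr hr.out.ne_zero
  have hT : IsUnit T := IsUnit.of_pow_eq_one hTP hP.ne'
  let Y : Set U := {y | ∃ y₁, β y₁ = y₁ ∧ T y₁ - y₁ = y}
  have hYfix : ∀ y ∈ Y, β y = y := by
    rintro _ ⟨z, hz, rfl⟩
    rw [map_sub, hz]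
    have := pow_fixed_of_commute hTβ hz 1
    rw [pow_one] at this
    rw [this]
  have hYT : ∀ (i : ℕ) y, y ∈ Y → (T ^ i) y ∈ Y := by
    rintro i _ ⟨z, hz, rfl⟩
    refine ⟨(T ^ i) z, pow_fixed_of_commute hTβ hz i, ?_⟩
    rw [map_sub, ← Module.End.mul_apply, ← Module.End.mul_apply, ← pow_succ', pow_succ]
  set y₀ := T y₁ - y₁ with hy₀def
  have hy₀ : y₀ ∈ Y := ⟨y₁, hy₁, rfl⟩
  have hy₀0 : y₀ ≠ 0 := sub_ne_zero.mpr hTy₁
  obtain ⟨f, hf, hf0⟩ : ∃ f ∈ M, f y₀ ≠ 0 := by
    by_contra h'
    push Not at h'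
    exact hy₀0 (hspan _ h')
  have hffix : f.comp β = f := by
    by_contra hne
    exact hf0 (hkill y₁ hy₁ f hf hne)
  obtain ⟨d₀, hd₀, hd₀'⟩ := exists_eigen_of_kills h hβe hirr hE hE1 hβ hfree f
    (fun h0 => hf0 (by rw [h0]; rfl)) hffix
  set D := eigenSubgroup h Y with hDdef
  have hdD : d₀ ∈ D := by
    rintro _ ⟨z, hz, rfl⟩
    exact hd₀' _ fun a ha => hkill z hz _ (hM a f hf) ha
  have hDφ : ∀ d ∈ D, φ d ∈ D := fun d hd => map_mem_eigen h hβe hβ hYfix hd
  have ht0 : ∀ a, t a ≠ 0 := s_ne h hTe hT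
  have hDx : ∀ d ∈ D, x d ∈ D := by
    intro d hd y hy
    have hy' : y = T ((T ^ (P - 1)) y) := by
      rw [← Module.End.mul_apply, ← pow_succ', Nat.sub_add_cancel hP, hTP, Module.End.one_apply]
    obtain ⟨w, hw⟩ := hd _ (hYT (P - 1) y hy)
    refine ⟨(t d)⁻¹ * w, ?_⟩
    have h1 := LinearMap.congr_fun (hTe d) ((T ^ (P - 1)) y)
    rw [Module.End.mul_apply, hw, map_smul, LinearMap.smul_apply, Module.End.mul_apply, ← hy'] at h1
    rw [← smul_smul, h1, smul_smul, inv_mul_cancel₀ (ht0 d), one_smul]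
  have hDxi : ∀ d ∈ D, (x⁻¹ : MulAut E) d ∈ D := fun d hd => by
    rw [show (x⁻¹ : MulAut E) = x ^ (P - 1) from inv_eq_of_mul_eq_one_right
      (by rw [← pow_succ', Nat.sub_add_cancel hP, hxP])]
    exact pow_mem_of_mem hDx _ hd
  have hκx : ∀ a b, h.κ (x a) (x b) = h.κ a b := κ_map h hTe hT
  -- the eigenvalues
  have hch : ∀ d, ∃ w : K, d ∈ D → e d y₀ = w • y₀ := fun d => by
    by_cases hd : d ∈ D
    · obtain ⟨w, hw⟩ := hd y₀ hy₀
      exact ⟨w, fun _ => hw⟩
    · exact ⟨0, fun hc => absurd hc hd⟩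
  choose w hw using hch
  have hwY : ∀ d ∈ D, ∀ y ∈ Y, e d y = w d • y := by
    intro d hd y hy
    by_cases hy0 : y = 0
    · simp [hy0]
    have hch' : ∀ d, ∃ v : K, d ∈ D → e d y = v • y := fun d => by
      by_cases hd : d ∈ D
      · obtain ⟨v, hv⟩ := hd y hy
        exact ⟨v, fun _ => hv⟩
      · exact ⟨0, fun hc => absurd hc hd⟩
    choose v hv using hch'
    rw [hv d hd, eigen_eq h hβe hβ hfree hDφ (hYfix _ hy₀) (hYfix y hy) hy₀0 hy0 hw hv d hd]
  have hwne : ∀ d ∈ D, w d ≠ 0 := fun d hd h0 => e_ne_apply h d hy₀0 (by rw [hw d hd, h0, zero_smul])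
  let Out : E → Prop := fun g => ∃ d ∈ D, h.κ d g ≠ 1
  have hinjorb : ∀ g, Out g → ∀ i j, i < r → j < r →
      (∀ d ∈ D, h.κ d ((φ ^ i) g) = h.κ d ((φ ^ j) g)) → i = j := by
    intro g hg i j hi hj he
    by_contra hne
    wlog hlt : i < j generalizing i j with H
    · exact H j i hj hi (fun d hd => (he d hd).symm) (Ne.symm hne)
        (lt_of_le_of_ne (not_lt.mp hlt) (Ne.symm hne))
    obtain ⟨d, hd, hne'⟩ := hg
    obtain ⟨d', hd', hne''⟩ := moved_of_nontrivial h hβe hβ hφr hfree hDφ hd hne'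
      (i := j - i) (fun hdv => absurd (Nat.le_of_dvd (Nat.sub_pos_of_lt hlt) hdv) (by omega))
    refine hne'' ?_
    have := he _ (pow_mem_of_mem hDφ i hd')
    rw [κ_pow_map h hβe hβ, ← Nat.sub_add_cancel hlt.le, add_comm, pow_add, MulAut.mul_apply,
      κ_pow_map h hβe hβ] at this
    exact this.symm
  have hOutx : ∀ g, Out g → Out (x g) := by
    rintro g ⟨d, hd, hg⟩
    exact ⟨x d, hDx d hd, by rwa [hκx]⟩
  -- the translated eigenvectors are fixed
  have main : ∀ y ∈ Y, y ≠ 0 → ∀ g, Out g →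
      (∀ d ∈ D, h.κ d (x g) = h.κ d g) ∧ T (e g y) = e g y := by
    intro y hy hy0 g hg
    have hyf := hYfix y hy
    have hTyY : T y ∈ Y := by simpa using hYT 1 y hy
    have hTyf := hYfix _ hTyY
    set z := e g y with hz
    have hTz : T z = t g • e (x g) (T y) := by
      rw [hz, ← Module.End.mul_apply, hTe, LinearMap.smul_apply, Module.End.mul_apply]
    have hwz : ∀ d ∈ D, ∀ i, e d ((β ^ i) z) = (h.κ d ((φ ^ i) g) * w d) • (β ^ i) z :=
      fun d hd i => orbit_weight h hβe (hwY d hd y hy) i hyf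
    have hwTz : ∀ d ∈ D, ∀ i, e d ((β ^ i) (T z)) =
        (h.κ d ((φ ^ i) (x g)) * w d) • (β ^ i) (T z) := fun d hd i => by
      rw [hTz, map_smul, map_smul, orbit_weight h hβe (hwY d hd _ hTyY) i hTyf, smul_comm]
    have hwn : ∀ d ∈ D, e d (T (orbitSum β r z) - orbitSum β r z) =
        w d • (T (orbitSum β r z) - orbitSum β r z) := fun d hd =>
      hwY d hd _ ⟨_, orbitSum_fixed hβr z, rfl⟩
    have hk : ∀ d ∈ D, h.κ d (x g) = h.κ d g := by
      by_contra hne
      push Not at hne
      -- the orbits are disjoint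
      have hdis : ∀ i j, i < r → j < r →
          ¬ ∀ d ∈ D, h.κ d ((φ ^ i) (x g)) = h.κ d ((φ ^ j) g) := by
        intro i j hi hj he
        set k := (j + r - i) % r with hk
        have hk' : ∀ d ∈ D, h.κ d (x g) = h.κ d ((φ ^ k) g) := by
          intro d hd
          have := he _ (pow_mem_of_mem hDφ i hd)
          rw [κ_pow_map h hβe hβ] at this
          rw [this, hk, ← pow_eq_pow_mod _ hφr]
          have h2 : (φ ^ j) g = (φ ^ i) ((φ ^ (j + r - i)) g) := by
            show (φ ^ j) g = ((φ ^ i) * (φ ^ (j + r - i))) g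
            rw [← pow_add, show i + (j + r - i) = j + r by omega, pow_add, hφr, mul_one]
          rw [h2, κ_pow_map h hβe hβ]
        have hpow : ∀ m : ℕ, ∀ d ∈ D, h.κ d ((x ^ m) g) = h.κ d ((φ ^ (k * m)) g) := by
          intro m
          induction m with
          | zero => intro d _; simp
          | succ m ih =>
            intro d hd
            have e1 : h.κ d ((x ^ (m + 1)) g) = h.κ ((x⁻¹ : MulAut E) d) ((x ^ m) g) := by
              rw [← hκx ((x⁻¹ : MulAut E) d), MulAut.apply_inv_self, pow_succ']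
              rfl
            rw [e1, ih _ (hDxi d hd), ← hκx, MulAut.apply_inv_self]
            have e2 : x ((φ ^ (k * m)) g) = (φ ^ (k * m)) (x g) := by
              rw [← MulAut.mul_apply, (hxφ.pow_right (k * m)).eq, MulAut.mul_apply]
            have hd' : ((φ ^ (k * m))⁻¹ : MulAut E) d ∈ D := by
              have hmul : φ ^ (k * m) * φ ^ ((r - 1) * (k * m)) = 1 := by
                rw [← pow_add, show k * m + (r - 1) * (k * m) = r * (k * m) by
                  rw [Nat.sub_mul, one_mul, Nat.add_sub_cancel' (Nat.le_mul_of_pos_left _ hr.out.pos)],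
                  pow_mul, hφr, one_pow]
              rw [inv_eq_of_mul_eq_one_right hmul]
              exact pow_mem_of_mem hDφ _ hd
            rw [e2, ← MulAut.apply_inv_self _ (φ ^ (k * m)) d, κ_pow_map h hβe hβ, hk' _ hd',
              ← κ_pow_map h hβe hβ (k * m), MulAut.apply_inv_self, ← MulAut.mul_apply, ← pow_add,
              Nat.mul_succ]
        obtain ⟨d, hd, hne'⟩ := hne
        by_cases hk0 : k = 0
        · exact hne' (by rw [hk' d hd, hk0, pow_zero, MulAut.one_apply])
        · have hkP : ¬ r ∣ k * P := fun hdv => by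
            rcases hr.out.dvd_mul.mp hdv with h' | h'
            · exact hk0 (Nat.eq_zero_of_dvd_of_lt h' (Nat.mod_lt _ hr.out.pos))
            · exact hr.out.ne_one (Nat.eq_one_of_dvd_coprimes hPr h' dvd_rfl)
          obtain ⟨d₁, hd₁, hne₁⟩ := hg
          obtain ⟨d₂, hd₂, hne₂⟩ := moved_of_nontrivial h hβe hβ hφr hfree hDφ hd₁ hne₁ hkP
          exact hne₂ (by rw [← hpow P d₂ hd₂, hxP, MulAut.one_apply])
      let χ : ℕ ⊕ ℕ → D → K := Sum.elim (fun i d => h.κ d ((φ ^ i) (x g)) * w d)
        (fun i d => h.κ d ((φ ^ i) g) * w d)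
      let u : ℕ ⊕ ℕ → U := Sum.elim (fun i => (β ^ i) (T z)) (fun i => -(β ^ i) z)
      have hu : ∀ i (d : D), e d (u i) = χ i d • u i := by
        rintro (i | i) d
        · exact hwTz d d.2 i
        · simp [u, χ, hwz d d.2 i]
      set S' := (Finset.range r).disjSum (Finset.range r) with hS'
      have hsum : ∑ i ∈ S', u i = T (orbitSum β r z) - orbitSum β r z := by
        rw [Finset.sum_disjSum, orbitSum_comm hTβ, orbitSum_apply, orbitSum_apply, sub_eq_add_neg]
        simp [u, Finset.sum_neg_distrib]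
      obtain ⟨d₁, hd₁, hne₁⟩ := hg
      have hz2 : ∑ i ∈ S', (χ i ⟨d₁, hd₁⟩ - w d₁) • u i = 0 := by
        simp only [sub_smul, Finset.sum_sub_distrib, ← Finset.smul_sum]
        rw [sub_eq_zero, hsum, ← hwn d₁ hd₁, ← hsum, map_sum]
        exact Finset.sum_congr rfl fun i _ => (hu i ⟨d₁, hd₁⟩).symm
      have hinj : Set.InjOn χ (S' : Set (ℕ ⊕ ℕ)) := by
        intro i hi j hj he
        rcases i with i | i <;> rcases j with j | j <;>
          simp only [hS', Finset.mem_coe, Finset.inl_mem_disjSum, Finset.inr_mem_disjSum,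
            Finset.mem_range] at hi hj
        · exact congrArg Sum.inl (hinjorb (x g) (hOutx g ⟨d₁, hd₁, hne₁⟩) i j hi hj fun d hd =>
            mul_right_cancel₀ (hwne d hd) (congrFun he ⟨d, hd⟩))
        · exact absurd (fun d hd => mul_right_cancel₀ (hwne d hd) (congrFun he ⟨d, hd⟩))
            (hdis i j hi hj)
        · exact absurd (fun d hd => mul_right_cancel₀ (hwne d hd) (congrFun he.symm ⟨d, hd⟩))
            (hdis j i hj hi)
        · exact congrArg Sum.inr (hinjorb g ⟨d₁, hd₁, hne₁⟩ i j hi hj fun d hd =>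
            mul_right_cancel₀ (hwne d hd) (congrFun he ⟨d, hd⟩))
      have := weights_independent (fun d : D => e d) χ (fun i => (χ i ⟨d₁, hd₁⟩ - w d₁) • u i) S'
        hinj (fun i _ d => by rw [map_smul, hu i d, smul_comm]) hz2 (Sum.inr 0)
        (by simp [hS', hr.out.pos])
      rcases smul_eq_zero.mp this with h1 | h1
      · simp only [χ, Sum.elim_inr, pow_zero, MulAut.one_apply, sub_eq_zero] at h1
        exact hne₁ ((mul_left_eq_self₀.mp h1).resolve_right (hwne _ hd₁))
      · simp [u] at h1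
        exact e_ne_apply h g hy0 h1
    refine ⟨hk, ?_⟩
    -- the same orbit
    obtain ⟨d₁, hd₁, hne₁⟩ := hg
    have hwTz' : ∀ d ∈ D, ∀ i, e d ((β ^ i) (T z)) = (h.κ d ((φ ^ i) g) * w d) • (β ^ i) (T z) := by
      intro d hd i
      rw [hwTz d hd i]
      congr 2
      have hd' : ((φ ^ i)⁻¹ : MulAut E) d ∈ D := by
        have hmul : φ ^ i * φ ^ ((r - 1) * i) = 1 := by
          rw [← pow_add, show i + (r - 1) * i = r * i by
            rw [Nat.sub_mul, one_mul, Nat.add_sub_cancel' (Nat.le_mul_of_pos_left _ hr.out.pos)],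
            pow_mul, hφr, one_pow]
        rw [inv_eq_of_mul_eq_one_right hmul]
        exact pow_mem_of_mem hDφ _ hd
      rw [← MulAut.apply_inv_self _ (φ ^ i) d, κ_pow_map h hβe hβ, κ_pow_map h hβe hβ, hk _ hd']
    have hz2 : ∑ i ∈ Finset.range r,
        (h.κ d₁ ((φ ^ i) g) * w d₁ - w d₁) • (β ^ i) (T z - z) = 0 := by
      simp only [sub_smul, Finset.sum_sub_distrib, ← Finset.smul_sum]
      rw [← orbitSum_apply, map_sub (orbitSum β r), ← orbitSum_comm hTβ, sub_eq_zero, ← hwn d₁ hd₁]
      rw [orbitSum_comm hTβ, orbitSum_apply, orbitSum_apply, map_sub, map_sum, map_sum,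
        ← Finset.sum_sub_distrib]
      refine Finset.sum_congr rfl fun i _ => ?_
      rw [map_sub, smul_sub, hwTz' d₁ hd₁, hwz d₁ hd₁]
    have := weights_independent (fun d : D => e d) (fun i (d : D) => h.κ d ((φ ^ i) g) * w d)
      (fun i => (h.κ d₁ ((φ ^ i) g) * w d₁ - w d₁) • (β ^ i) (T z - z)) (Finset.range r) ?_
      (fun i _ d => by
        rw [map_smul, map_sub, map_sub, hwTz' d d.2, hwz d d.2, ← smul_sub, smul_comm]) hz2 0
      (Finset.mem_range.mpr hr.out.pos)
    · rcases smul_eq_zero.mp this with h1 | h1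
      · rw [pow_zero, MulAut.one_apply, sub_eq_zero] at h1
        exact absurd ((mul_left_eq_self₀.mp h1).resolve_right (hwne _ hd₁)) hne₁
      · exact sub_eq_zero.mp (by simpa using h1)
    · intro i hi j hj he
      exact hinjorb g ⟨d₁, hd₁, hne₁⟩ i j (Finset.mem_range.mp hi) (Finset.mem_range.mp hj)
        fun d hd => mul_right_cancel₀ (hwne d hd) (congrFun he ⟨d, hd⟩)
  -- the displacement lies in `D`
  let hh : E →* E := (MonoidHom.id E)⁻¹ * x.toMonoidHom
  have hhh : ∀ g, hh g = g⁻¹ * x g := fun g => rfl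
  have hline : ∀ g, Out g → ∀ y ∈ Y, y ≠ 0 → ∃ l : K, e (hh g) (T y) = l • y := by
    intro g hg y hy hy0
    obtain ⟨-, h1⟩ := main y hy hy0 g hg
    refine ⟨c g (hh g) * (t g)⁻¹, ?_⟩
    have hinj : Function.Injective (e g) := fun a b hab => sub_eq_zero.mp (by
      by_contra hne
      exact e_ne_apply h g hne (by rw [map_sub, hab, sub_self]))
    refine hinj ?_
    rw [← Module.End.mul_apply, h.mul, map_smul, hhh, mul_inv_cancel_left, LinearMap.smul_apply]
    rw [← Module.End.mul_apply, hTe, LinearMap.smul_apply, Module.End.mul_apply] at h1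
    rw [← h1, smul_smul, mul_assoc, inv_mul_cancel₀ (ht0 g), mul_one]
  have hOutmul : ∀ g, Out g → hh g ∈ D := by
    intro g hg
    obtain ⟨g₂, hg₂, hg12⟩ : ∃ g₂, Out g₂ ∧ Out (g * g₂) := by
      by_cases hsq : Out (g * g)
      · exact ⟨g, hg, hsq⟩
      · obtain ⟨d, hd, hne⟩ := hg
        refine ⟨φ g, ⟨φ d, hDφ d hd, by rwa [κ_map h hβe hβ]⟩, ?_⟩
        by_contra hO
        obtain ⟨d', hd', hne'⟩ := moved_of_nontrivial h hβe hβ hφr hfree hDφ hd hne (i := 1)
          (fun hdv => hr.out.ne_one (Nat.dvd_one.mp hdv))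
        rw [pow_one] at hne'
        simp only [Out, not_exists, not_and, not_not] at hsq hO
        have h1 := hsq d' hd'
        have h2 := hO d' hd'
        rw [κ_mul_right h] at h1 h2
        exact hne' (mul_left_cancel₀ (h.κ_ne d' g) (h2.trans h1.symm))
    intro y hy
    by_cases hy0 : y = 0
    · exact ⟨0, by simp [hy0]⟩
    obtain ⟨l2, hl2⟩ := hline g₂ hg₂ y hy hy0
    obtain ⟨l3, hl3⟩ := hline _ hg12 y hy hy0
    have hTy0 : T y ≠ 0 := fun h0 => hy0 (by
      obtain ⟨u, hu⟩ := hT
      have := congrArg (↑u⁻¹ : Module.End K U) h0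
      rwa [← hu, map_zero, ← Module.End.mul_apply, Units.inv_mul, Module.End.one_apply] at this)
    have hl20 : l2 ≠ 0 := fun h0 => e_ne_apply h (hh g₂) hTy0 (by rw [hl2, h0, zero_smul])
    have h1 := LinearMap.congr_fun (h.mul (hh g) (hh g₂)) (T y)
    rw [Module.End.mul_apply, hl2, map_smul, LinearMap.smul_apply, ← map_mul hh, hl3, smul_smul] at h1
    refine ⟨l2⁻¹ * (c (hh g) (hh g₂) * l3), ?_⟩
    rw [← smul_smul, ← h1, smul_smul, inv_mul_cancel₀ hl20, one_smul]
  obtain ⟨b, hb⟩ : ∃ b, Out b := by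
    obtain ⟨b, hb⟩ := h.exists_κ_ne_one hd₀
    exact ⟨b, d₀, hdD, by rw [κ_swap h b d₀, Ne, inv_eq_one]; exact hb⟩
  have hsplit : ∀ g, ¬ Out g → Out (g * b) := fun g hg => by
    simp only [Out, not_exists, not_and, not_not] at hg
    obtain ⟨d, hd, hne⟩ := hb
    exact ⟨d, hd, by rw [κ_mul_right h, hg d hd, one_mul]; exact hne⟩
  have hhD : ∀ g, hh g ∈ D := by
    intro g
    by_cases hg : Out g
    · exact hOutmul g hg
    · have h1 := hOutmul _ (hsplit g hg)
      rw [map_mul] at h1
      simpa using mul_mem h1 (inv_mem (hOutmul b hb))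
  have hxD : ∀ d ∈ D, x d = d := by
    intro d hd
    by_contra hne
    obtain ⟨a, ha⟩ := h.exists_κ_ne_one (a := x d * d⁻¹) (by rwa [Ne, mul_inv_eq_one])
    have hout : ∀ g, Out g → h.κ (x g) (x d * d⁻¹) = 1 := by
      intro g hg
      rw [κ_mul_right h, hκx]
      have := (main y₀ hy₀ hy₀0 g hg).1 d hd
      rw [κ_swap h d g, ← this, ← κ_swap h d (x g), ← κ_mul_right h, mul_inv_cancel,
        κ_swap h 1 (x g), κ_one_left h, inv_one]
    have hall : ∀ g, h.κ (x g) (x d * d⁻¹) = 1 := by
      intro g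
      by_cases hg : Out g
      · exact hout g hg
      · have h1 := hout _ (hsplit g hg)
        rwa [map_mul, h.κ_mul, hout b hb, mul_one] at h1
    exact ha (by rw [← MulAut.apply_inv_self E x a]; exact hall _)
  refine hx (MulEquiv.ext fun g => ?_)
  have hpow : ∀ m : ℕ, (x ^ m) g = g * hh g ^ m := by
    intro m
    induction m with
    | zero => simp
    | succ m ih =>
      rw [pow_succ', MulAut.mul_apply, ih, map_mul, map_pow, hxD _ (hhD g),
        show x g = g * hh g by rw [hhh, mul_inv_cancel_left], mul_assoc, ← pow_succ']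
  have h1 : hh g ^ P = 1 := by
    have := hpow P
    rw [hxP, MulAut.one_apply] at this
    exact mul_left_cancel (this.symm.trans (mul_one g).symm)
  have h2 : hh g ^ Nat.card E = 1 := pow_card_eq_one'
  have h3 := (pow_gcd_eq_one.mpr ⟨h1, h2⟩ : hh g ^ Nat.gcd P (Nat.card E) = 1)
  rw [hPE.gcd_eq_one, pow_one, hhh, inv_mul_eq_one] at h3
  exact h3.symm

/-- A semiregular operator does not fix all the fixed vectors. -/
theorem false_of_semiregular {ℓ n : ℕ} (hℓ : ℓ.Prime) (hPℓ : P = ℓ ^ n) (hP3 : 3 ≤ P)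
    (hrK : (r : K) ≠ 0) (hxfree : ∀ i, 0 < i → i < P → ∀ a, (x ^ i) a = a → a = 1)
    (hfix : ∀ y, β y = y → T y = y) : False := by
  classical
  haveI := Fintype.ofFinite E
  haveI : NeZero P := ⟨hP.ne'⟩
  set β' := β * T with hβ'def
  set φ' := φ * x with hφ'def
  have hm1 : 1 < r * P := by
    have := hr.out.two_le
    nlinarith
  have hφ'm : φ' ^ (r * P) = 1 := by
    rw [hφ'def, hxφ.symm.mul_pow, pow_mul, hφr, one_pow, mul_comm r, pow_mul, hxP, one_pow, one_mul]
  have hβ'm : β' ^ (r * P) = 1 := by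
    rw [hβ'def, hTβ.symm.mul_pow, pow_mul, hβr, one_pow, mul_comm r, pow_mul, hTP, one_pow, one_mul]
  have hβ'e : ∀ a, β' * e a = (t a * s (x a)) • (e (φ' a) * β') := fun a => by
    rw [hβ'def, mul_assoc, hTe, mul_smul_comm, ← mul_assoc, hβe, smul_mul_assoc, smul_smul, mul_assoc,
      hφ'def, MulAut.mul_apply]
  have hfree' : ∀ i, 0 < i → i < r * P → ∀ a, (φ' ^ i) a = a → a = 1 := by
    intro i hi0 hi a ha
    have hit : ∀ j : ℕ, (φ' ^ (i * j)) a = a := by
      intro j
      induction j with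
      | zero => rw [mul_zero, pow_zero, MulAut.one_apply]
      | succ j ih => rw [Nat.mul_succ, pow_add, MulAut.mul_apply, ha, ih]
    by_contra ha1
    have hP' : P ∣ i := by
      by_contra hnd
      have h1 := hit r
      rw [hφ'def, hxφ.symm.mul_pow, mul_comm i, pow_mul φ, hφr, one_pow, one_mul,
        pow_eq_pow_mod _ hxP] at h1
      refine ha1 (hxfree _ (Nat.pos_of_ne_zero fun h0 => hnd ?_) (Nat.mod_lt _ hP) a h1)
      exact hPr.dvd_of_dvd_mul_left (Nat.dvd_of_mod_eq_zero h0)
    obtain ⟨j, rfl⟩ := hP'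
    rw [hφ'def, hxφ.symm.mul_pow, pow_mul x, hxP, one_pow, mul_one] at ha
    refine ha1 (hfree a (fixed_of_pow_fixed hφr ?_ ha))
    intro hd
    rcases hr.out.dvd_mul.mp hd with h' | h'
    · exact hr.out.ne_one (Nat.eq_one_of_dvd_coprimes hPr h' dvd_rfl)
    · have hj0 : 0 < j := Nat.pos_of_mul_pos_left hi0
      have := Nat.le_of_dvd hj0 h'
      nlinarith
  obtain ⟨j, hj1, hj0⟩ : ∃ j, j % r = 1 ∧ P ∣ j := by
    obtain ⟨j, h1, h2⟩ := Nat.chineseRemainder hPr.symm 1 0
    exact ⟨j, by rw [h1, Nat.mod_eq_of_lt hr.out.one_lt], Nat.modEq_zero_iff_dvd.mp h2⟩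
  have hβ'j : β' ^ j = β := by
    obtain ⟨i, hi⟩ := hj0
    rw [hβ'def, hTβ.symm.mul_pow, pow_eq_pow_mod j hβr, hj1, pow_one]
    rw [hi, pow_mul, hTP, one_pow, mul_one]
  have hT : IsUnit T := IsUnit.of_pow_eq_one hTP hP.ne'
  by_cases hPK : (P : K) = 0
  · -- the unipotent case
    obtain ⟨l, hl⟩ := Module.End.exists_eigenvalue (h.avg β')
    have hs'0 : ∀ a, t a * s (x a) ≠ 0 :=
      s_ne h hβ'e (IsUnit.of_pow_eq_one hβ'm (by omega))
    obtain ⟨S, hS0, -, hSe, hSβ', hSirr⟩ := h.exists_irreducible hβ'e hs'0 hE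
      (fun a ha => hfree' 1 Nat.one_pos hm1 a (by rwa [pow_one])) hl
    have hSpow : ∀ i : ℕ, ∀ v ∈ S, (β' ^ i) v ∈ S := by
      intro i
      induction i with
      | zero => exact fun v hv => hv
      | succ i ih => intro v hv; rw [pow_succ', Module.End.mul_apply]; exact hSβ' _ (ih v hv)
    have hSβ : ∀ v ∈ S, β v ∈ S := fun v hv => by rw [← hβ'j]; exact hSpow j v hv
    have hST : ∀ v ∈ S, T v ∈ S := by
      intro v hv
      have e1 : T = β ^ (r - 1) * β' := by
        rw [hβ'def, ← mul_assoc, ← pow_succ, Nat.sub_add_cancel hr.out.one_le, hβr, one_mul]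
      rw [e1, ← hβ'j, ← pow_mul, Module.End.mul_apply]
      exact hSpow _ _ (hSβ' v hv)
    haveI : Nontrivial S := Submodule.nontrivial_iff_ne_bot.mpr hS0
    have h' := h.restrict hSe
    set eS := fun a => (e a).restrict (hSe a) with heS
    set βS := β.restrict hSβ with hβS
    set TS := T.restrict hST with hTS
    have hirrS : ∀ V : Submodule K S, (∀ a, ∀ v ∈ V, eS a v ∈ V) → V = ⊥ ∨ V = ⊤ := by
      intro V hV
      by_cases hb : V = ⊥
      · exact Or.inl hb
      refine Or.inr (Submodule.map_injective_of_injective S.injective_subtype ?_)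
      rw [Submodule.map_top, Submodule.range_subtype]
      exact hSirr _ (Submodule.map_subtype_le S V)
        (fun h0 => hb (Submodule.map_injective_of_injective S.injective_subtype
          (h0.trans (Submodule.map_bot S.subtype).symm)))
        (by rintro a _ ⟨v, hv, rfl⟩; exact ⟨_, hV a v hv, rfl⟩)
    have hβSe : ∀ a, βS * eS a = s a • (eS (φ a) * βS) := fun a =>
      LinearMap.ext fun v => Subtype.ext (LinearMap.congr_fun (hβe a) (v : U))
    have hTSe : ∀ a, TS * eS a = t a • (eS (x a) * TS) := fun a =>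
      LinearMap.ext fun v => Subtype.ext (LinearMap.congr_fun (hTe a) (v : U))
    have hβSr : βS ^ r = 1 := LinearMap.ext fun v => Subtype.ext (by
      rw [hβS, Module.End.pow_restrict]
      show (β ^ r) (v : U) = _
      rw [hβr]; rfl)
    have hTSP : TS ^ P = 1 := LinearMap.ext fun v => Subtype.ext (by
      rw [hTS, Module.End.pow_restrict]
      show (T ^ P) (v : U) = _
      rw [hTP]; rfl)
    have hTSβ : Commute TS βS :=
      LinearMap.ext fun v => Subtype.ext (LinearMap.congr_fun hTβ.eq (v : U))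
    have hfixS : ∀ v, βS v = v → TS v = v := fun v hv =>
      Subtype.ext (hfix _ (congrArg Subtype.val hv))
    haveI : Fact ℓ.Prime := ⟨hℓ⟩
    have hchar : (ℓ : K) = 0 := by
      rw [hPℓ, Nat.cast_pow] at hPK
      exact eq_zero_of_pow_eq_zero hPK
    haveI : CharP K ℓ := (CharP.charP_iff_prime_eq_zero hℓ).mpr hchar
    -- the unipotent operator
    haveI : CharP (Module.End K S) ℓ := charP_of_injective_algebraMap
      (FaithfulSMul.algebraMap_injective K (Module.End K S)) ℓ
    have hTpow : (TS - 1) ^ P = 0 := by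
      rw [hPℓ, sub_pow_char_pow_of_commute _ _ (Commute.one_right TS), ← hPℓ, hTSP, one_pow, sub_self]
    have hunip : ∀ (V : Submodule K S), (∀ v ∈ V, TS v ∈ V) →
        (∀ v ∈ V, TS v = v → v = 0) → V = ⊥ := by
      intro V hV hfx
      rw [Submodule.eq_bot_iff]
      intro v hv
      have hk : ∀ k : ℕ, ((TS - 1) ^ k) v ∈ V := by
        intro k
        induction k with
        | zero => exact hv
        | succ k ih =>
          rw [pow_succ', Module.End.mul_apply, LinearMap.sub_apply, Module.End.one_apply]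
          exact sub_mem (hV _ ih) ih
      have hdown : ∀ k : ℕ, ((TS - 1) ^ k) v = 0 → v = 0 := by
        intro k
        induction k with
        | zero => exact fun h0 => h0
        | succ k ih =>
          intro h0
          rw [pow_succ', Module.End.mul_apply, LinearMap.sub_apply, Module.End.one_apply,
            sub_eq_zero] at h0
          exact ih (hfx _ (hk k) h0)
      exact hdown P (by rw [hTpow]; rfl)
    -- the eigenspaces span
    let ρ : Multiplicative (ZMod r) →* Module.End K S :=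
      { toFun := fun a => βS ^ (Multiplicative.toAdd a).val
        map_one' := by simp
        map_mul' := fun a b => by
          simp only [toAdd_mul, ZMod.val_add, ← pow_add]
          exact (pow_eq_pow_mod _ hβSr).symm }
    have htop := span_weights_eq_top (K := K) (H := Multiplicative (ZMod r))
      (by rw [Nat.card_congr Multiplicative.toAdd, Nat.card_zmod]; exact hrK) ρ
    have hext : ∀ X : Module.End K S,
        (∀ (μ : K) (v : S), μ ^ r = 1 → βS v = μ • v → X v = 0) → X = 0 := by
      intro X hX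
      refine LinearMap.ext_on htop fun v hv => ?_
      obtain ⟨θ, hθ⟩ := hv
      refine hX (θ (Multiplicative.ofAdd 1)) v ?_ ?_
      · rw [← Units.val_pow_eq_pow_val, ← map_pow, ← ofAdd_nsmul, nsmul_one, ZMod.natCast_self,
          ofAdd_zero, map_one, Units.val_one]
      · have hθ1 := hθ (Multiplicative.ofAdd 1)
        haveI : Fact (1 < r) := ⟨hr.out.one_lt⟩
        simpa [ρ, ZMod.val_one] using hθ1
    have hxne : TS ≠ 1 := by
      intro h1
      obtain ⟨a, ha⟩ := hE1
      refine ha (hxfree 1 Nat.one_pos (by omega) a (by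
        rw [pow_one]
        by_contra hne
        obtain ⟨b, hb⟩ := h'.exists_κ_ne_one (a := x a * a⁻¹) (by rwa [Ne, mul_inv_eq_one])
        refine hb ?_
        have e1 := hTSe a
        rw [h1, one_mul, mul_one] at e1
        have e2 := congrArg (h'.conj b) e1
        rw [h'.conj_smul, h'.conj_e, h'.conj_e, smul_smul, mul_comm (t a), ← smul_smul, ← e1] at e2
        have e3 := smul_left_injective K (h'.ne_zero a) e2
        have e4 := κ_mul_right h' b (x a * a⁻¹) a
        rw [inv_mul_cancel_right, ← e3] at e4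
        exact (mul_left_eq_self₀.mp e4.symm).resolve_right (h'.κ_ne _ _)))
    have hfreeφ : ∀ i, 0 < i → i < r → ∀ a, (φ ^ i) a = a → a = 1 := fun i h0 hi a ha =>
      hfree a (fixed_of_pow_fixed hφr (fun hd => absurd (Nat.le_of_dvd h0 hd) (by omega)) ha)
    have hdiff : ∀ μ : K, μ ^ r = 1 → Module.finrank K (Module.End.eigenspace βS μ) ≤
        Module.finrank K (Module.End.eigenspace βS 1) + 1 := fun μ hμ =>
      eigen_diff h' hirrS hE hrK hφr hfreeφ βS s hβSe hβSr hμ (one_pow r)
    have hEinv : ∀ μ : K, ∀ v ∈ Module.End.eigenspace βS μ, TS v ∈ Module.End.eigenspace βS μ := by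
      intro μ v hv
      rw [Module.End.mem_eigenspace_iff] at hv ⊢
      rw [← Module.End.mul_apply, ← hTSβ.eq, Module.End.mul_apply, hv, map_smul]
    -- lines and planes
    have hsmall : ∀ (V : Submodule K S), (∀ v ∈ V, TS v ∈ V) → Module.finrank K V ≤ 1 →
        ∀ v ∈ V, TS v = v := by
      intro V hV hle v hv
      by_contra hne
      have hw : TS v - v ∈ V := sub_mem (hV v hv) hv
      obtain ⟨⟨g, hg⟩, hgen⟩ := finrank_le_one_iff.mp hle
      obtain ⟨a, ha⟩ := hgen ⟨v, hv⟩
      obtain ⟨b, hb⟩ := hgen ⟨TS v, hV v hv⟩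
      have ha' : a • g = v := congrArg Subtype.val ha
      have hb' : b • g = TS v := congrArg Subtype.val hb
      have ha0 : a ≠ 0 := fun h0 => hne (by rw [← ha', h0, zero_smul, map_zero])
      have hTv : TS v = (b / a) • v := by rw [← hb', ← ha', smul_smul, div_mul_cancel₀ _ ha0]
      have hk : ∀ k : ℕ, ((TS - 1) ^ k) v = (b / a - 1) ^ k • v := by
        intro k
        induction k with
        | zero => simp
        | succ k ih =>
          rw [pow_succ', Module.End.mul_apply, ih, map_smul, LinearMap.sub_apply,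
            Module.End.one_apply, hTv]
          rw [smul_sub, smul_smul, ← sub_smul, pow_succ, mul_sub, mul_one]
      have h0 := hk P
      rw [hTpow, LinearMap.zero_apply] at h0
      rcases smul_eq_zero.mp h0.symm with h1 | h1
      · rw [sub_eq_zero.mp (eq_zero_of_pow_eq_zero h1), one_smul] at hTv
        exact hne hTv
      · exact hne (by rw [h1, map_zero])
    -- the basis
    have hS'irr := span_range_eq_top h' hirrS hE
    have hind : LinearIndependent K eS := by
      rw [Fintype.linearIndependent_iff]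
      intro g hg a
      have h1 := weights_independent (V := Module.End K S)
        (fun b => (LinearMap.mulRight K (↑(h'.u b)⁻¹ : Module.End K S)).comp (LinearMap.mulLeft K (eS b)))
        (fun i b => h'.κ b i) (fun i => g i • eS i) Finset.univ ?_ (fun i _ b => ?_) hg a (Finset.mem_univ a)
      · exact (smul_eq_zero.mp h1).resolve_right (h'.ne_zero a)
      · intro i _ i' _ hii
        by_contra hne
        obtain ⟨b, hb⟩ := h'.exists_κ_ne_one (a := i * i'⁻¹) (by rwa [Ne, mul_inv_eq_one])
        refine hb ?_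
        have e4 := κ_mul_right h' b (i * i'⁻¹) i'
        rw [inv_mul_cancel_right, show h'.κ b i = h'.κ b i' from congrFun hii b] at e4
        exact (mul_left_eq_self₀.mp e4.symm).resolve_right (h'.κ_ne _ _)
      · show eS b * (g i • eS i) * ↑(h'.u b)⁻¹ = _
        rw [show eS b * (g i • eS i) * ↑(h'.u b)⁻¹ = h'.conj b (g i • eS i) from rfl, h'.conj_smul,
          h'.conj_e, smul_comm]
    let be : Module.Basis E K (Module.End K S) := Module.Basis.mk hind hS'irr.ge
    have hbe : ∀ a, be a = eS a := fun a => Module.Basis.mk_apply hind hS'irr.ge a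
    -- invariant operators are traces
    obtain ⟨R, hR⟩ := CfsgLib.Core.HHCritical.exists_orbit_reps (MulAut.toPerm E x) P hP
      (by rw [← map_pow, hxP, map_one]) (fun a => a ≠ 1) (fun a ha i h1 h2 hia =>
        ha (hxfree i h1 h2 a (by rw [← map_pow] at hia; exact hia)))
    let δ : E → K := fun a => if a ≠ 1 ∧ a ∈ R then 1 else 0
    have hδ : ∀ a, a ≠ 1 → ∑ i ∈ Finset.range P, δ ((x ^ i) a) = 1 := by
      intro a ha
      obtain ⟨i, ⟨hi, hiR⟩, huniq⟩ := hR a ha
      have hpw : ∀ k, ((MulAut.toPerm E x) ^ k) a = (x ^ k) a := fun k => by rw [← map_pow]; rfl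
      have hne : ∀ k, (x ^ k) a ≠ 1 := fun k h1 => ha ((x ^ k).injective (h1.trans (map_one _).symm))
      rw [Finset.sum_eq_single_of_mem i (Finset.mem_range.mpr hi)]
      · rw [hpw] at hiR
        simp only [δ]
        rw [if_pos ⟨hne i, hiR⟩]
      · intro k hk hki
        simp only [δ]
        rw [if_neg fun hh' => hki (huniq k ⟨Finset.mem_range.mp hk, by rw [hpw]; exact hh'.2⟩)]
    let Dl : Module.End K (Module.End K S) := be.constr K fun a => δ a • eS a
    let C : Module.End K (Module.End K S) :=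
      (LinearMap.mulRight K (TS ^ (P - 1))).comp (LinearMap.mulLeft K TS)
    have hC : ∀ X, C X = TS * X * TS ^ (P - 1) := fun X => rfl
    have hTinv : TS * TS ^ (P - 1) = 1 := by rw [← pow_succ', Nat.sub_add_cancel hP, hTSP]
    have hTinv' : TS ^ (P - 1) * TS = 1 := by rw [← pow_succ, Nat.sub_add_cancel hP, hTSP]
    have hCe : ∀ a, C (eS a) = t a • eS (x a) := fun a => by
      rw [hC, hTSe, smul_mul_assoc, mul_assoc, hTinv, mul_one]
    have hCk : ∀ (k : ℕ) a, ∃ u : K, (C ^ k) (eS a) = u • eS ((x ^ k) a) := by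
      intro k
      induction k with
      | zero => exact fun a => ⟨1, by simp⟩
      | succ k ih =>
        intro a
        obtain ⟨u, hu⟩ := ih a
        exact ⟨u * t ((x ^ k) a), by
          rw [pow_succ', Module.End.mul_apply, hu, map_smul, hCe, smul_smul, pow_succ', MulAut.mul_apply]⟩
    have hCpow : ∀ (k : ℕ) X, (C ^ k) X = TS ^ k * X * (TS ^ (P - 1)) ^ k := by
      intro k
      induction k with
      | zero => intro X; simp
      | succ k ih =>
        intro X
        rw [pow_succ' C, Module.End.mul_apply, ih, hC, pow_succ' TS k, pow_succ (TS ^ (P - 1)) k]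
        simp only [mul_assoc]
    have hCP : C ^ P = 1 := LinearMap.ext fun X => by
      rw [hCpow, hTSP, ← pow_mul, mul_comm, pow_mul, hTSP, one_pow, one_mul, mul_one,
        Module.End.one_apply]
    have hsum : ∀ X, ∑ i ∈ Finset.range P, (C ^ (P - i)) (Dl ((C ^ i) X)) = X - be.coord 1 X • 1 := by
      intro X
      refine LinearMap.congr_fun (be.ext (f₁ := ∑ i ∈ Finset.range P, (C ^ (P - i)).comp (Dl.comp (C ^ i)))
        (f₂ := LinearMap.id - (be.coord 1).smulRight (1 : Module.End K S)) fun a => ?_) X |> fun h0 => by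
          simpa [LinearMap.sum_apply] using h0
      rw [LinearMap.sum_apply, hbe]
      have hterm : ∀ i ∈ Finset.range P,
          (C ^ (P - i)).comp (Dl.comp (C ^ i)) (eS a) = δ ((x ^ i) a) • eS a := by
        intro i hi
        obtain ⟨u, hu⟩ := hCk i a
        rw [LinearMap.comp_apply, LinearMap.comp_apply, hu, map_smul]
        rw [show Dl (eS ((x ^ i) a)) = δ ((x ^ i) a) • eS ((x ^ i) a) by
          rw [← hbe, Module.Basis.constr_basis, hbe]]
        rw [smul_comm, map_smul, ← hu, ← Module.End.mul_apply, ← pow_add,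
          Nat.sub_add_cancel (Finset.mem_range.mp hi).le, hCP, Module.End.one_apply]
      rw [Finset.sum_congr rfl hterm, ← Finset.sum_smul, LinearMap.sub_apply, LinearMap.id_apply,
        LinearMap.smulRight_apply, Module.Basis.coord_apply, ← hbe, Module.Basis.repr_self]
      by_cases ha : a = 1
      · subst ha
        simp [δ, hbe, h'.one]
      · rw [hδ a ha, one_smul, Finsupp.single_eq_of_ne (Ne.symm ha), zero_smul, sub_zero]
    set Tr : Module.End K S := ∑ i ∈ Finset.range P, TS ^ i with hTr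
    have hFix : ∀ X, Commute X TS → ∃ (k : K) (H : Module.End K S),
        ∀ v, TS v = v → X v = k • v + Tr (H v) := by
      intro X hX
      refine ⟨be.coord 1 X, Dl X, fun v hv => ?_⟩
      have h1 := hsum X
      have hCX : ∀ k : ℕ, (C ^ k) X = X := by
        intro k
        induction k with
        | zero => rfl
        | succ k ih =>
          rw [pow_succ', Module.End.mul_apply, ih, hC, ← hX.eq, mul_assoc, hTinv, mul_one]
      have hvp : ∀ k : ℕ, (TS ^ k) v = v := by
        intro k
        induction k with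
        | zero => rfl
        | succ k ih => rw [pow_succ', Module.End.mul_apply, ih, hv]
      have h2 := LinearMap.congr_fun h1 v
      rw [LinearMap.sum_apply, LinearMap.sub_apply, LinearMap.smul_apply, Module.End.one_apply,
        Finset.sum_congr rfl fun i _ => show (C ^ (P - i)) (Dl ((C ^ i) X)) v =
            (TS ^ (P - i)) (Dl X v) by
          rw [hCX, hCpow, Module.End.mul_apply, Module.End.mul_apply, ← pow_mul, hvp]] at h2
      have h3 : ∑ i ∈ Finset.range P, (TS ^ (P - i)) (Dl X v) = Tr (Dl X v) := by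
        rw [hTr, LinearMap.sum_apply]
        have e1 := Finset.sum_range_reflect (fun i => (TS ^ (i + 1)) (Dl X v)) P
        have e2 := Finset.sum_range_succ' (fun i => (TS ^ i) (Dl X v)) P
        have e3 := Finset.sum_range_succ (fun i => (TS ^ i) (Dl X v)) P
        rw [e3, hTSP, pow_zero] at e2
        rw [Finset.sum_congr rfl fun i hi => show (TS ^ (P - i)) (Dl X v) =
          (TS ^ (P - 1 - i + 1)) (Dl X v) by
            rw [show P - 1 - i + 1 = P - i by have := Finset.mem_range.mp hi; omega], e1]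
        exact (add_right_cancel e2).symm
      rw [h3] at h2
      rw [h2, add_sub_cancel]
    -- the projection on the fixed vectors
    set Pi : Module.End K S := (r : K)⁻¹ • orbitSum βS r with hPi
    have hPifix : ∀ v, βS (Pi v) = Pi v := fun v => by
      rw [hPi, LinearMap.smul_apply, map_smul, orbitSum_fixed hβSr]
    have hPiid : ∀ v, βS v = v → Pi v = v := fun v hv => by
      rw [hPi, LinearMap.smul_apply, orbitSum_of_fixed hv, smul_smul, inv_mul_cancel₀ hrK, one_smul]
    have hPiT : Commute TS Pi := LinearMap.ext fun v => by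
      show TS (Pi v) = Pi (TS v)
      rw [hPi, LinearMap.smul_apply, LinearMap.smul_apply, map_smul, orbitSum_comm hTSβ]
    have hTPi : ∀ v, TS (Pi v) = Pi v := fun v => hfixS _ (hPifix v)
    have hTr0 : ∀ v, Pi (Tr v) = 0 := fun v => by
      have hfx : ∀ i : ℕ, (TS ^ i) (Pi v) = Pi v := by
        intro i
        induction i with
        | zero => rfl
        | succ i ih => rw [pow_succ', Module.End.mul_apply, ih, hTPi]
      rw [hTr, LinearMap.sum_apply, map_sum, Finset.sum_congr rfl fun i _ => show Pi ((TS ^ i) v) = Pi v by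
        rw [← Module.End.mul_apply, ← (hPiT.pow_left i).eq, Module.End.mul_apply, hfx],
        Finset.sum_const, Finset.card_range, ← Nat.cast_smul_eq_nsmul K, hPK, zero_smul]
    have hrank : ∀ (u : S) (φ₀ : Module.Dual K S), TS u = u →
        Commute ((φ₀.comp Pi).smulRight u) TS := by
      intro u φ₀ hu
      refine LinearMap.ext fun v => ?_
      show φ₀ (Pi (TS v)) • u = TS (φ₀ (Pi v) • u)
      rw [map_smul, hu]
      congr 2
      rw [← Module.End.mul_apply, ← hPiT.eq, Module.End.mul_apply, hTPi]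
    set C1 := Module.End.eigenspace βS 1 with hC1
    have hC1mem : ∀ v, v ∈ C1 ↔ βS v = v := fun v => by
      rw [hC1, Module.End.mem_eigenspace_iff, one_smul]
    by_cases hC0 : C1 = ⊥
    · refine hxne (sub_eq_zero.mp (hext _ fun μ v hμ hv => ?_))
      have h1 := hdiff μ hμ
      rw [hC0, finrank_bot, zero_add] at h1
      rw [LinearMap.sub_apply, Module.End.one_apply,
        hsmall _ (hEinv μ) h1 v (Module.End.mem_eigenspace_iff.mpr hv), sub_self]
    obtain ⟨v₀, hv₀, hv₀0⟩ := Submodule.exists_mem_ne_zero_of_ne_bot hC0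
    rw [hC1mem] at hv₀
    obtain ⟨φ₀, hφ₀, -⟩ := Submodule.exists_dual_map_eq_bot_of_notMem
      (show v₀ ∉ (⊥ : Submodule K S) by simpa using hv₀0) inferInstance
    have hval : ∀ u, TS u = u → ∃ (k : K) (w : S), φ₀ v₀ • u = k • v₀ + Tr w := by
      intro u hu
      obtain ⟨k, H, hH⟩ := hFix _ (hrank u φ₀ hu)
      refine ⟨k, H v₀, ?_⟩
      have := hH v₀ (hfixS _ hv₀)
      rw [LinearMap.smulRight_apply, LinearMap.comp_apply, hPiid _ hv₀] at this
      exact this
    have hd0 : Module.finrank K C1 ≤ 1 := by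
      refine finrank_le_one ⟨v₀, (hC1mem _).mpr hv₀⟩ fun w => ?_
      obtain ⟨k, w', hw⟩ := hval w (hfixS _ ((hC1mem _).mp w.2))
      have h1 := congrArg Pi hw
      rw [map_add, map_smul, map_smul, hTr0, add_zero, hPiid _ hv₀, hPiid _ ((hC1mem _).mp w.2)] at h1
      refine ⟨(φ₀ v₀)⁻¹ * k, Subtype.ext ?_⟩
      show ((φ₀ v₀)⁻¹ * k) • v₀ = (w : S)
      rw [← smul_smul, ← h1, smul_smul, inv_mul_cancel₀ hφ₀, one_smul]
    -- the other eigenspaces are planes
    have hsq : (TS - 1) * (TS - 1) = 0 := hext _ fun μ v hμ hv => by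
      have h1 : Module.finrank K (Module.End.eigenspace βS μ) ≤ 2 :=
        (hdiff μ hμ).trans (by omega)
      set V := Module.End.eigenspace βS μ with hV
      let W := V.map (TS - 1)
      have hWV : W ≤ V := by
        rintro _ ⟨w, hw, rfl⟩
        rw [LinearMap.sub_apply, Module.End.one_apply]
        exact sub_mem (hEinv μ w hw) hw
      have hWT : ∀ w ∈ W, TS w ∈ W := by
        rintro _ ⟨w, hw, rfl⟩
        refine ⟨TS w, hEinv μ w hw, ?_⟩
        rw [LinearMap.sub_apply, LinearMap.sub_apply, map_sub, Module.End.one_apply, Module.End.one_apply]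
      have hvV : v ∈ V := Module.End.mem_eigenspace_iff.mpr hv
      rw [Module.End.mul_apply, LinearMap.sub_apply _ _ ((TS - 1) v), Module.End.one_apply, sub_eq_zero]
      by_cases hV0 : V = ⊥
      · rw [(Submodule.eq_bot_iff _).mp hV0 v hvV, map_zero, map_zero]
      refine hsmall W hWT ?_ _ ⟨v, hvV, rfl⟩
      have hlt : W < V := by
        refine lt_of_le_of_ne hWV fun heq => hV0 ?_
        rw [Submodule.eq_bot_iff]
        intro w hw
        have hk : ∀ k : ℕ, ∀ w ∈ V, ∃ w' ∈ V, ((TS - 1) ^ k) w' = w := by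
          intro k
          induction k with
          | zero => exact fun w hw => ⟨w, hw, rfl⟩
          | succ k ih =>
            intro w hw
            obtain ⟨w1, hw1, rfl⟩ := heq.ge hw
            obtain ⟨w2, hw2, rfl⟩ := ih w1 hw1
            exact ⟨w2, hw2, by rw [pow_succ']; rfl⟩
        obtain ⟨w', -, hw'⟩ := hk P w hw
        rw [← hw', hTpow]; rfl
      have := Submodule.finrank_lt_finrank_of_lt hlt
      omega
    have hTr2 : Tr = 0 := by
      have hi : ∀ i : ℕ, TS ^ i = 1 + i • (TS - 1) := by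
        intro i
        induction i with
        | zero => simp
        | succ i ih =>
          have e1 : (TS - 1) * TS = TS - 1 := by
            have := hsq
            rw [mul_sub, mul_one, sub_eq_zero] at this
            exact this
          rw [pow_succ, ih, add_mul, one_mul, smul_mul_assoc, e1, succ_nsmul]
          abel
      rw [hTr, Finset.sum_congr rfl fun i _ => hi i, Finset.sum_add_distrib, Finset.sum_const,
        Finset.card_range, ← Finset.sum_smul, Finset.sum_range_id, ← Nat.cast_smul_eq_nsmul K, hPK,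
        zero_smul, zero_add, ← Nat.cast_smul_eq_nsmul K]
      have hdiv : ℓ ∣ P * (P - 1) / 2 := by
        rcases hℓ.eq_two_or_odd' with h2 | hodd
        · subst h2
          obtain ⟨n', rfl⟩ : ∃ n', n = n' + 2 := ⟨n - 2, by
            rcases n with _ | _ | n
            · simp [hPℓ] at hP3
            · simp [hPℓ] at hP3
            · omega⟩
          rw [hPℓ, show 2 ^ (n' + 2) = 2 * (2 * 2 ^ n') by ring, mul_assoc, Nat.mul_div_cancel_left _ two_pos,
            mul_assoc]
          exact dvd_mul_right _ _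
        · have hl : ℓ ∣ P := by
            rw [hPℓ]
            refine dvd_pow_self _ fun h0 => ?_
            rw [hPℓ, h0] at hP3
            simp at hP3
          have hev : 2 ∣ P - 1 := by
            obtain ⟨m, hm⟩ : Odd P := hPℓ ▸ hodd.pow
            omega
          rw [Nat.mul_div_assoc P hev]
          exact dvd_mul_of_dvd_left hl _
      rw [(CharP.cast_eq_zero_iff K ℓ _).mpr hdiv, zero_smul]
    refine hxne (sub_eq_zero.mp (hext _ fun μ v hμ hv => ?_))
    rw [LinearMap.sub_apply, Module.End.one_apply, sub_eq_zero]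
    by_cases hμ1 : μ = 1
    · exact hfixS v (by rw [hv, hμ1, one_smul])
    have hbot := hunip (Module.End.eigenspace βS μ) (hEinv μ) fun w hw hTw => by
      obtain ⟨k, w', hw'⟩ := hval w hTw
      rw [hTr2, LinearMap.zero_apply, add_zero] at hw'
      have hwC : βS w = w := by
        have : w = ((φ₀ v₀)⁻¹ * k) • v₀ := by
          rw [← smul_smul, ← hw', smul_smul, inv_mul_cancel₀ hφ₀, one_smul]
        rw [this, map_smul, hv₀]
      rw [Module.End.mem_eigenspace_iff, hwC] at hw
      by_contra hw0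
      exact hμ1 (smul_left_injective K hw0 (show μ • w = (1 : K) • w by rw [one_smul]; exact hw.symm))
    rw [(Submodule.eq_bot_iff _).mp hbot v (Module.End.mem_eigenspace_iff.mpr hv), map_zero]
  · -- the coprime case
    have hmK : ((r * P : ℕ) : K) ≠ 0 := by rw [Nat.cast_mul]; exact mul_ne_zero hrK hPK
    haveI : NeZero (P : K) := ⟨hPK⟩
    obtain ⟨ζ, hζ⟩ : ∃ ζ : K, IsPrimitiveRoot ζ P := HasEnoughRootsOfUnity.exists_primitiveRoot K P
    have hζ0 : ζ ≠ 0 := hζ.ne_zero hP.ne'
    have hnofix : ∀ μ : K, μ ^ P = 1 → μ ≠ 1 → ∀ v, β' v = μ • v → v = 0 := by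
      intro μ hμ hμ1 v hv
      have hpow : ∀ i : ℕ, (β' ^ i) v = μ ^ i • v := by
        intro i
        induction i with
        | zero => simp
        | succ i ih => rw [pow_succ', Module.End.mul_apply, ih, map_smul, hv, smul_smul, pow_succ]
      have h1 := hpow j
      obtain ⟨i, hi⟩ := hj0
      rw [hβ'j, hi, pow_mul, hμ, one_pow, one_smul] at h1
      have h2 : β' v = v := by rw [hβ'def, Module.End.mul_apply, hfix v h1, h1]
      rw [h2] at hv
      by_contra hv0
      exact hμ1 (smul_left_injective K hv0 (show μ • v = (1 : K) • v by rw [one_smul]; exact hv.symm))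
    have hζ2 : ζ ^ 2 ≠ 1 := hζ.pow_ne_one_of_pos_of_lt two_ne_zero (by omega)
    have hζ1 : ζ ≠ 1 := hζ.ne_one (by omega)
    obtain ⟨l, hl⟩ := Module.End.exists_eigenvalue (h.avg (ζ⁻¹ • β'))
    obtain ⟨-, hpres⟩ := exists_irreducible_count h hE (by
        obtain ⟨a, ha⟩ := hE1
        haveI : Nontrivial E := nontrivial_of_ne a 1 ha
        exact Finite.one_lt_card)
      hm1 hmK hφ'm hfree' (ζ⁻¹ • β') (fun a => t a * s (x a))
      (fun a => by rw [smul_mul_assoc, hβ'e, mul_smul_comm, smul_comm])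
      (by rw [smul_pow, hβ'm, inv_pow, mul_comm r, pow_mul, hζ.pow_eq_one, one_pow, inv_one, one_smul])
      (fun v hv => hnofix ζ hζ.pow_eq_one hζ1 v (by
        have := congrArg (fun w => ζ • w) hv
        simpa [smul_smul, mul_inv_cancel₀ hζ0] using this)) hl
    obtain ⟨v, hv0, -, hv⟩ := hpres ζ (by rw [mul_comm r, pow_mul, hζ.pow_eq_one, one_pow]) hζ1
    refine hv0 (hnofix (ζ ^ 2) (by rw [← pow_mul, mul_comm, pow_mul, hζ.pow_eq_one, one_pow]) hζ2 v ?_)
    have := congrArg (fun w => ζ • w) hv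
    simpa [smul_smul, mul_inv_cancel₀ hζ0, sq] using this

end CfsgLib.PGroups.Turull
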