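import Mathlib
import Cfsg.Agent.Lib.PGroups.Turull.Junction
import Cfsg.Agent.Lib.PGroups.ShultGross.Critical
import Cfsg.Agent.Lib.PGroups.ShultGross.Counting

/-!
# The exceptional labels

An elementary abelian 2-group `E` with a nondegenerate alternating pairing, an isometry `φ` of prime
order `r` whose moved part has order `(r - 1) ^ 2`, and a `p`-group of isometries normalised by `φ`
(`p ≠ 2, r`):

* `moved_eigen_le`: the operator on the extended space has few moved eigenvectors
* `centralizes_of_exceptional`: the `p`-group centralises the moved part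
-/

set_option autoImplicit false
set_option linter.all false
set_option maxHeartbeats 1000000

namespace CfsgLib.PGroups.Turull

open CfsgLib.PGroups.ShultGross CfsgLib.PGroups.Alperin
open scoped TensorProduct commutatorElement

/-- An isometry group of a form centralises `φ` as soon as the moved part of `φ` is small. -/
theorem commute_of_small_moved {r p n : ℕ} [hr : Fact r.Prime] [hp : Fact p.Prime] (hp2 : p ≠ 2)
    (hpr : p ≠ r) (hr2 : r ≠ 2) (hrn : r = 2 ^ n + 1) (hn : 1 ≤ n)
    {M : Type*} [AddCommGroup M] [Finite M] [Module (ZMod 2) M]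
    (B : LinearMap.BilinForm (ZMod 2) M) (hB : B.Nondegenerate) (hBs : ∀ a b, B a b = B b a)
    (f : Module.End (ZMod 2) M) (hf : f ^ r = 1) (hfB : ∀ a b, B (f a) (f b) = B a b)
    (hsmall : Module.finrank (ZMod 2) (LinearMap.range (f - 1)) ≤ 2 * n)
    {Q : Type*} [Group Q] [Finite Q] (hQ : IsPGroup p Q) (θ : MulAut Q) (hθ : θ ^ r = 1)
    (η : Q →* Module.End (ZMod 2) M) (hη : Function.Injective η)
    (hηf : ∀ o, f * η o = η (θ o) * f) (hηB : ∀ o a b, B (η o a) (η o b) = B a b) :
    θ = 1 := by
  classical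
  by_contra hne
  haveI : Fact (Nat.Prime 2) := ⟨Nat.prime_two⟩
  -- a minimal moved subgroup
  obtain ⟨O, hO⟩ := exists_minimal_of_wellFoundedLT
    (fun O : Subgroup Q => (∀ a, a ∈ O ↔ θ a ∈ O) ∧ ∃ z ∈ O, θ z ≠ z)
    ⟨⊤, fun a => by simp, by
      by_contra h
      push Not at h
      exact hne (MulEquiv.ext fun a => h a (Subgroup.mem_top a))⟩
  obtain ⟨hOθ, z₀, hz₀, hz₀ne⟩ := hO.prop
  set φ := Alperin.restrict θ O hOθ with hφdef
  have hφr : φ ^ r = 1 := MulEquiv.ext fun a => Subtype.ext (by rw [hφdef, restrict_pow, hθ]; rfl)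
  have hmin : Minimal' r p 1 φ :=
    { isPGroup := hQ.to_subgroup O
      pow := by rw [pow_one]; exact hφr
      one_le := le_rfl
      ne := fun h1 => hz₀ne (by
        have := congrArg Subtype.val (MulEquiv.congr_fun h1 ⟨z₀, hz₀⟩)
        exact this)
      min := fun R hR hRne a ha => by
        simp only [Nat.sub_self, pow_zero, pow_one]
        by_contra hane
        have hle : R.map O.subtype ≤ O := Subgroup.map_subtype_le R
        refine hRne (Subgroup.map_injective O.subtype_injective ?_)
        rw [← MonoidHom.range_eq_map, Subgroup.range_subtype]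
        refine hO.eq_of_le ⟨fun b => ?_, (a : Q), Subgroup.mem_map_of_mem _ ha,
          fun hh => hane (Subtype.ext hh)⟩ hle
        constructor
        · rintro ⟨c, hc, rfl⟩
          exact ⟨φ c, (hR c).mp hc, rfl⟩
        · rintro ⟨c, hc, hcb⟩
          refine ⟨φ.symm c, (hR _).mpr (by rwa [MulEquiv.apply_symm_apply]), θ.injective ?_⟩
          rw [← hcb]
          exact congrArg Subtype.val (φ.apply_symm_apply c) }
  -- extension of the scalars
  let K := AlgebraicClosure (ZMod 2)
  let U := K ⊗[ZMod 2] M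
  haveI : Module.Finite (ZMod 2) M := Module.Finite.of_finite
  let BC : Module.End (ZMod 2) M →* Module.End K U :=
    { toFun := fun a => a.baseChange K
      map_one' := LinearMap.baseChange_id
      map_mul' := fun a b => LinearMap.baseChange_comp _ _ }
  have hinj : Function.Injective BC := by
    intro a b hab
    refine LinearMap.ext fun v => ?_
    have h1 : (1 : K) ⊗ₜ[ZMod 2] a v = (1 : K) ⊗ₜ[ZMod 2] b v := LinearMap.congr_fun hab ((1 : K) ⊗ₜ v)
    have h2 := Module.Flat.rTensor_preserves_injective_linearMap (M := M)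
      (Algebra.linearMap (ZMod 2) K) (algebraMap (ZMod 2) K).injective
    have h3 : ((Algebra.linearMap (ZMod 2) K).rTensor M) ((1 : ZMod 2) ⊗ₜ a v) =
        ((Algebra.linearMap (ZMod 2) K).rTensor M) ((1 : ZMod 2) ⊗ₜ b v) := by simpa using h1
    simpa using congrArg (fun z => TensorProduct.lid (ZMod 2) M z) (h2 h3)
  set S := BC f with hSdef
  let ρ : O →* Module.End K U := (BC.comp η).comp O.subtype
  have hρ : Function.Injective ρ := hinj.comp (hη.comp Subtype.val_injective)
  have hSρ : ∀ o, S * ρ o = ρ (φ o) * S := fun o => by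
    show BC f * BC (η o) = BC (η (θ o)) * BC f
    rw [← map_mul, ← map_mul, hηf]
  have hSr : S ^ r = 1 := by rw [hSdef, ← map_pow, hf, map_one]
  let BU : LinearMap.BilinForm K U := B.baseChange K
  have hBt : ∀ (a a' : K) (m m' : M), BU (a ⊗ₜ m) (a' ⊗ₜ m') = B m m' • (a * a') := fun a a' m m' =>
    LinearMap.BilinForm.baseChange_tmul (A := K) B a m a' m'
  have hBU : ∀ g : Module.End (ZMod 2) M, (∀ a b, B (g a) (g b) = B a b) →
      ∀ u v, BU (BC g u) (BC g v) = BU u v := by
    intro g hg u v
    induction u using TensorProduct.induction_on with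
    | zero => simp
    | add x y hx hy => simp [hx, hy]
    | tmul a m =>
      induction v using TensorProduct.induction_on with
      | zero => simp
      | add x y hx hy => simp [map_add, hx, hy]
      | tmul a' m' =>
        show BU (a ⊗ₜ g m) (a' ⊗ₜ g m') = BU (a ⊗ₜ m) (a' ⊗ₜ m')
        rw [hBt, hBt, hg]
  have hBUs : ∀ u v, BU u v = BU v u := by
    intro u v
    induction u using TensorProduct.induction_on with
    | zero => simp
    | add x y hx hy => simp [hx, hy]
    | tmul a m =>
      induction v using TensorProduct.induction_on with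
      | zero => simp
      | add x y hx hy => simp [hx, hy]
      | tmul a' m' => rw [hBt, hBt, hBs m m', mul_comm a a']
  have hnd : ∀ u, u ≠ 0 → ∃ v, BU u v ≠ 0 := by
    intro u hu
    by_contra h
    push Not at h
    refine hu ?_
    let b := Module.finBasis (ZMod 2) M
    let bK := b.baseChange K
    refine bK.forall_coord_eq_zero_iff.mp fun i => ?_
    obtain ⟨m, hm⟩ := (B.toDual hB).surjective (b.coord i)
    have key : bK.coord i = BU ((1 : K) ⊗ₜ m) := by
      refine bK.ext fun j => ?_
      rw [Module.Basis.coord_apply, Module.Basis.repr_self]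
      have hmj : B m (b j) = b.coord i (b j) := by
        rw [← hm]; rfl
      simp only [bK, Module.Basis.baseChange_apply]
      rw [hBt, mul_one, hmj, Module.Basis.coord_apply, Module.Basis.repr_self]
      by_cases hji : j = i
      · subst hji; simp
      · simp [Finsupp.single_eq_of_ne (Ne.symm hji)]
    rw [key, hBUs]
    exact h _
  -- roots of unity
  have hrK : (r : K) ≠ 0 := fun h => hr2
    ((Nat.prime_dvd_prime_iff_eq Nat.prime_two hr.out).mp ((CharP.cast_eq_zero_iff K 2 r).mp h)).symm
  haveI : NeZero (r : K) := ⟨hrK⟩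
  obtain ⟨ω, hω⟩ : ∃ ω : K, IsPrimitiveRoot ω r := HasEnoughRootsOfUnity.exists_primitiveRoot K r
  -- two independent eigenvectors for each root are too many
  let g : Module.End (ZMod 2) M := f - 1
  let ι : (K ⊗[ZMod 2] LinearMap.range g) →ₗ[K] U := (LinearMap.range g).subtype.baseChange K
  have hrange : ∀ u, S u - u ∈ LinearMap.range ι := by
    intro u
    induction u using TensorProduct.induction_on with
    | zero => simp
    | add x y hx hy =>
      rw [map_add, add_sub_add_comm]
      exact add_mem hx hy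
    | tmul a m =>
      refine ⟨a ⊗ₜ ⟨g m, LinearMap.mem_range_self g m⟩, ?_⟩
      show a ⊗ₜ[ZMod 2] (f m - m) = a ⊗ₜ f m - a ⊗ₜ m
      rw [TensorProduct.tmul_sub]
  have hcount : ∀ v w : ℕ → U, (∀ i, i < r - 1 → S (v i) = ω ^ (i + 1) • v i) →
      (∀ i, i < r - 1 → S (w i) = ω ^ (i + 1) • w i) →
      (∀ i, i < r - 1 → ∀ a b : K, a • v i + b • w i = 0 → a = 0 ∧ b = 0) → False := by
    intro v w hv hw hvw
    let F : Fin (r - 1) ⊕ Fin (r - 1) → U := Sum.elim (fun i => v i) (fun i => w i)
    have hμ : ∀ i : Fin (r - 1), ω ^ ((i : ℕ) + 1) ≠ 1 := fun i =>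
      hω.pow_ne_one_of_pos_of_lt (Nat.succ_ne_zero _) (by have := i.2; omega)
    have hFr : ∀ i, F i ∈ LinearMap.range ι := by
      intro i
      obtain ⟨j, hj⟩ : ∃ j : Fin (r - 1), S (F i) = ω ^ ((j : ℕ) + 1) • F i := by
        rcases i with i | i
        · exact ⟨i, hv i i.2⟩
        · exact ⟨i, hw i i.2⟩
      have h1 := Submodule.smul_mem _ (ω ^ ((j : ℕ) + 1) - 1)⁻¹ (hrange (F i))
      rwa [hj, show ω ^ ((j : ℕ) + 1) • F i - F i = (ω ^ ((j : ℕ) + 1) - 1) • F i from
        ((sub_smul (ω ^ ((j : ℕ) + 1)) (1 : K) (F i)).trans (congrArg _ (one_smul K (F i)))).symm,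
        smul_smul, inv_mul_cancel₀ (sub_ne_zero.mpr (hμ j)), one_smul] at h1
    have hind : LinearIndependent K F := by
      rw [Fintype.linearIndependent_iff]
      intro c hc
      rw [Fintype.sum_sum_type, ← Finset.sum_add_distrib] at hc
      have h1 := weights_independent (fun _ : Unit => S)
        (fun (i : Fin (r - 1)) (_ : Unit) => ω ^ ((i : ℕ) + 1))
        (fun i => c (Sum.inl i) • F (Sum.inl i) + c (Sum.inr i) • F (Sum.inr i)) Finset.univ
        (by
          intro i _ j _ h
          have h' : ω ^ ((i : ℕ) + 1) = ω ^ ((j : ℕ) + 1) := congrFun h ()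
          refine Fin.ext ?_
          have := hω.pow_inj (by have := i.2; omega) (by have := j.2; omega) h'
          omega)
        (fun i _ _ => by
          show S _ = _
          rw [map_add, map_smul, map_smul, smul_add, smul_comm (ω ^ _) (c _), smul_comm (ω ^ _) (c _)]
          simp only [F, Sum.elim_inl, Sum.elim_inr, hv i i.2, hw i i.2]) hc
      intro i
      rcases i with i | i
      · exact (hvw i i.2 _ _ (h1 i (Finset.mem_univ _))).1
      · exact (hvw i i.2 _ _ (h1 i (Finset.mem_univ _))).2
    have hind' : LinearIndependent K fun i => (⟨F i, hFr i⟩ : LinearMap.range ι) :=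
      LinearIndependent.of_comp (LinearMap.range ι).subtype hind
    have h1 := hind'.fintype_card_le_finrank
    have h2 := LinearMap.finrank_range_le ι
    rw [Module.finrank_baseChange] at h2
    rw [Fintype.card_sum, Fintype.card_fin] at h1
    have h2' : Module.finrank K (LinearMap.range ι) ≤ Module.finrank (ZMod 2) (LinearMap.range (f - 1)) := h2
    have h3 := Nat.lt_two_pow_self (n := n)
    generalize hq : 2 ^ n = q at h3 hrn
    have h4 : Module.finrank (ZMod 2) (LinearMap.range g) ≤ 2 * n := hsmall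
    omega
  -- the weights of an abelian subgroup
  have hOodd : Odd (Nat.card O) := by
    obtain ⟨k, hk⟩ := IsPGroup.iff_card.mp hmin.isPGroup
    rw [hk]
    exact (hp.out.odd_of_ne_two hp2).pow
  have hK2 : ∀ m : ℕ, Odd m → (m : K) ≠ 0 := fun (m : ℕ) hm h =>
    Nat.not_even_iff_odd.mpr hm (even_iff_two_dvd.mpr ((CharP.cast_eq_zero_iff K 2 m).mp h))
  have hAodd : ∀ A : Subgroup O, Odd (Nat.card A) := fun A =>
    hOodd.of_dvd_nat A.card_subgroup_dvd_card
  have hweights : ∀ (A : Subgroup O) (hA : ∀ a ∈ A, ∀ b ∈ A, a * b = b * a),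
      Submodule.span K {u : U | ∃ θ' : A →* Kˣ, ∀ a : A, ρ a u = (θ' a : K) • u} = ⊤ := by
    intro A hA
    letI : CommGroup A :=
      { (inferInstance : Group A) with mul_comm := fun a b => Subtype.ext (hA a a.2 b b.2) }
    exact span_weights_eq_top (hK2 _ (hAodd A)) (ρ.comp A.subtype)
  have hdual : ∀ (A : Subgroup O) (hA : ∀ a ∈ A, ∀ b ∈ A, a * b = b * a) (γ : A →* Kˣ) (u : U),
      u ≠ 0 → (∀ a : A, ρ a u = (γ a : K) • u) →
      ∃ v, v ≠ 0 ∧ ∀ a : A, ρ a v = ((γ a)⁻¹ : Kˣ).val • v := by
    intro A hA γ u hu hγ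
    obtain ⟨v₀, hv₀⟩ := hnd u hu
    obtain ⟨v, ⟨γ', hγ'⟩, hv⟩ : ∃ v ∈ {v : U | ∃ θ' : A →* Kˣ, ∀ a : A, ρ a v = (θ' a : K) • v},
        BU u v ≠ 0 := by
      by_contra h
      push Not at h
      refine hv₀ ?_
      have h0 : BU u = 0 := LinearMap.ext_on (hweights A hA) fun v hv => h v hv
      rw [h0]; rfl
    refine ⟨v, fun h0 => hv (by rw [h0, map_zero]), fun a => ?_⟩
    rw [hγ' a]
    congr 2
    refine eq_inv_of_mul_eq_one_left (Units.ext ?_)
    have h1 : BU (ρ a u) (ρ a v) = BU u v := hBU (η ((a : O) : Q)) (hηB _) u v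
    rw [hγ, hγ', map_smul, map_smul, LinearMap.smul_apply, smul_eq_mul, smul_eq_mul] at h1
    rw [Units.val_mul, Units.val_one]
    refine mul_right_cancel₀ hv ?_
    rw [one_mul]
    linear_combination h1
  have hsq : ∀ (A : Subgroup O) (γ : A →* Kˣ) (a : A), γ a * γ a = 1 → γ a = 1 := fun A γ a h => by
    have h2 : γ a ^ Nat.card A = 1 := by rw [← map_pow, pow_card_eq_one', map_one]
    obtain ⟨m, hm⟩ := hAodd A
    rwa [hm, pow_succ, pow_mul, sq, h, one_pow, one_mul] at h2
  by_cases hna : ∀ a b : O, a * b = b * a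
  · -- abelian: two orbits of weights
    letI : CommGroup O := { (inferInstance : Group O) with mul_comm := hna }
    obtain ⟨γ, u, hu, hγu, hγ⟩ : ∃ (γ : O →* Kˣ) (u : U), u ≠ 0 ∧ IsWeight ρ γ u ∧
        γ.comp φ.toMonoidHom ≠ γ := by
      by_contra h
      push Not at h
      refine hmin.ne (MulEquiv.ext fun o => hρ ?_)
      simp only [Nat.sub_self, pow_zero, pow_one, MulAut.one_apply]
      refine LinearMap.ext_on (span_weights_eq_top (hK2 _ hOodd) ρ) fun v hv => ?_
      obtain ⟨γ, hv⟩ := hv
      by_cases hv0 : v = 0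
      · simp [hv0]
      rw [hv, hv, show γ (φ o) = γ o from DFunLike.congr_fun (h γ v hv0 hv) o]
    obtain ⟨v, hv, hγv'⟩ := hdual ⊤ (fun a _ b _ => hna a b) (γ.comp (⊤ : Subgroup O).subtype) u hu
      (fun a => hγu a)
    have hγv : IsWeight ρ γ⁻¹ v := fun a => by simpa using hγv' ⟨a, Subgroup.mem_top a⟩
    have hγi : (γ⁻¹).comp φ.toMonoidHom ≠ γ⁻¹ := fun h => hγ (MonoidHom.ext fun a => inv_injective (by
      simpa using DFunLike.congr_fun h a))
    have hdis : ∀ i j, i < r → j < r → γ.comp ((φ ^ i)⁻¹ : MulAut O).toMonoidHom ≠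
        (γ⁻¹).comp ((φ ^ j)⁻¹ : MulAut O).toMonoidHom := by
      intro i j hi hj h
      set k := (i + r - j) % r with hk
      have h1 : ∀ a, γ a = (γ ((φ ^ k) a))⁻¹ := by
        intro a
        have h2 := DFunLike.congr_fun h ((φ ^ i) a)
        simp only [MonoidHom.comp_apply, MulEquiv.coe_toMonoidHom, MulAut.inv_apply_self,
          MonoidHom.inv_apply] at h2
        rw [h2]
        congr 2
        refine (φ ^ j).injective ?_
        rw [MulAut.apply_inv_self, hk, ← pow_eq_pow_mod _ hφr]
        show (φ ^ i) a = ((φ ^ j) * (φ ^ (i + r - j))) a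
        rw [← pow_add, show j + (i + r - j) = i + r by omega, pow_add, hφr, mul_one]
      have h2 : γ.comp (φ ^ (2 * k)).toMonoidHom = γ := MonoidHom.ext fun a => by
        show γ ((φ ^ (2 * k)) a) = γ a
        rw [two_mul, pow_add, MulAut.mul_apply, h1 a, h1 ((φ ^ k) a), inv_inv]
      by_cases hk0 : k = 0
      · refine hγ (MonoidHom.ext fun a => ?_)
        have h3 : ∀ b, γ b = 1 := fun b => by
          have h4 := h1 b
          rw [hk0, pow_zero, MulAut.one_apply] at h4
          have h5 := hsq ⊤ (γ.comp (⊤ : Subgroup O).subtype) ⟨b, Subgroup.mem_top b⟩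
          exact h5 (eq_inv_iff_mul_eq_one.mp h4)
        rw [MonoidHom.comp_apply, h3, h3]
      · refine hγ (MonoidHom.ext fun a => ?_)
        have hkr : ¬ r ∣ 2 * k := fun hd => by
          rcases hr.out.dvd_mul.mp hd with h' | h'
          · exact hr2 ((Nat.prime_dvd_prime_iff_eq hr.out Nat.prime_two).mp h')
          · exact hk0 (Nat.eq_zero_of_dvd_of_lt h' (Nat.mod_lt _ hr.out.pos))
        obtain ⟨j', -, hj'⟩ := Nat.exists_mul_mod_eq_one_of_coprime
          (show (2 * k).Coprime r from (hr.out.coprime_iff_not_dvd.mpr hkr).symm) hr.out.one_lt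
        have hm : ∀ (m : ℕ) (b : O), γ (((φ ^ (2 * k)) ^ m) b) = γ b := by
          intro m
          induction m with
          | zero => intro b; rfl
          | succ m ih =>
            intro b
            rw [pow_succ', MulAut.mul_apply]
            exact (DFunLike.congr_fun h2 _).trans (ih b)
        have := hm j' a
        rw [← pow_mul, pow_eq_pow_mod _ hφr, hj', pow_one] at this
        exact this
    refine hcount (fun i => orbitSum ((ω ^ (i + 1))⁻¹ • S) r u) (fun i => orbitSum ((ω ^ (i + 1))⁻¹ • S) r v)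
      ?_ ?_ ?_
    all_goals intro i hi
    rotate_left 2
    · intro a b hab
      let G : ℕ ⊕ ℕ → O → K := Sum.elim (fun t o => ((γ.comp ((φ ^ t)⁻¹ : MulAut O).toMonoidHom) o : K))
        (fun t o => (((γ⁻¹).comp ((φ ^ t)⁻¹ : MulAut O).toMonoidHom) o : K))
      let vs : ℕ ⊕ ℕ → U := Sum.elim (fun t => a • (((ω ^ (i + 1))⁻¹ • S) ^ t) u)
        (fun t => b • (((ω ^ (i + 1))⁻¹ • S) ^ t) v)
      have hws : ∀ t o, ρ o (vs t) = G t o • vs t := by
        rintro (t | t) o
        · simp only [vs, G, Sum.elim_inl, smul_pow, LinearMap.smul_apply, map_smul,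
            hγu.pow hSρ t o, smul_smul]
          congr 1; ring
        · simp only [vs, G, Sum.elim_inr, smul_pow, LinearMap.smul_apply, map_smul,
            hγv.pow hSρ t o, smul_smul]
          congr 1; ring
      have hsum : ∑ t ∈ (Finset.range r).disjSum (Finset.range r), vs t = 0 := by
        rw [Finset.sum_disjSum, ← hab, orbitSum_apply, orbitSum_apply, Finset.smul_sum, Finset.smul_sum]
        rfl
      have hinj : Set.InjOn G (((Finset.range r).disjSum (Finset.range r) : Finset (ℕ ⊕ ℕ)) : Set (ℕ ⊕ ℕ)) := by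
        intro s hs t ht he
        have hG : ∀ {x y : O →* Kˣ}, (fun o => (x o : K)) = (fun o => (y o : K)) → x = y :=
          fun he => MonoidHom.ext fun o => Units.ext (congrFun he o)
        rcases s with s | s <;> rcases t with t | t <;>
          simp only [Finset.mem_coe, Finset.inl_mem_disjSum, Finset.inr_mem_disjSum,
            Finset.mem_range] at hs ht
        · exact congrArg Sum.inl (orbit_injOn hφr hγ hs ht (hG he))
        · exact absurd (hG he) (hdis s t hs ht)
        · exact absurd (hG he).symm (hdis t s ht hs)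
        · exact congrArg Sum.inr (orbit_injOn hφr hγi hs ht (hG he))
      have h1 := weights_independent (fun o => ρ o) G vs _ hinj (fun t _ o => hws t o) hsum
      constructor
      · have := h1 (Sum.inl 0) (by simp [hr.out.pos])
        simpa [vs, hu] using this
      · have := h1 (Sum.inr 0) (by simp [hr.out.pos])
        simpa [vs, hv] using this
    all_goals
      have hpow : ((ω ^ (i + 1))⁻¹ • S) ^ r = 1 := by
        rw [smul_pow, hSr, inv_pow, ← pow_mul, mul_comm, pow_mul, hω.pow_eq_one, one_pow, inv_one,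
          one_smul]
    · have h1 := orbitSum_fixed hpow u
      rw [LinearMap.smul_apply, inv_smul_eq_iff₀ (pow_ne_zero _ (hω.ne_zero hr.out.ne_zero))] at h1
      exact h1
    · have h1 := orbitSum_fixed hpow v
      rw [LinearMap.smul_apply, inv_smul_eq_iff₀ (pow_ne_zero _ (hω.ne_zero hr.out.ne_zero))] at h1
      exact h1
  · -- nonabelian: two central characters
    set Z := Subgroup.center O with hZ
    have hZF : Z = frattini O := hmin.center_eq_frattini (Ne.symm hpr) hna
    have hZfix : ∀ z ∈ Z, φ z = z := fun z hz => by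
      simpa using hmin.fixed_frattini (hZF ▸ hz)
    have hZc : ∀ a ∈ Z, ∀ b ∈ Z, a * b = b * a := fun a _ b hb => Subgroup.mem_center_iff.mp hb a
    have hcomZ : ∀ a b : O, ⁅a, b⁆ ∈ Z := fun a b => by
      rw [hZF]
      haveI := hmin.isPGroup.isNilpotent
      exact commutator_le_frattini' hmin.isPGroup
        (Subgroup.commutator_mem_commutator (Subgroup.mem_top a) (Subgroup.mem_top b))
    obtain ⟨a₀, b₀, hab⟩ : ∃ a b : O, ⁅a, b⁆ ≠ 1 := by
      by_contra h
      push Not at h
      exact hna fun a b => commutatorElement_eq_one_iff_mul_comm.mp (h a b)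
    obtain ⟨γ, u, hu, hγu, hz1⟩ : ∃ (γ : Z →* Kˣ) (u : U), u ≠ 0 ∧
        (∀ z : Z, ρ z u = (γ z : K) • u) ∧ γ ⟨_, hcomZ a₀ b₀⟩ ≠ 1 := by
      by_contra h
      push Not at h
      refine hab (hρ ?_)
      rw [map_one]
      refine LinearMap.ext_on (hweights Z hZc) fun v hv => ?_
      obtain ⟨γ, hv⟩ := hv
      by_cases hv0 : v = 0
      · simp [hv0]
      rw [hv ⟨_, hcomZ a₀ b₀⟩, h γ v hv0 hv, Units.val_one, one_smul, Module.End.one_apply]
    obtain ⟨v, hv, hγv⟩ := hdual Z hZc γ u hu hγu
    have key : ∀ (γ : Z →* Kˣ) (u : U), u ≠ 0 → (∀ z : Z, ρ z u = (γ z : K) • u) →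
        γ ⟨_, hcomZ a₀ b₀⟩ ≠ 1 → ∀ μ : K, μ ^ r = 1 →
        ∃ w, w ≠ 0 ∧ S w = μ • w ∧ ∀ z : Z, ρ z w = (γ z : K) • w := by
      intro γ u hu hγu hz1 μ hμ
      let W : Submodule K U :=
        { carrier := {w | ∀ z : Z, ρ z w = (γ z : K) • w}
          add_mem' := fun {a b} ha hb z => by rw [map_add, ha z, hb z, smul_add]
          zero_mem' := fun z => by rw [map_zero, smul_zero]
          smul_mem' := fun t {a} ha z => by rw [map_smul, ha z, smul_comm] }
      haveI : Nontrivial W := nontrivial_of_ne (⟨u, hγu⟩ : W) 0 fun h => hu (congrArg Subtype.val h)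
      have hWρ : ∀ o, ∀ w ∈ W, ρ o w ∈ W := fun o w hw z => by
        rw [← Module.End.mul_apply, ← map_mul, ← Subgroup.mem_center_iff.mp z.2 o, map_mul,
          Module.End.mul_apply, hw z, map_smul]
      have hWS : ∀ w ∈ W, S w ∈ W := fun w hw z => by
        have h1 := LinearMap.congr_fun (hSρ z) w
        rw [Module.End.mul_apply, Module.End.mul_apply, hZfix z z.2, hw z, map_smul] at h1
        exact h1.symm
      haveI : Z.Normal := by rw [hZ]; infer_instance
      letI : CommGroup (O ⧸ Z) :=
        { (inferInstance : Group (O ⧸ Z)) with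
          mul_comm := fun a b => by
            induction a using QuotientGroup.induction_on with
            | H a =>
            induction b using QuotientGroup.induction_on with
            | H b =>
            show ((a * b : O) : O ⧸ Z) = ((b * a : O) : O ⧸ Z)
            rw [QuotientGroup.eq]
            simpa [commutatorElement_def, mul_assoc] using hcomZ b⁻¹ a⁻¹ }
      let lift : O ⧸ Z → O := fun a => if a = 1 then 1 else a.out
      have hlift : ∀ a, (lift a : O ⧸ Z) = a := fun a => by
        by_cases ha : a = 1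
        · simp [lift, ha]
        · simp only [lift, if_neg ha, QuotientGroup.out_eq']
      have hcz : ∀ a b, (lift (a * b))⁻¹ * (lift a * lift b) ∈ Z := fun a b => by
        rw [← QuotientGroup.eq, QuotientGroup.mk_mul, hlift, hlift, hlift]
      have hmul : ∀ (o : O) (z : Z) (w : W), ρ (o * z) (w : U) = (γ z : K) • ρ o w := fun o z w => by
        rw [map_mul, Module.End.mul_apply, w.2 z, map_smul]
      let e : O ⧸ Z → Module.End K W := fun a => (ρ (lift a)).restrict (hWρ _)
      let c : O ⧸ Z → O ⧸ Z → K := fun a b => (γ ⟨_, hcz a b⟩ : K)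
      -- the radical
      let R : Subgroup O :=
        { carrier := {y | ∀ b, γ ⟨_, hcomZ y b⟩ = 1}
          one_mem' := fun b => by
            rw [show (⟨⁅(1 : O), b⁆, hcomZ 1 b⟩ : Z) = 1 from Subtype.ext (commutatorElement_one_left b),
              map_one]
          mul_mem' := fun {x y} hx hy b => by
            have e1 : (⟨⁅x * y, b⁆, hcomZ _ b⟩ : Z) = ⟨_, hcomZ y b⟩ * ⟨_, hcomZ x b⟩ := Subtype.ext (by
              show ⁅x * y, b⁆ = ⁅y, b⁆ * ⁅x, b⁆
              rw [show ⁅x * y, b⁆ = x * ⁅y, b⁆ * x⁻¹ * ⁅x, b⁆ by simp [commutatorElement_def, mul_assoc],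
                Subgroup.mem_center_iff.mp (hcomZ y b) x, mul_inv_cancel_right])
            rw [e1, map_mul, hx b, hy b, one_mul]
          inv_mem' := fun {x} hx b => by
            have e1 : (⟨⁅x⁻¹, b⁆, hcomZ _ b⟩ : Z) * ⟨_, hcomZ x b⟩ = 1 := Subtype.ext (by
              show ⁅x⁻¹, b⁆ * ⁅x, b⁆ = 1
              have h2 : ⁅x⁻¹, b⁆ = x⁻¹ * ⁅x, b⁆⁻¹ * x := by simp [commutatorElement_def, mul_assoc]
              rw [h2, Subgroup.mem_center_iff.mp (inv_mem (hcomZ x b)) x⁻¹, inv_mul_cancel_right,
                inv_mul_cancel])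
            have := congrArg γ e1
            rwa [map_mul, hx b, mul_one, map_one] at this }
      have hRφ : ∀ y, y ∈ R ↔ φ y ∈ R := by
        intro y
        have e1 : ∀ b, (⟨⁅φ y, φ b⁆, hcomZ _ _⟩ : Z) = ⟨⁅y, b⁆, hcomZ y b⟩ := fun b => Subtype.ext (by
          show ⁅φ y, φ b⁆ = ⁅y, b⁆
          rw [← map_commutatorElement, hZfix _ (hcomZ y b)])
        refine ⟨fun hy b => ?_, fun hy b => ?_⟩
        · obtain ⟨b, rfl⟩ := φ.surjective b
          rw [e1]; exact hy b
        · rw [← e1]; exact hy (φ b)
      have hRF : R = Z := by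
        rw [hZF]
        refine hmin.eq_frattini (Ne.symm hpr) hRφ ?_ fun htop => hz1 ((htop ▸ Subgroup.mem_top a₀ : a₀ ∈ R) b₀)
        rw [← hZF]
        intro z hz b
        rw [show (⟨⁅z, b⁆, hcomZ z b⟩ : Z) = 1 from Subtype.ext (by
          show ⁅z, b⁆ = 1
          exact commutatorElement_eq_one_iff_mul_comm.mpr (Subgroup.mem_center_iff.mp hz b).symm), map_one]
      have hT : Twisted (K := K) (U := ↥W) e c :=
        { c_ne := fun a b => Units.ne_zero _
          mul := fun a b => LinearMap.ext fun w => Subtype.ext (by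
            show ρ (lift a) (ρ (lift b) w) = c a b • ρ (lift (a * b)) w
            rw [← Module.End.mul_apply, ← map_mul, ← hmul]
            simp [mul_assoc])
          one := LinearMap.ext fun w => Subtype.ext (by simp [e, lift])
          nondeg := fun a ha => by
            have hla : lift a ∉ R := by
              rw [hRF, ← QuotientGroup.eq_one_iff, hlift]; exact ha
            obtain ⟨b, hb⟩ : ∃ b, γ ⟨_, hcomZ (lift a) b⟩ ≠ 1 := by
              by_contra h
              push Not at h
              exact hla h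
            refine ⟨(b : O ⧸ Z), fun heq => hb (Units.ext ?_)⟩
            obtain ⟨w, hw⟩ := exists_ne (0 : W)
            have hz : b⁻¹ * lift (b : O ⧸ Z) ∈ Z := by rw [← QuotientGroup.eq, hlift]
            have h1 : ρ (lift a) (ρ (lift (b : O ⧸ Z)) w) = ρ (lift (b : O ⧸ Z)) (ρ (lift a) w) :=
              congrArg Subtype.val (LinearMap.congr_fun heq w)
            have h2 : lift a * lift (b : O ⧸ Z) = lift (b : O ⧸ Z) * lift a * ⁅lift a, b⁆ := by
              rw [show lift (b : O ⧸ Z) = b * (b⁻¹ * lift (b : O ⧸ Z)) by group]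
              generalize b⁻¹ * lift (b : O ⧸ Z) = z at hz
              calc lift a * (b * z) = (lift a * b) * z := by rw [mul_assoc]
                _ = ⁅lift a, b⁆ * (b * lift a) * z := by
                  rw [show ⁅lift a, b⁆ * (b * lift a) = lift a * b by simp [commutatorElement_def, mul_assoc]]
                _ = b * lift a * ⁅lift a, b⁆ * z := by
                  rw [Subgroup.mem_center_iff.mp (hcomZ (lift a) b) (b * lift a)]
                _ = z * (b * lift a * ⁅lift a, b⁆) := Subgroup.mem_center_iff.mp hz _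
                _ = b * z * lift a * ⁅lift a, b⁆ := by
                  rw [Subgroup.mem_center_iff.mp hz b]; simp only [mul_assoc]
            rw [← Module.End.mul_apply, ← map_mul, ← Module.End.mul_apply, ← map_mul, h2,
              show lift (b : O ⧸ Z) * lift a * ⁅lift a, b⁆ = lift (b : O ⧸ Z) * lift a *
                ((⟨_, hcomZ (lift a) b⟩ : Z) : O) from rfl, hmul] at h1
            have hne : ρ (lift (b : O ⧸ Z) * lift a) (w : U) ≠ 0 := fun h0 => hw (Subtype.ext (by
              have := congrArg (ρ (lift (b : O ⧸ Z) * lift a)⁻¹) h0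
              rwa [← Module.End.mul_apply, ← map_mul, inv_mul_cancel, map_one, map_zero,
                Module.End.one_apply] at this))
            rw [Units.val_one]
            exact smul_left_injective K hne (h1.trans (one_smul K _).symm) }
      have hZiff : ∀ x, x ∈ Z ↔ φ x ∈ Z := fun x => by rw [hZF]; exact mem_iff_of_char φ _ x
      let ψ : MulAut (O ⧸ Z) := onQuot φ Z hZiff
      have hψfix : ∀ a, ψ a = a → a = 1 := fun a ha => by
        obtain ⟨y, rfl⟩ := QuotientGroup.mk_surjective a
        rw [onQuot_mk, eq_comm, QuotientGroup.eq, hZF] at ha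
        exact (QuotientGroup.eq_one_iff y).mpr (hZF ▸ hmin.mem_frattini_of_diff (Ne.symm hpr) (by simpa using ha))
      have hψr : ψ ^ r = 1 := MulEquiv.ext fun a => by
        induction a using QuotientGroup.induction_on with
        | H y => rw [onQuot_pow, hφr]; rfl
      by_contra hno
      push Not at hno
      have hμ0 : μ ≠ 0 := fun h => by simp [h, hr.out.ne_zero] at hμ
      have hsz : ∀ a, (lift (ψ a))⁻¹ * φ (lift a) ∈ Z := fun a => by
        rw [← QuotientGroup.eq, hlift]
        conv_lhs => rw [← hlift a, onQuot_mk]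
      have hcard := card_eq_sub_one_sq hT (φ := ψ) (m := r)
        (hK2 _ (hOodd.of_dvd_nat Z.card_quotient_dvd_card))
        (by
          rw [Finite.one_lt_card_iff_nontrivial, QuotientGroup.nontrivial_iff]
          exact fun htop => hna fun a b => Subgroup.mem_center_iff.mp (show b ∈ Z by rw [htop]; trivial) a)
        (hr.out.odd_of_ne_two hr2) hr.out.one_lt hrK hψr
        (fun i h0 hi a ha => hψfix a (fixed_of_pow_fixed hψr
          (fun hd => absurd (Nat.le_of_dvd h0 hd) (by omega)) ha))
        (μ⁻¹ • S.restrict hWS) (fun a => (γ ⟨_, hsz a⟩ : K))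
        (fun a => LinearMap.ext fun w => Subtype.ext (by
          show μ⁻¹ • S (ρ (lift a) w) = (γ ⟨_, hsz a⟩ : K) • ρ (lift (ψ a)) (μ⁻¹ • S w)
          have h1 := LinearMap.congr_fun (hSρ (lift a)) (w : U)
          rw [Module.End.mul_apply, Module.End.mul_apply] at h1
          rw [h1, map_smul, smul_comm]
          congr 1
          rw [← hmul (lift (ψ a)) ⟨_, hsz a⟩ ⟨S w, hWS _ w.2⟩]
          simp [mul_assoc]))
        (by
          rw [smul_pow, inv_pow, hμ, inv_one, one_smul]
          refine LinearMap.ext fun w => Subtype.ext ?_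
          rw [Module.End.pow_restrict]
          show (S ^ r) (w : U) = _
          rw [hSr]; rfl)
        (fun w hw => by
          by_contra hw0
          refine hno (w : U) (fun h => hw0 (Subtype.ext h)) ?_ |>.elim fun z hz => hz (w.2 z)
          have h1 : μ⁻¹ • S (w : U) = w := congrArg Subtype.val hw
          exact (inv_smul_eq_iff₀ hμ0).mp h1)
      have hodd : Odd ((r - 1) ^ 2) := hcard ▸ hOodd.of_dvd_nat Z.card_quotient_dvd_card
      rw [Nat.odd_pow_iff two_ne_zero] at hodd
      have h1 := hr.out.odd_of_ne_two hr2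
      have h2 := hr.out.two_le
      rw [Nat.odd_iff] at h1 hodd
      omega
    have hz1' : γ⁻¹ ⟨_, hcomZ a₀ b₀⟩ ≠ 1 := fun h => hz1 (inv_eq_one.mp h)
    have hroot : ∀ i : ℕ, (ω ^ (i + 1)) ^ r = 1 := fun i => by
      rw [← pow_mul, mul_comm, pow_mul, hω.pow_eq_one, one_pow]
    choose f₁ hf0 hf1 hf2 using fun i : ℕ => key γ u hu hγu hz1 _ (hroot i)
    choose g₁ hg0 hg1 hg2 using fun i : ℕ => key γ⁻¹ v hv (fun z => hγv z) hz1' _ (hroot i)
    refine hcount f₁ g₁ (fun i _ => hf1 i) (fun i _ => hg1 i) fun i _ a b hab => ?_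
    set z : Z := ⟨_, hcomZ a₀ b₀⟩ with hzdef
    have h1 := congrArg (ρ z) hab
    rw [map_add, map_smul, map_smul, map_zero, hf2, hg2, MonoidHom.inv_apply] at h1
    have hne : (γ z : K) - ((γ z)⁻¹ : Kˣ).val ≠ 0 := fun h0 => hz1 (hsq Z γ z (by
      have := Units.ext (sub_eq_zero.mp h0)
      nth_rewrite 2 [this]
      exact mul_inv_cancel _))
    have h2 : a • ((γ z : K) - ((γ z)⁻¹ : Kˣ).val) • f₁ i = 0 := by
      have h3 := congrArg (fun t => ((γ z)⁻¹ : Kˣ).val • t) hab
      simp only [smul_add, smul_zero] at h3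
      refine (congrArg (a • ·) (sub_smul (γ z : K) ((γ z)⁻¹ : Kˣ).val (f₁ i))).trans ?_
      simp only [smul_sub]
      have h4 := congrArg₂ (· - ·) h1 h3
      rw [sub_zero, smul_comm b, add_sub_add_right_eq_sub, smul_comm (((γ z)⁻¹ : Kˣ).val) a] at h4
      exact h4
    have ha : a = 0 := (smul_eq_zero.mp h2).resolve_right (smul_ne_zero hne (hf0 i))
    refine ⟨ha, ?_⟩
    rw [ha, zero_smul, zero_add] at hab
    exact (smul_eq_zero.mp hab).resolve_right (hg0 i)

end CfsgLib.PGroups.Turull
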