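import Mathlib
import Cfsg.Agent.Lib.PGroups.Turull.Exceptional

/-!
# The exceptional labels, group form

`centralizes_of_exceptional`: isometries of `p`-power order (`p ≠ 2, r`) normalised by `φ` centralise
the moved part of `φ` when that has order `(r - 1) ^ 2`
-/

set_option autoImplicit false
set_option linter.all false
set_option maxHeartbeats 1000000

namespace CfsgLib.PGroups.Turull

open CfsgLib.PGroups.ShultGross CfsgLib.PGroups.Alperin

/-- The moved part is centralised. -/
theorem centralizes_of_exceptional {r p : ℕ} [hr : Fact r.Prime] [hp : Fact p.Prime] (hp2 : p ≠ 2)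
    (hpr : p ≠ r) (hr2 : r ≠ 2) {K : Type*} [Field K] {E : Type*} [CommGroup E] [Finite E]
    (hexp : ∀ a : E, a * a = 1) (κ : E → E → K) (hκl : ∀ a a' b, κ (a * a') b = κ a b * κ a' b)
    (hκs : ∀ a b, κ a b = (κ b a)⁻¹) (hκne : ∀ a b, κ a b ≠ 0)
    (hκnd : ∀ a, a ≠ 1 → ∃ b, κ a b ≠ 1)
    (φ : MulAut E) (hφr : φ ^ r = 1) (hκφ : ∀ a b, κ (φ a) (φ b) = κ a b)
    (hcard : Nat.card (φ.toMonoidHom * (MonoidHom.id E)⁻¹).range = (r - 1) ^ 2)
    (O : Subgroup (MulAut E)) (hO : IsPGroup p O) (hOφ : ∀ o ∈ O, φ * o * φ⁻¹ ∈ O)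
    (hκO : ∀ o ∈ O, ∀ a b, κ (o a) (o b) = κ a b) :
    ∀ o ∈ O, ∀ a, o (φ a * a⁻¹) = φ a * a⁻¹ ∧ φ (o a) = o (φ a) := by
  classical
  haveI : Fact (Nat.Prime 2) := ⟨Nat.prime_two⟩
  set ψ : E →* E := φ.toMonoidHom * (MonoidHom.id E)⁻¹ with hψdef
  have hψ : ∀ a, ψ a = φ a * a⁻¹ := fun a => rfl
  set E₁ := ψ.range with hE₁def
  -- the exponent of the moved part
  have h2E : IsPGroup 2 E := fun a => ⟨1, by rw [pow_one, sq, hexp]⟩
  obtain ⟨k, hk⟩ := IsPGroup.iff_card.mp (h2E.to_subgroup E₁)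
  obtain ⟨n, -, hn⟩ : ∃ n ≤ k, r - 1 = 2 ^ n :=
    (Nat.dvd_prime_pow Nat.prime_two).mp (hk ▸ hcard.symm ▸ dvd_pow_self _ two_ne_zero)
  have hrn : r = 2 ^ n + 1 := by have := hr.out.two_le; omega
  have hn1 : 1 ≤ n := Nat.one_le_iff_ne_zero.mpr fun h0 => hr2 (by rw [hrn, h0]; rfl)
  have hcard' : Nat.card E₁ = 2 ^ (2 * n) := by rw [hcard, hn, ← pow_mul, mul_comm]
  -- the pairing
  have hκr : ∀ a b b', κ a (b * b') = κ a b * κ a b' := fun a b b' => by
    rw [hκs a (b * b'), hκs a b, hκs a b', hκl, mul_inv]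
  have hκ1 : ∀ b, κ 1 b = 1 := fun b => by
    have h := hκl 1 1 b
    rw [mul_one] at h
    exact (mul_left_eq_self₀.mp h.symm).resolve_right (hκne _ _)
  have hκsq : ∀ a b, κ a b * κ a b = 1 := fun a b => by rw [← hκl, hexp, hκ1]
  have hκsymm : ∀ a b, κ a b = κ b a := fun a b => by
    rw [hκs a b]; exact inv_eq_of_mul_eq_one_left (hκsq b a)
  letI : Module (ZMod 2) (Additive E) := AddCommGroup.zmodModule fun x => by
    rw [two_nsmul]; exact congrArg Additive.ofMul (hexp (Additive.toMul x))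
  let b2 : E → E → ZMod 2 := fun a b => if κ a b = 1 then 0 else 1
  have hb2l : ∀ a a' b, b2 (a * a') b = b2 a b + b2 a' b := fun a a' b => by
    simp only [b2, hκl]
    by_cases h1 : κ a b = 1
    · simp [h1]
    · by_cases h2 : κ a' b = 1
      · simp [h1, h2]
      · have e1 := (mul_self_eq_one_iff.mp (hκsq a b)).resolve_left h1
        have e2 := (mul_self_eq_one_iff.mp (hκsq a' b)).resolve_left h2
        rw [if_neg h1, if_neg h2, e1, e2, neg_one_mul, neg_neg, if_pos rfl]
        rfl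
  have hb2s : ∀ a b, b2 a b = b2 b a := fun a b => by simp only [b2, hκsymm a b]
  have hb2iff : ∀ a b a' b', b2 a b = b2 a' b' ↔ (κ a b = 1 ↔ κ a' b' = 1) := fun a b a' b' => by
    by_cases h1 : κ a b = 1 <;> by_cases h2 : κ a' b' = 1 <;> simp [b2, h1, h2]
  let B : LinearMap.BilinForm (ZMod 2) (Additive E) :=
    AddMonoidHom.toZModLinearMap 2 (AddMonoidHom.mk' (fun x => AddMonoidHom.toZModLinearMap 2
      (AddMonoidHom.mk' (fun y => b2 (Additive.toMul x) (Additive.toMul y)) fun y y' => by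
        rw [hb2s, toMul_add, hb2l, hb2s (Additive.toMul y), hb2s (Additive.toMul y')]))
      fun x x' => LinearMap.ext fun y => by
        show b2 (Additive.toMul (x + x')) (Additive.toMul y) = _
        rw [toMul_add, hb2l]
        rfl)
  have hBdef : ∀ x y, B x y = b2 (Additive.toMul x) (Additive.toMul y) := fun x y => rfl
  have hsepl : ∀ x, (∀ y, B x y = 0) → x = 0 := fun x hx => by
    by_contra hne
    obtain ⟨b, hb⟩ := hκnd (Additive.toMul x) hne
    have := hx (Additive.ofMul b)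
    rw [hBdef, toMul_ofMul] at this
    simp [b2, hb] at this
  have hBnd : B.Nondegenerate := ⟨hsepl, fun y hy => hsepl y fun x => by
    rw [hBdef, hb2s, ← hBdef]; exact hy x⟩
  -- linear operators
  let lin : MulAut E →* Module.End (ZMod 2) (Additive E) :=
    { toFun := fun α => AddMonoidHom.toZModLinearMap 2 (MonoidHom.toAdditive α.toMonoidHom)
      map_one' := rfl
      map_mul' := fun α β => rfl }
  have hlin : Function.Injective lin := fun α β h => MulEquiv.ext fun a =>
    congrArg Additive.toMul (LinearMap.congr_fun h (Additive.ofMul a))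
  have hlinB : ∀ α : MulAut E, (∀ a b, κ (α a) (α b) = κ a b) →
      ∀ x y, B (lin α x) (lin α y) = B x y := fun α hα x y => by
    rw [hBdef, hBdef, hb2iff]
    show κ (α (Additive.toMul x)) (α (Additive.toMul y)) = 1 ↔ _
    rw [hα]
  -- the rank of the moved part
  have hsmall : Module.finrank (ZMod 2) (LinearMap.range (lin φ - 1)) ≤ 2 * n := by
    have h1 := Module.natCard_eq_pow_finrank (K := ZMod 2) (V := LinearMap.range (lin φ - 1))
    rw [Nat.card_zmod] at h1
    have h2 : Nat.card (LinearMap.range (lin φ - 1)) = Nat.card E₁ :=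
      Nat.card_congr (Equiv.subtypeEquiv Additive.toMul fun x => by
        constructor
        · rintro ⟨y, rfl⟩
          exact ⟨Additive.toMul y, (div_eq_mul_inv _ _).symm⟩
        · rintro ⟨a, ha⟩
          refine ⟨Additive.ofMul a, Additive.toMul.injective ?_⟩
          rw [← ha]
          exact div_eq_mul_inv _ _)
    rw [h2, hcard'] at h1
    exact (Nat.pow_right_injective le_rfl h1).ge
  let θ : MulAut O := Alperin.restrict (MulAut.conj φ) O fun o => by
    refine ⟨fun ho => hOφ o ho, fun ho => ?_⟩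
    have hall : ∀ i : ℕ, (MulAut.conj φ ^ i) (MulAut.conj φ o) ∈ O := by
      intro i
      induction i with
      | zero => exact ho
      | succ i ih => rw [pow_succ', MulAut.mul_apply]; exact hOφ _ ih
    have := hall (r - 1)
    rwa [← MulAut.mul_apply, ← pow_succ, Nat.sub_add_cancel hr.out.one_le, ← map_pow, hφr, map_one] at this
  have hθ : θ ^ r = 1 := MulEquiv.ext fun o => Subtype.ext (by
    rw [restrict_pow, ← map_pow, hφr, map_one]; rfl)
  have hcomm := commute_of_small_moved hp2 hpr hr2 hrn hn1 B hBnd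
    (fun x y => by rw [hBdef, hBdef, hb2s]) (lin φ) (by rw [← map_pow, hφr, map_one])
    (hlinB φ hκφ) hsmall hO θ hθ (lin.comp O.subtype) (hlin.comp Subtype.val_injective)
    (fun o => by
      show lin φ * lin o = lin (φ * o * φ⁻¹) * lin φ
      rw [← map_mul, ← map_mul, inv_mul_cancel_right])
    (fun o => hlinB _ (hκO _ o.2))
  have hcom : ∀ o ∈ O, ∀ a, φ (o a) = o (φ a) := fun o ho a => by
    have h1 : φ * o * φ⁻¹ = o := congrArg Subtype.val (MulEquiv.congr_fun hcomm ⟨o, ho⟩)
    rw [mul_inv_eq_iff_eq_mul] at h1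
    exact MulEquiv.congr_fun h1 a
  -- the moved part
  intro o ho
  have ho' : ∀ a ∈ E₁, o a ∈ E₁ := by
    rintro _ ⟨a, rfl⟩
    exact ⟨o a, by rw [hψ, hψ, hcom o ho, map_mul, map_inv]⟩
  have hφ₁ : ∀ a, a ∈ E₁ ↔ φ a ∈ E₁ := by
    have h1 : ∀ a ∈ E₁, φ a ∈ E₁ := by
      rintro _ ⟨a, rfl⟩
      exact ⟨φ a, by rw [hψ, hψ, map_mul, map_inv]⟩
    intro a
    refine ⟨h1 a, fun ha => ?_⟩
    have := pow_mem_of_mem h1 (r - 1) ha
    rwa [← MulAut.mul_apply, ← pow_succ, Nat.sub_add_cancel hr.out.one_le, hφr, MulAut.one_apply] at this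
  have hprod : ∀ a, φ (∏ i ∈ Finset.range r, (φ ^ i) a) = ∏ i ∈ Finset.range r, (φ ^ i) a := fun a => by
    rw [map_prod]
    have h1 := Finset.prod_range_succ' (fun i => (φ ^ i) a) r
    have h2 := Finset.prod_range_succ (fun i => (φ ^ i) a) r
    rw [h1, hφr, pow_zero] at h2
    rw [← mul_right_cancel h2]
    exact Finset.prod_congr rfl fun i _ => by rw [pow_succ', MulAut.mul_apply]
  -- fixed elements are orthogonal to the moved part
  have horth : ∀ f, φ f = f → ∀ d ∈ E₁, κ f d = 1 := by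
    rintro f hf _ ⟨a, rfl⟩
    rw [hψ, hκr]
    have h1 : κ f (φ a) = κ f a := by rw [← hκφ f a, hf]
    rw [h1, ← hκr, mul_inv_cancel, hκsymm, hκ1]
  have hfree : ∀ d ∈ E₁, φ d = d → d = 1 := by
    rintro d ⟨a, rfl⟩ hd
    have hp' : ∀ i, (φ ^ i) (ψ a) = ψ a := by
      intro i
      induction i with
      | zero => rfl
      | succ i ih => rw [pow_succ', MulAut.mul_apply, ih, hd]
    have h1 : ∏ i ∈ Finset.range r, (φ ^ i) (ψ a) = 1 := by
      simp only [hψ, map_mul, map_inv, Finset.prod_mul_distrib, Finset.prod_inv_distrib]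
      rw [← hprod a, map_prod, mul_inv_eq_one]
      exact Finset.prod_congr rfl fun i _ => by
        rw [← MulAut.mul_apply, ← MulAut.mul_apply, ← pow_succ, ← pow_succ']
    rw [Finset.prod_congr rfl fun i _ => hp' i, Finset.prod_const, Finset.card_range] at h1
    obtain ⟨m, hm⟩ := hr.out.odd_of_ne_two hr2
    rwa [hm, pow_succ, pow_mul, sq, hexp, one_pow, one_mul] at h1
  have hnd₁ : ∀ d ∈ E₁, d ≠ 1 → ∃ d' ∈ E₁, κ d d' ≠ 1 := by
    intro d hd hd1
    by_contra h
    push Not at h
    obtain ⟨b, hb⟩ := hκnd d hd1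
    refine hb ?_
    -- `b ^ r` is fixed times moved
    have hmem : ∀ i : ℕ, b * ((φ ^ i) b)⁻¹ ∈ E₁ := by
      intro i
      induction i with
      | zero => simp [one_mem]
      | succ i ih =>
        have : b * ((φ ^ (i + 1)) b)⁻¹ = b * ((φ ^ i) b)⁻¹ * (φ ((φ ^ i) b) * ((φ ^ i) b)⁻¹)⁻¹ := by
          rw [pow_succ', MulAut.mul_apply, mul_inv_rev, inv_inv, mul_assoc, inv_mul_cancel_left]
        rw [this]
        exact mul_mem ih (inv_mem ⟨_, rfl⟩)
    have e1 : b = (∏ i ∈ Finset.range r, (φ ^ i) b) * ∏ i ∈ Finset.range r, b * ((φ ^ i) b)⁻¹ := by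
      rw [Finset.prod_mul_distrib, Finset.prod_inv_distrib, mul_comm, inv_mul_cancel_right,
        Finset.prod_const, Finset.card_range]
      obtain ⟨m, hm⟩ := hr.out.odd_of_ne_two hr2
      rw [hm, pow_succ, pow_mul, sq, hexp, one_pow, one_mul]
    rw [e1, hκr, hκsymm, horth _ (hprod b) d hd, one_mul]
    exact h _ (Subgroup.prod_mem _ fun i _ => hmem i)
  -- the ring of the restricted operator
  let φ₁ := Alperin.restrict φ E₁ hφ₁
  letI : Module (ZMod 2) (Additive E₁) := AddCommGroup.zmodModule fun x => by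
    rw [two_nsmul]; exact congrArg Additive.ofMul (Subtype.ext (hexp (Additive.toMul x : E₁)))
  let F : AddMonoid.End (Additive E₁) := MonoidHom.toAdditive φ₁.toMonoidHom
  have hF : ∀ x, ((Additive.toMul (F x) : E₁) : E) = φ (Additive.toMul x : E₁) := fun x => rfl
  let o₁ : AddMonoid.End (Additive E₁) := MonoidHom.toAdditive
    { toFun := fun x : E₁ => (⟨o x, ho' _ x.2⟩ : E₁)
      map_one' := Subtype.ext (map_one o)
      map_mul' := fun x y => Subtype.ext (map_mul o _ _) }
  let kk : Additive E₁ → Additive E₁ → K := fun x y =>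
    κ (Additive.toMul x : E₁) (Additive.toMul y : E₁)
  have hkkl : ∀ x x' y, kk (x + x') y = kk x y * kk x' y := fun x x' y => hκl _ _ _
  have hkkr : ∀ x y y', kk x (y + y') = kk x y * kk x y' := fun x y y' => hκr _ _ _
  have hchar : ∀ f : AddMonoid.End (Additive E₁), f + f = 0 := fun f =>
    AddMonoidHom.ext fun x => congrArg Additive.ofMul (Subtype.ext (hexp (Additive.toMul (f x) : E₁)))
  set R := Subring.closure ({F} : Set (AddMonoid.End (Additive E₁))) with hR
  have hRcomm : ∀ f ∈ R, ∀ g ∈ R, Commute f g := by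
    have h1 : R ≤ Subring.centralizer {F} := (Subring.closure_le).mpr fun x hx => by
      rw [Set.mem_singleton_iff] at hx
      subst hx
      exact Subring.mem_centralizer_iff.mpr fun y hy => by rw [Set.mem_singleton_iff.mp hy]
    intro f hf g hg
    have h2 : R ≤ Subring.centralizer {f} := (Subring.closure_le).mpr fun x hx => by
      rw [Set.mem_singleton_iff] at hx
      subst hx
      exact Subring.mem_centralizer_iff.mpr fun y hy => by
        rw [Set.mem_singleton_iff.mp hy]
        exact (Subring.mem_centralizer_iff.mp (h1 hf) _ rfl).symm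
    exact Subring.mem_centralizer_iff.mp (h2 hg) f rfl
  have hfrob : ∀ f ∈ R, ∀ g ∈ R, ∀ i : ℕ, (f + g) ^ 2 ^ i = f ^ 2 ^ i + g ^ 2 ^ i := by
    intro f hf g hg i
    induction i with
    | zero => simp
    | succ i ih =>
      rw [pow_succ, pow_mul, ih, pow_mul, pow_mul, sq, sq, sq, add_mul, mul_add, mul_add,
        (hRcomm _ (pow_mem hg _) _ (pow_mem hf _)).eq]
      rw [add_assoc, ← add_assoc (f ^ 2 ^ i * g ^ 2 ^ i), hchar, zero_add]
  have hFr : F ^ r = 1 := by
    have hFi : ∀ (i : ℕ) x, ((Additive.toMul ((F ^ i) x) : E₁) : E) = (φ ^ i) (Additive.toMul x : E₁) := by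
      intro i
      induction i with
      | zero => intro x; rfl
      | succ i ih =>
        intro x
        rw [pow_succ', pow_succ', MulAut.mul_apply, ← ih]
        rfl
    exact AddMonoidHom.ext fun x => Additive.toMul.injective (Subtype.ext ((hFi r x).trans
      (by rw [hφr]; rfl)))
  have hadj : ∀ f ∈ R, ∀ x y, kk (f x) y = kk x ((f ^ 2 ^ n) y) := by
    intro f hf
    induction hf using Subring.closure_induction with
    | mem g hg =>
      rw [Set.mem_singleton_iff] at hg
      subst hg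
      intro x y
      have h1 : F (((F : AddMonoid.End (Additive E₁)) ^ 2 ^ n) y) = y := by
        have := DFunLike.congr_fun (show F * F ^ 2 ^ n = 1 by rw [← pow_succ', ← hrn, hFr]) y
        exact this
      conv_lhs => rw [← h1]
      exact hκφ _ _
    | zero =>
      intro x y
      rw [zero_pow (pow_ne_zero _ two_ne_zero)]
      show κ 1 _ = κ _ 1
      rw [hκ1, hκsymm, hκ1]
    | one =>
      intro x y
      rw [one_pow]
      rfl
    | add g g' hg hg' ihg ihg' =>
      intro x y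
      rw [hfrob g hg g' hg' n]
      show kk (g x + g' x) y = kk x ((g ^ 2 ^ n) y + (g' ^ 2 ^ n) y)
      rw [hkkl, ihg, ihg', hkkr]
    | neg g hg ihg =>
      intro x y
      rw [neg_eq_of_add_eq_zero_left (hchar g)]
      exact ihg x y
    | mul g g' hg hg' ihg ihg' =>
      intro x y
      rw [(hRcomm _ hg _ hg').mul_pow]
      show kk (g (g' x)) y = kk x ((g ^ 2 ^ n * g' ^ 2 ^ n) y)
      rw [ihg, ihg', (hRcomm _ (pow_mem hg _) _ (pow_mem hg' _)).eq]
      rfl
  -- cyclicity
  obtain ⟨e₀, he₀⟩ : ∃ e₀ : Additive E₁, e₀ ≠ 0 := by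
    haveI : Nontrivial E₁ := Finite.one_lt_card_iff_nontrivial.mp (by
      rw [hcard']; exact Nat.one_lt_two_pow (by omega))
    exact exists_ne 0
  let H : AddSubgroup (Additive E₁) := R.toAddSubgroup.map
    (AddMonoidHom.mk' (fun f : AddMonoid.End (Additive E₁) => f e₀) fun f g => rfl)
  have hHtop : ∀ x, x ∈ H := by
    let H' : Subgroup E₁ := AddSubgroup.toSubgroup' H
    have hH'mem : ∀ x, x ∈ H' ↔ Additive.ofMul x ∈ H := fun x => Iff.rfl
    have hstep : ∀ x, x ∈ H' → φ₁ x ∈ H' := by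
      rintro x ⟨f, hf, hfx⟩
      exact ⟨F * f, R.mul_mem (Subring.subset_closure rfl) hf,
        (congrArg F hfx : F (f e₀) = F (Additive.ofMul x))⟩
    have hφ₁r : φ₁ ^ r = 1 := MulEquiv.ext fun x => Subtype.ext (by
      rw [restrict_pow, hφr]; rfl)
    have hiff : ∀ x, x ∈ H' ↔ φ₁ x ∈ H' := fun x => by
      refine ⟨hstep x, fun hx => ?_⟩
      have := pow_mem_of_mem hstep (r - 1) hx
      rwa [← MulAut.mul_apply, ← pow_succ, Nat.sub_add_cancel hr.out.one_le, hφ₁r, MulAut.one_apply] at this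
    let φH := Alperin.restrict φ₁ H' hiff
    have hφHr : φH ^ r = 1 := MulEquiv.ext fun x => Subtype.ext (by rw [restrict_pow, hφ₁r]; rfl)
    have hd := dvd_card_sub_one_of_free φH r hr.out.pos hφHr fun i h0 hi x hx => by
      have h1 := fixed_of_pow_fixed hφHr (fun hd => absurd (Nat.le_of_dvd h0 hd) (by omega)) hx
      refine Subtype.ext (Subtype.ext (hfree _ (x : E₁).2 ?_))
      exact congrArg (fun z : H' => ((z : E₁) : E)) h1
    obtain ⟨j, hj⟩ := IsPGroup.iff_card.mp ((h2E.to_subgroup E₁).to_subgroup H')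
    rw [hj] at hd
    have hj0 : j ≠ 0 := fun h0 => he₀ (by
      rw [h0, pow_zero] at hj
      have h1 : Additive.toMul e₀ ∈ H' := ⟨1, one_mem R, rfl⟩
      rw [Subgroup.eq_bot_of_card_eq H' hj, Subgroup.mem_bot] at h1
      exact h1)
    have hb := exponent_bound (p := r) (k := 1) (n := 1) (b := n) (e := j) (hr.out.odd_of_ne_two hr2)
      hn1 (by rw [pow_one]; exact hrn) le_rfl (Nat.pos_of_ne_zero hj0) (by rwa [pow_one])
    rw [Nat.sub_self, pow_zero, mul_one] at hb
    have htop : H' = ⊤ := Subgroup.eq_top_of_le_card _ (by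
      rw [hj, hcard']; exact Nat.pow_le_pow_right two_pos hb)
    intro x
    have h1 : Additive.toMul x ∈ H' := htop ▸ Subgroup.mem_top _
    exact h1
  obtain ⟨f, hf, hfe⟩ := hHtop (o₁ e₀)
  have hFo : Commute F o₁ :=
    AddMonoidHom.ext fun x => Additive.toMul.injective (Subtype.ext (hcom o ho _))
  have hcf : ∀ g ∈ R, ∀ x, g (o₁ x) = o₁ (g x) := by
    intro g hg
    have hle : R ≤ Subring.centralizer {o₁} := (Subring.closure_le).mpr fun x hx => by
      rw [Set.mem_singleton_iff] at hx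
      subst hx
      exact Subring.mem_centralizer_iff.mpr fun y hy => by
        rw [Set.mem_singleton_iff.mp hy]
        exact hFo.symm.eq
    exact fun x => (DFunLike.congr_fun (Subring.mem_centralizer_iff.mp (hle hg) o₁ rfl) x).symm
  have hof : o₁ = f := AddMonoidHom.ext fun x => by
    obtain ⟨g, hg, rfl⟩ := hHtop x
    show o₁ (g e₀) = f (g e₀)
    rw [← hcf g hg]
    refine (congrArg g hfe.symm).trans ?_
    exact DFunLike.congr_fun (hRcomm g hg f hf).eq e₀
  have hfr : f ^ r = 1 := AddMonoidHom.ext fun y => by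
    by_contra hne
    have hne' : (f ^ r) y - y ≠ 0 := sub_ne_zero.mpr hne
    obtain ⟨d', hd', hb⟩ := hnd₁ _ (Additive.toMul ((f ^ r) y - y) : E₁).2
      (fun h => hne' (Additive.toMul.injective (Subtype.ext h)))
    refine hb ?_
    set x : Additive E₁ := Additive.ofMul ⟨d', hd'⟩ with hx
    have h1 : kk (f x) (f y) = kk x y := by
      rw [← hof]; exact hκO o ho _ _
    rw [hadj f hf] at h1
    have h2 : kk x ((f ^ r) y) = kk x y := by rw [hrn, pow_succ]; exact h1
    show κ (Additive.toMul ((f ^ r) y - y) : E₁) d' = 1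
    rw [hκsymm]
    show kk x ((f ^ r) y - y) = 1
    have h3 := hkkr x ((f ^ r) y - y) y
    rw [sub_add_cancel, h2] at h3
    exact (mul_left_eq_self₀.mp h3.symm).resolve_right (hκne _ _)
  -- orders
  have hop : ∀ i : ℕ, ∀ x, ((Additive.toMul ((f ^ i) x) : E₁) : E) = (o ^ i) (Additive.toMul x : E₁) := by
    intro i
    induction i with
    | zero => intro x; rfl
    | succ i ih =>
      intro x
      rw [pow_succ', pow_succ', MulAut.mul_apply, ← ih]
      nth_rewrite 1 [← hof]
      rfl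
  intro a
  obtain ⟨j, hj⟩ := hO ⟨o, ho⟩
  have hj' : o ^ p ^ j = 1 := congrArg Subtype.val hj
  by_cases hj0 : j = 0
  · rw [hj0, pow_zero, pow_one] at hj'
    exact ⟨by rw [hj', MulAut.one_apply], hcom o ho a⟩
  obtain ⟨i, -, hi⟩ := Nat.exists_mul_mod_eq_one_of_coprime
    (show r.Coprime (p ^ j) from Nat.Coprime.pow_right _ ((Nat.coprime_primes hr.out hp.out).mpr hpr.symm))
    (Nat.one_lt_pow hj0 hp.out.one_lt)
  have h1 := hop (r * i) (Additive.ofMul ⟨φ a * a⁻¹, ⟨a, rfl⟩⟩)
  rw [pow_mul, hfr, one_pow, pow_eq_pow_mod _ hj', hi, pow_one] at h1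
  exact ⟨h1.symm, hcom o ho a⟩

end CfsgLib.PGroups.Turull
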