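import Mathlib
import Cfsg.Agent.Lib.PGroups.Turull.Junction
import Cfsg.Agent.Lib.PGroups.Alperin.BoundedOrder

/-!
# Labels of a commuting operator

* `fix_inf_moved`, `exists_decomp`: coprime action on a commutative group
* `card_of_no_fixed`: an operator without fixed vectors has exceptional labels
* `trivial_or_inversion`: an operator commuting with `β` whose displacements are killed induces the
  identity or, with order a power of two, the inversion on non-exceptional labels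
-/

set_option autoImplicit false
set_option linter.all false
set_option maxHeartbeats 1000000

namespace CfsgLib.PGroups.Turull

open CfsgLib.PGroups.ShultGross

section Comm

variable {E : Type*} [CommGroup E] {ψ : MulAut E} {P : ℕ}

/-- The displacement. -/
def movedPart (ψ : MulAut E) : Subgroup E := (ψ.toMonoidHom * (MonoidHom.id E)⁻¹).range

theorem mem_movedPart {d : E} : d ∈ movedPart ψ ↔ ∃ a, ψ a * a⁻¹ = d := Iff.rfl

theorem movedPart_map {φ : MulAut E} (h : Commute φ ψ) : ∀ d ∈ movedPart ψ, φ d ∈ movedPart ψ := by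
  rintro _ ⟨a, rfl⟩
  refine ⟨φ a, ?_⟩
  show ψ (φ a) * (φ a)⁻¹ = φ (ψ a * a⁻¹)
  rw [map_mul, map_inv, ← MulAut.mul_apply, ← h.eq, MulAut.mul_apply]

/-- Fixed elements in the moved part are trivial. -/
theorem fix_inf_moved [Finite E] (hψ : ψ ^ P = 1) (hcop : P.Coprime (Nat.card E)) {d : E}
    (hd : d ∈ movedPart ψ) (hfix : ψ d = d) : d = 1 := by
  obtain ⟨a, rfl⟩ := hd
  have h1 : ∀ i : ℕ, (ψ ^ i) a = (ψ a * a⁻¹) ^ i * a := by
    intro i
    induction i with
    | zero => simp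
    | succ i ih =>
      rw [pow_succ', MulAut.mul_apply, ih, map_mul, map_pow, show ψ (ψ a * a⁻¹) = ψ a * a⁻¹ from hfix,
        pow_succ, mul_assoc, inv_mul_cancel_right]
  have h2 : (ψ a * a⁻¹) ^ P = 1 := mul_eq_right.mp (by rw [← h1, hψ, MulAut.one_apply])
  show ψ a * a⁻¹ = 1
  have h3 := pow_gcd_eq_one.mpr ⟨h2, pow_card_eq_one' (G := E)⟩
  rwa [hcop.gcd_eq_one, pow_one] at h3

/-- Fixed times moved. -/
theorem exists_decomp [Finite E] (hψ : ψ ^ P = 1) (hcop : P.Coprime (Nat.card E)) (b : E) :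
    ∃ f d, ψ f = f ∧ d ∈ movedPart ψ ∧ b = f * d := by
  let g : movedPart ψ → movedPart ψ := fun d => ⟨ψ d * (d : E)⁻¹, ⟨(d : E), rfl⟩⟩
  have hg : Function.Surjective g := Finite.surjective_of_injective fun a c hac => by
    have h1 : ψ a * (a : E)⁻¹ = ψ c * (c : E)⁻¹ := congrArg Subtype.val hac
    refine Subtype.ext (mul_inv_eq_one.mp (fix_inf_moved hψ hcop (mul_mem a.2 (inv_mem c.2)) ?_))
    rw [map_mul, map_inv, mul_inv_eq_iff_eq_mul.mp h1]
    simp [mul_comm, mul_left_comm, mul_assoc]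
  obtain ⟨d, hd⟩ := hg ⟨ψ b * b⁻¹, ⟨b, rfl⟩⟩
  have h1 : ψ d * (d : E)⁻¹ = ψ b * b⁻¹ := congrArg Subtype.val hd
  refine ⟨b * (d : E)⁻¹, d, ?_, d.2, (inv_mul_cancel_right b d).symm⟩
  rw [map_mul, map_inv, mul_inv_eq_iff_eq_mul, mul_inv_eq_iff_eq_mul.mp h1]
  simp [mul_comm, mul_left_comm, mul_assoc]

end Comm

variable {K : Type*} [Field K] [IsAlgClosed K] {U : Type*} [AddCommGroup U] [Module K U]
  [FiniteDimensional K U] [Nontrivial U] {E : Type*} [CommGroup E] [Finite E]
  {e : E → Module.End K U} {c : E → E → K}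

theorem κ_moved (h : Twisted e c) {ψ : MulAut E} (hinv : ∀ a b, h.κ (ψ a) (ψ b) = h.κ a b) {f d : E}
    (hf : ψ f = f) (hd : d ∈ movedPart ψ) : h.κ f d = 1 := by
  obtain ⟨a, rfl⟩ := hd
  show h.κ f (ψ a * a⁻¹) = 1
  have h1 : h.κ f (ψ a) = h.κ f a := by rw [← hinv f a, hf]
  rw [κ_mul_right h, h1, ← κ_mul_right h, mul_inv_cancel, κ_swap h 1 f, κ_one_left h, inv_one]

/-- The moved part is nondegenerate. -/
theorem twisted_moved (h : Twisted e c) {ψ : MulAut E} (hinv : ∀ a b, h.κ (ψ a) (ψ b) = h.κ a b)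
    {P : ℕ} (hψ : ψ ^ P = 1) (hcop : P.Coprime (Nat.card E)) :
    Twisted (fun a : movedPart ψ => e a) (fun a b : movedPart ψ => c a b) := by
  refine twisted_subgroup h _ fun a ha ha1 => ?_
  by_contra hno
  push Not at hno
  obtain ⟨b, hb⟩ := h.exists_κ_ne_one ha1
  obtain ⟨f, d, hf, hd, rfl⟩ := exists_decomp hψ hcop b
  rw [h.κ_mul, κ_moved h hinv hf ha, one_mul] at hb
  exact hb (by rw [κ_swap h a d, hno d hd, inv_one])

variable {r : ℕ} [hr : Fact r.Prime] {φ : MulAut E} {β : Module.End K U} {s : E → K}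

/-- No fixed vectors: the labels are exceptional. -/
theorem card_of_no_fixed (h : Twisted e c) (hE : (Nat.card E : K) ≠ 0) (hE1 : ∃ a : E, a ≠ 1)
    (hrK : (r : K) ≠ 0) (hφr : φ ^ r = 1) (hfree : ∀ a, φ a = a → a = 1)
    (hβe : ∀ a, β * e a = s a • (e (φ a) * β)) (hβr : β ^ r = 1) (hfix : ∀ v, β v = v → v = 0) :
    Nat.card E = (r - 1) ^ 2 ∧ r ≠ 2 := by
  obtain ⟨a₀, ha₀⟩ := hE1
  have hr2 : r ≠ 2 := by
    intro h2
    subst h2
    have hneg : ∀ v, β v = -v := fun v => eq_neg_of_add_eq_zero_left (hfix _ (by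
      rw [map_add, ← Module.End.mul_apply, ← sq, hβr, Module.End.one_apply, add_comm]))
    refine ha₀ (hfree a₀ (κhom_injective h (MonoidHom.ext fun b => Units.ext ?_)))
    have he : ∀ a, e a = s a • e (φ a) := fun a => LinearMap.ext fun v => by
      have h1 := LinearMap.congr_fun (hβe a) v
      rw [Module.End.mul_apply, hneg, LinearMap.smul_apply, Module.End.mul_apply, hneg, map_neg,
        smul_neg, neg_inj] at h1
      rw [h1, LinearMap.smul_apply]
    rw [κhom_apply, κhom_apply]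
    have h1 := h.comm a₀ b
    rw [he a₀, smul_mul_assoc, h.comm (φ a₀) b, mul_smul_comm, smul_smul, smul_smul] at h1
    have hne : e b * e (φ a₀) ≠ 0 := by
      rw [← h.u_val b, ← h.u_val (φ a₀), ← Units.val_mul]
      exact Units.ne_zero _
    have h2 := smul_left_injective K hne h1
    rw [mul_comm] at h2
    exact (mul_right_cancel₀ (s_ne h hβe (IsUnit.of_pow_eq_one hβr two_ne_zero) a₀) h2)
  refine ⟨card_eq_sub_one_sq h hE ?_ (hr.out.odd_of_ne_two hr2) hr.out.one_lt hrK hφr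
    (fun i h0 hi a ha => hfree a (fixed_of_pow_fixed hφr
      (fun hd => absurd (Nat.le_of_dvd h0 hd) (by omega)) ha)) β s hβe hβr hfix, hr2⟩
  haveI := nontrivial_of_ne a₀ 1 ha₀
  exact Finite.one_lt_card

variable {T : Module.End K U} {x : MulAut E} {t : E → K}

/-- The irreducible case. -/
theorem trivial_or_inversion_irred (h : Twisted e c)
    (hirr : ∀ S : Submodule K U, (∀ a, ∀ v ∈ S, e a v ∈ S) → S = ⊥ ∨ S = ⊤)
    (hE : (Nat.card E : K) ≠ 0) (hE1 : ∃ a : E, a ≠ 1) (hnx : Nat.card E ≠ (r - 1) ^ 2)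
    (hrK : (r : K) ≠ 0) (hφr : φ ^ r = 1) (hfree : ∀ a, φ a = a → a = 1)
    (hβe : ∀ a, β * e a = s a • (e (φ a) * β)) (hβr : β ^ r = 1)
    (hTe : ∀ a, T * e a = t a • (e (x a) * T)) (hTβ : Commute T β) (hxφ : Commute x φ)
    {ℓ N : ℕ} (hℓ : ℓ.Prime) (hxP : x ^ ℓ ^ N = 1) (hTP : T ^ ℓ ^ N = 1) (hℓr : ℓ ≠ r)
    (hℓE : ℓ.Coprime (Nat.card E)) (M : Set (Module.Dual K U))
    (hspan : ∀ v, (∀ f ∈ M, f v = 0) → v = 0) (hM : ∀ a, ∀ f ∈ M, f.comp (e a) ∈ M)
    (hkill : ∀ y, β y = y → Kills M β (T y - y)) :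
    x = 1 ∨ (ℓ = 2 ∧ ∀ a, x a = a⁻¹) := by
  have hβ : IsUnit β := IsUnit.of_pow_eq_one hβr hr.out.ne_zero
  have hT : IsUnit T := IsUnit.of_pow_eq_one hTP (pow_ne_zero _ hℓ.ne_zero)
  obtain ⟨u₀, hu₀0, hu₀⟩ : ∃ u, u ≠ 0 ∧ β u = u := by
    by_contra hno
    push Not at hno
    exact hnx (card_of_no_fixed h hE hE1 hrK hφr hfree hβe hβr fun v hv =>
      by_contra fun h0 => hno v h0 hv).1
  rcases trivial_or_fixed h hE hE1 hφr hfree hβe hβr hTe hTβ hxφ (pow_pos hℓ.pos N) hxP hTP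
    (((Nat.coprime_primes hℓ hr.out).mpr hℓr).pow_left N) hirr (hℓE.pow_left N) M hspan hM hkill with
    hx | hfixT
  · exact Or.inl hx
  -- trivial label means trivial operator
  have hone : ∀ (T₁ : Module.End K U) (x₁ : MulAut E) (t₁ : E → K), IsUnit T₁ →
      (∀ a, T₁ * e a = t₁ a • (e (x₁ a) * T₁)) → Commute T₁ β → T₁ u₀ = u₀ → x₁ = 1 → T₁ = 1 := by
    intro T₁ x₁ t₁ hT₁ hTe₁ hTβ₁ hu₁ hx₁
    subst hx₁
    simp only [MulAut.one_apply] at hTe₁
    have hne : ∀ a, e a * T₁ ≠ 0 := fun a h0 => h.ne_zero a (hT₁.mul_left_eq_zero.mp h0)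
    have hmul : ∀ a b, t₁ (a * b) = t₁ a * t₁ b := fun a b => by
      have h1 : T₁ * (e a * e b) = (t₁ a * t₁ b) • (e a * e b * T₁) := by
        rw [← mul_assoc, hTe₁, smul_mul_assoc, mul_assoc, hTe₁, mul_smul_comm, smul_smul, mul_assoc]
      rw [h.mul, mul_smul_comm, hTe₁, smul_mul_assoc, smul_smul, smul_smul, mul_comm (c a b)] at h1
      exact mul_right_cancel₀ (h.c_ne a b) (smul_left_injective K (hne (a * b)) h1)
    have hφt : ∀ a, t₁ (φ a) = t₁ a := fun a => by
      have h1 : T₁ * (β * e a) = β * (T₁ * e a) := by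
        rw [← mul_assoc, hTβ₁.eq, mul_assoc]
      rw [hβe, hTe₁, mul_smul_comm, mul_smul_comm, ← mul_assoc, hTe₁, ← mul_assoc β, hβe,
        smul_mul_assoc, smul_mul_assoc, mul_assoc (e (φ a)) T₁ β, hTβ₁.eq, ← mul_assoc (e (φ a)),
        smul_smul, smul_smul, mul_comm (s a)] at h1
      have hne' : e (φ a) * β * T₁ ≠ 0 := fun h0 => h.ne_zero (φ a)
        (hβ.mul_left_eq_zero.mp (hT₁.mul_left_eq_zero.mp h0))
      exact mul_right_cancel₀ (s_ne h hβe hβ a) (smul_left_injective K hne' h1)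
    have hcomm : ∀ a, T₁ * e a = e a * T₁ := by
      intro a
      have hsur : Function.Surjective fun b => φ b * b⁻¹ := Finite.surjective_of_injective
        fun b b' hbb => by
          have h2 : φ b * b⁻¹ = φ b' * b'⁻¹ := hbb
          refine mul_inv_eq_one.mp (hfree _ ?_)
          rw [map_mul, map_inv, mul_inv_eq_iff_eq_mul.mp h2]
          simp [mul_comm, mul_left_comm, mul_assoc]
      obtain ⟨b, rfl⟩ := hsur a
      have h2 : t₁ (φ b * b⁻¹) * t₁ b = t₁ b := by rw [← hmul, inv_mul_cancel_right, hφt]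
      rw [hTe₁, (mul_left_eq_self₀.mp h2).resolve_right (s_ne h (φ := (1 : MulAut E)) (by simpa using hTe₁) hT₁ b), one_smul]
    refine LinearMap.ext fun v => ?_
    rcases hirr (LinearMap.ker (T₁ - 1)) (fun a v hv => by
      rw [LinearMap.mem_ker, LinearMap.sub_apply, Module.End.one_apply, sub_eq_zero] at hv ⊢
      rw [← Module.End.mul_apply, hcomm, Module.End.mul_apply, hv]) with hk | hk
    · have : u₀ ∈ LinearMap.ker (T₁ - 1) := by simp [hu₁]
      rw [hk] at this
      exact absurd ((Submodule.mem_bot K).mp this) hu₀0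
    · have : v ∈ LinearMap.ker (T₁ - 1) := hk ▸ Submodule.mem_top
      simpa [sub_eq_zero] using this
  have hTpow : ∀ i : ℕ, ∀ y, β y = y → (T ^ i) y = y := by
    intro i
    induction i with
    | zero => exact fun y _ => rfl
    | succ i ih => intro y hy; rw [pow_succ', Module.End.mul_apply, ih y hy, hfixT y hy]
  have hpowe : ∀ i : ℕ, ∃ u : E → K, ∀ a, T ^ i * e a = u a • (e ((x ^ i) a) * T ^ i) := by
    intro i
    induction i with
    | zero => exact ⟨fun _ => 1, fun a => by simp⟩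
    | succ i ih =>
      obtain ⟨u, hu⟩ := ih
      refine ⟨fun a => u a * t ((x ^ i) a), fun a => ?_⟩
      rw [pow_succ', mul_assoc, hu, mul_smul_comm, ← mul_assoc, hTe, smul_mul_assoc, smul_smul,
        mul_assoc, ← pow_succ', pow_succ' x, MulAut.mul_apply]
  -- a semiregular power of order at least three is impossible
  have hsemi : ∀ (i k : ℕ) (z : MulAut E), x ^ (i * ℓ ^ k) = 1 → 3 ≤ ℓ ^ k → Commute z φ → z ≠ 1 →
      z ^ ℓ ^ k = 1 → (∀ a b, h.κ (z a) (z b) = h.κ a b) → Commute (x ^ i) z →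
      (∀ j, 0 < j → j < ℓ ^ k → ∀ a ∈ movedPart z, ((x ^ i) ^ j) a = a → a = 1) → False := by
    intro i k z hxi hk hzφ hz1 hzk hzκ hxz hzfree
    haveI : Fact ℓ.Prime := ⟨hℓ⟩
    have hcop : (ℓ ^ k).Coprime (Nat.card E) := hℓE.pow_left k
    set L := movedPart z with hL
    have hLφ : ∀ d ∈ L, φ d ∈ L := movedPart_map hzφ.symm
    have hLx : ∀ d ∈ L, (x ^ i) d ∈ L := movedPart_map hxz
    have hiff : ∀ (α : MulAut E) (m : ℕ), 0 < m → α ^ m = 1 → (∀ d ∈ L, α d ∈ L) →
        ∀ d, d ∈ L ↔ α d ∈ L := fun α m hm hα hαL d => by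
      refine ⟨hαL d, fun hd => ?_⟩
      have := pow_mem_of_mem hαL (m - 1) hd
      rwa [← MulAut.mul_apply, ← pow_succ, Nat.sub_add_cancel hm, hα, MulAut.one_apply] at this
    let φL := Alperin.restrict φ L (hiff φ r hr.out.pos hφr hLφ)
    have hxL : ∀ d, d ∈ L ↔ (x ^ i) d ∈ L :=
      hiff (x ^ i) (ℓ ^ k) (pow_pos hℓ.pos k) (by rw [← pow_mul, hxi]) hLx
    let xL := Alperin.restrict (x ^ i) L hxL
    obtain ⟨u, hu⟩ := hpowe i
    have hTk : (T ^ i) ^ ℓ ^ k = 1 := by
      rw [← pow_mul]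
      obtain ⟨u', hu'⟩ := hpowe (i * ℓ ^ k)
      exact hone _ _ u' (hT.pow _) hu' (hTβ.pow_left _) (hTpow _ _ hu₀) hxi
    have hLE : Nat.card L ∣ Nat.card E := L.card_subgroup_dvd_card
    refine false_of_semiregular (U := U) (twisted_moved h hzκ hzk hcop) ?_ ?_ (φ := φL) ?_ ?_
      (s := fun a => s a) ?_ hβr (T := T ^ i) (x := xL) (t := fun a => u a) ?_ (hTβ.pow_left i) ?_
      (pow_pos hℓ.pos k) ?_ hTk (((Nat.coprime_primes hℓ hr.out).mpr hℓr).pow_left k) hℓ rfl hk hrK
      ?_ (fun y hy => hTpow i y hy)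
    · intro h0
      obtain ⟨d, hd⟩ := hLE
      exact hE (by rw [hd, Nat.cast_mul, h0, zero_mul])
    · obtain ⟨a, ha⟩ : ∃ a, z a ≠ a := by
        by_contra hno
        push Not at hno
        exact hz1 (MulEquiv.ext hno)
      exact ⟨⟨z a * a⁻¹, a, rfl⟩, fun h0 => ha (mul_inv_eq_one.mp (congrArg Subtype.val h0))⟩
    · exact MulEquiv.ext fun a => Subtype.ext (by rw [Alperin.restrict_pow, hφr]; rfl)
    · exact fun a ha => Subtype.ext (hfree _ (congrArg Subtype.val ha))
    · exact fun a => hβe a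
    · exact fun a => hu a
    · refine MulEquiv.ext fun a => Subtype.ext ?_
      show (x ^ i) (φ (a : E)) = φ ((x ^ i) (a : E))
      exact DFunLike.congr_fun (hxφ.pow_left i).eq (a : E)
    · exact MulEquiv.ext fun a => Subtype.ext (by rw [Alperin.restrict_pow, ← pow_mul, hxi]; rfl)
    · exact fun j h0 hj a ha => Subtype.ext (hzfree j h0 hj _ a.2
        (by rw [← Alperin.restrict_pow (x ^ i) L hxL]; exact congrArg Subtype.val ha))
  -- the order of `x`
  obtain ⟨n, -, hn⟩ := (Nat.dvd_prime_pow hℓ).mp (orderOf_dvd_of_pow_eq_one hxP)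
  have hκx : ∀ (i : ℕ) a b, h.κ ((x ^ i) a) ((x ^ i) b) = h.κ a b := κ_pow_map h hTe hT
  by_cases hx1 : x = 1
  · exact Or.inl hx1
  right
  obtain ⟨n', rfl⟩ : ∃ n', n = n' + 1 := ⟨n - 1, by
    rcases n with _ | n
    · exact absurd (orderOf_eq_one_iff.mp (by rw [hn, pow_zero])) hx1
    · rfl⟩
  have hxn : x ^ ℓ ^ (n' + 1) = 1 := hn ▸ pow_orderOf_eq_one x
  set z := x ^ ℓ ^ n' with hz
  have hz1 : z ≠ 1 := pow_ne_one_of_lt_orderOf (pow_ne_zero _ hℓ.ne_zero)
    (hn ▸ Nat.pow_lt_pow_right hℓ.one_lt (Nat.lt_succ_self n'))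
  have hzℓ : z ^ ℓ = 1 := by rw [hz, ← pow_mul, ← pow_succ, hxn]
  by_cases hℓ2 : ℓ = 2
  swap
  · exfalso
    refine hsemi (ℓ ^ n') 1 z (by rw [pow_one, ← pow_succ, hxn]) ?_ (hxφ.pow_left _) hz1
      (by rwa [pow_one]) (hκx _) (Commute.refl _) ?_
    · have := hℓ.two_le
      rw [pow_one]; omega
    · intro j h0 hj a ha hfix
      rw [pow_one] at hj
      haveI : Fact ℓ.Prime := ⟨hℓ⟩
      exact fix_inf_moved hzℓ hℓE ha (fixed_of_pow_fixed hzℓ
        (fun hd => absurd (Nat.le_of_dvd h0 hd) (by omega)) hfix)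
  refine ⟨hℓ2, ?_⟩
  subst hℓ2
  rcases n' with _ | n''
  swap
  · exfalso
    refine hsemi (2 ^ n'') 2 z (by rw [← pow_add, hxn]) (by norm_num) (hxφ.pow_left _) hz1
      (by rw [sq, pow_mul, hzℓ, one_pow]) (hκx _) (Commute.pow_pow_self _ _ _) ?_
    intro j h0 hj a ha hfix
    refine fix_inf_moved hzℓ hℓE ha ?_
    have hz2 : z = (x ^ 2 ^ n'') ^ 2 := by rw [hz, ← pow_mul, ← pow_succ]
    rcases (show j = 1 ∨ j = 2 ∨ j = 3 by norm_num at hj; omega) with rfl | rfl | rfl
    · rw [pow_one] at hfix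
      rw [hz2, sq, MulAut.mul_apply, hfix, hfix]
    · rw [hz2]; exact hfix
    · have h4 : (x ^ 2 ^ n'') ^ 4 = 1 := by
        rw [show (4 : ℕ) = 2 * 2 from rfl, pow_mul, ← hz2, hzℓ]
      have h1 : (x ^ 2 ^ n'') a = a := by
        conv_lhs => rw [← hfix]
        rw [← MulAut.mul_apply, ← pow_succ', h4, MulAut.one_apply]
      rw [hz2, sq, MulAut.mul_apply, h1, h1]
  -- involutions
  rw [zero_add, pow_one] at hxn
  have hx2 : ∀ a, x (x a) = a := fun a => by rw [← MulAut.mul_apply, ← sq, hxn, MulAut.one_apply]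
  by_contra hinv
  push Not at hinv
  obtain ⟨a₁, ha₁⟩ := hinv
  let F : Subgroup E := MonoidHom.eqLocus x.toMonoidHom (MonoidHom.id E)
  have hFmem : ∀ a, a ∈ F ↔ x a = a := fun a => Iff.rfl
  have hf₁ : a₁ * x a₁ ∈ F := by rw [hFmem, map_mul, hx2, mul_comm]
  have hFφ : ∀ a, a ∈ F ↔ φ a ∈ F := fun a => by
    rw [hFmem, hFmem, ← MulAut.mul_apply, hxφ.eq, MulAut.mul_apply, φ.injective.eq_iff]
  have hFnd : ∀ a ∈ F, a ≠ 1 → ∃ b ∈ F, h.κ a b ≠ 1 := by
    intro a ha ha1
    by_contra hno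
    push Not at hno
    obtain ⟨b, hb⟩ := h.exists_κ_ne_one ha1
    obtain ⟨f, d, hf, hd, rfl⟩ := exists_decomp hxn hℓE b
    refine hb ?_
    rw [κ_swap h a (f * d), κ_mul_right h, hno f hf,
      κ_moved h (κ_map h hTe hT) ha hd, one_mul, inv_one]
  have hTF : ∀ a ∈ F, T * e a = e a * T := by
    have hmul : ∀ a ∈ F, ∀ b ∈ F, t (a * b) = t a * t b := fun a ha b hb => by
      have h1 : T * (e a * e b) = (t a * t b) • (e a * e b * T) := by
        rw [← mul_assoc, hTe, (hFmem a).mp ha, smul_mul_assoc, mul_assoc, hTe, (hFmem b).mp hb,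
          mul_smul_comm, smul_smul, mul_assoc]
      rw [h.mul, mul_smul_comm, hTe, (hFmem _).mp (mul_mem ha hb), smul_mul_assoc, smul_smul,
        smul_smul, mul_comm (c a b)] at h1
      exact mul_right_cancel₀ (h.c_ne a b)
        (smul_left_injective K (fun h0 => h.ne_zero _ (hT.mul_left_eq_zero.mp h0)) h1)
    have hφt : ∀ a ∈ F, t (φ a) = t a := fun a ha => by
      have h1 : T * (β * e a) = β * (T * e a) := by rw [← mul_assoc, hTβ.eq, mul_assoc]
      rw [hβe, hTe, (hFmem a).mp ha, mul_smul_comm, mul_smul_comm, ← mul_assoc, hTe,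
        (hFmem _).mp ((hFφ a).mp ha), ← mul_assoc β, hβe,
        smul_mul_assoc, smul_mul_assoc, mul_assoc (e (φ a)) T β, hTβ.eq, ← mul_assoc (e (φ a)),
        smul_smul, smul_smul, mul_comm (s a)] at h1
      exact mul_right_cancel₀ (s_ne h hβe hβ a) (smul_left_injective K (fun h0 => h.ne_zero (φ a)
        (hβ.mul_left_eq_zero.mp (hT.mul_left_eq_zero.mp h0))) h1)
    intro a ha
    let g : F → F := fun b => ⟨φ b * (b : E)⁻¹, mul_mem ((hFφ b).mp b.2) (inv_mem b.2)⟩
    have hg : Function.Surjective g := Finite.surjective_of_injective fun b b' hbb => by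
      have h2 : φ b * (b : E)⁻¹ = φ b' * (b' : E)⁻¹ := congrArg Subtype.val hbb
      refine Subtype.ext (mul_inv_eq_one.mp (hfree _ ?_))
      rw [map_mul, map_inv, mul_inv_eq_iff_eq_mul.mp h2]
      simp [mul_comm, mul_left_comm, mul_assoc]
    obtain ⟨b, hb⟩ := hg ⟨a, ha⟩
    have hb' : φ b * (b : E)⁻¹ = a := congrArg Subtype.val hb
    have h2 : t a * t b = t b := by rw [← hmul a ha b b.2, ← hb', inv_mul_cancel_right, hφt b b.2]
    rw [hTe, (hFmem a).mp ha, (mul_left_eq_self₀.mp h2).resolve_right (s_ne h hTe hT b), one_smul]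
  -- the fixed vectors of `T`
  let W := LinearMap.ker (T - 1)
  have hWmem : ∀ v, v ∈ W ↔ T v = v := fun v => by simp [W, sub_eq_zero]
  have hWe : ∀ a ∈ F, ∀ v ∈ W, e a v ∈ W := fun a ha v hv => by
    rw [hWmem] at hv ⊢
    rw [← Module.End.mul_apply, hTF a ha, Module.End.mul_apply, hv]
  have hWβ : ∀ v ∈ W, β v ∈ W := fun v hv => by
    rw [hWmem] at hv ⊢
    rw [← Module.End.mul_apply, hTβ.eq, Module.End.mul_apply, hv]
  have hT1 : T ≠ 1 := fun h1 => hx1 (MulEquiv.ext fun a => κhom_injective h (MonoidHom.ext fun b =>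
    Units.ext (by
      rw [κhom_apply, κhom_apply, MulAut.one_apply]
      have he : e a = t a • e (x a) := by simpa [h1] using hTe a
      have h2 := h.comm a b
      rw [he, smul_mul_assoc, h.comm (x a) b, mul_smul_comm, smul_smul, smul_smul] at h2
      have hne : e b * e (x a) ≠ 0 := by
        rw [← h.u_val b, ← h.u_val (x a), ← Units.val_mul]
        exact Units.ne_zero _
      have h3 := smul_left_injective K hne h2
      rw [mul_comm] at h3
      exact (mul_right_cancel₀ (s_ne h hTe hT a) h3))))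
  haveI : Nontrivial (U ⧸ W) := Submodule.Quotient.nontrivial_iff.mpr fun htop =>
    hT1 (LinearMap.ext fun v => (hWmem v).mp (htop ▸ Submodule.mem_top))
  let eQ : F → Module.End K (U ⧸ W) := fun a => W.mapQ W (e a) (hWe a a.2)
  have hQ : Twisted eQ (fun a b : F => c a b) := by
    refine ⟨fun a b => h.c_ne a b, fun a b => LinearMap.ext fun v => ?_, LinearMap.ext fun v => ?_, ?_⟩
    · induction v using Submodule.Quotient.induction_on with
      | H v =>
        have h1 := congrArg (Submodule.Quotient.mk (p := W)) (LinearMap.congr_fun (h.mul (a : E) b) v)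
        simpa [eQ, Submodule.mapQ_apply] using h1
    · induction v using Submodule.Quotient.induction_on with
      | H v => simp [eQ, Submodule.mapQ_apply, h.one]
    · intro a ha
      obtain ⟨b, hb, hab⟩ := hFnd a a.2 (fun h0 => ha (Subtype.ext h0))
      refine ⟨⟨b, hb⟩, fun heq => hab ?_⟩
      obtain ⟨v, hv⟩ := exists_ne (0 : U ⧸ W)
      obtain ⟨v, rfl⟩ := Submodule.Quotient.mk_surjective W v
      have hvW : v ∉ W := fun hm => hv ((Submodule.Quotient.mk_eq_zero W).mpr hm)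
      have hw : e b (e (a : E) v) ∉ W := by
        intro hm
        refine hvW ((hWmem v).mpr ?_)
        have h1 := (hWmem _).mp hm
        rw [← Module.End.mul_apply, hTF b hb, Module.End.mul_apply, ← Module.End.mul_apply T,
          hTF a a.2, Module.End.mul_apply] at h1
        by_contra hne
        exact e_ne_apply h b (e_ne_apply h (a : E) (sub_ne_zero.mpr hne))
          (by rw [map_sub, map_sub, h1, sub_self])
      have h1 := LinearMap.congr_fun heq (Submodule.Quotient.mk v)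
      have h2 := LinearMap.congr_fun (h.comm (a : E) b) v
      simp only [Module.End.mul_apply, LinearMap.smul_apply] at h2
      simp only [eQ, Module.End.mul_apply, Submodule.mapQ_apply, h2, Submodule.Quotient.mk_smul] at h1
      refine smul_left_injective K (M := U ⧸ W)
        (fun h0 => hw ((Submodule.Quotient.mk_eq_zero W).mp h0)) ?_
      exact h1.trans (one_smul K _).symm
  have hβQ : ∀ i : ℕ, ∀ v, ((W.mapQ W β hWβ) ^ i) (Submodule.Quotient.mk v) =
      Submodule.Quotient.mk ((β ^ i) v) := by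
    intro i
    induction i with
    | zero => exact fun v => rfl
    | succ i ih => intro v; rw [pow_succ', Module.End.mul_apply, ih, pow_succ']; rfl
  have hFcard : Nat.card F ∣ Nat.card E := F.card_subgroup_dvd_card
  obtain ⟨hF, hr2⟩ := card_of_no_fixed hQ (fun h0 => hE (by
      obtain ⟨d, hd⟩ := hFcard
      rw [hd, Nat.cast_mul, h0, zero_mul]))
    ⟨⟨a₁ * x a₁, hf₁⟩, fun h0 => ha₁ (eq_inv_of_mul_eq_one_right (congrArg Subtype.val h0))⟩ hrK
    (φ := Alperin.restrict φ F hFφ)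
    (MulEquiv.ext fun a => Subtype.ext (by rw [Alperin.restrict_pow, hφr]; rfl))
    (fun a ha => Subtype.ext (hfree _ (congrArg Subtype.val ha)))
    (β := W.mapQ W β hWβ) (s := fun a => s a)
    (fun a => LinearMap.ext fun v => by
      induction v using Submodule.Quotient.induction_on with
      | H v =>
        have h1 := congrArg (Submodule.Quotient.mk (p := W)) (LinearMap.congr_fun (hβe (a : E)) v)
        simpa [eQ, Submodule.mapQ_apply, Alperin.restrict_apply] using h1)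
    (LinearMap.ext fun v => by
      induction v using Submodule.Quotient.induction_on with
      | H v => rw [hβQ, hβr]; rfl)
    (fun v hv => by
      induction v using Submodule.Quotient.induction_on with
      | H v =>
        have hall : ∀ i : ℕ, Submodule.Quotient.mk (p := W) ((β ^ i) v) = Submodule.Quotient.mk v := by
          intro i
          rw [← hβQ]
          induction i with
          | zero => rfl
          | succ i ih => rw [pow_succ', Module.End.mul_apply, ih, hv]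
        have h1 : Submodule.Quotient.mk (p := W) (orbitSum β r v) =
            (r : K) • Submodule.Quotient.mk v := by
          rw [orbitSum_apply, ← Submodule.mkQ_apply, map_sum]
          simp only [Submodule.mkQ_apply, hall, Finset.sum_const, Finset.card_range,
            Nat.cast_smul_eq_nsmul]
        rw [(Submodule.Quotient.mk_eq_zero W).mpr
          ((hWmem _).mpr (hfixT _ (orbitSum_fixed hβr v)))] at h1
        exact (smul_eq_zero.mp h1.symm).resolve_left hrK)
  -- parity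
  obtain ⟨m, hm⟩ := hr.out.odd_of_ne_two hr2
  have h2 : 2 ∣ Nat.card F := by
    rw [hF, hm, Nat.add_sub_cancel, sq]
    exact Dvd.intro _ (by ring : 2 * (m * (2 * m)) = _)
  exact absurd (Nat.eq_one_of_dvd_coprimes hℓE dvd_rfl (h2.trans hFcard)) (by norm_num)

/-- Killed displacements on non-exceptional labels. -/
theorem trivial_or_inversion (h : Twisted e c) (hE : (Nat.card E : K) ≠ 0) (hE1 : ∃ a : E, a ≠ 1)
    (hnx : Nat.card E ≠ (r - 1) ^ 2) (hrK : (r : K) ≠ 0) (hφr : φ ^ r = 1)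
    (hfree : ∀ a, φ a = a → a = 1)
    (hβe : ∀ a, β * e a = s a • (e (φ a) * β)) (hβr : β ^ r = 1)
    (hTe : ∀ a, T * e a = t a • (e (x a) * T)) (hTβ : Commute T β) (hxφ : Commute x φ)
    {ℓ N : ℕ} (hℓ : ℓ.Prime) (hxP : x ^ ℓ ^ N = 1) (hTP : T ^ ℓ ^ N = 1) (hℓr : ℓ ≠ r)
    (hℓE : ℓ.Coprime (Nat.card E)) (M : Set (Module.Dual K U))
    (hspan : ∀ v, (∀ f ∈ M, f v = 0) → v = 0) (hM : ∀ a, ∀ f ∈ M, f.comp (e a) ∈ M)
    (hkill : ∀ y, β y = y → Kills M β (T y - y)) :
    x = 1 ∨ (ℓ = 2 ∧ ∀ a, x a = a⁻¹) := by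
  haveI := Fintype.ofFinite E
  have hPr : (ℓ ^ N).Coprime r := ((Nat.coprime_primes hℓ hr.out).mpr hℓr).pow_left N
  set β' := β * T with hβ'def
  set φ' := φ * x with hφ'def
  have hβ'e : ∀ a, β' * e a = (t a * s (x a)) • (e (φ' a) * β') := fun a => by
    rw [hβ'def, mul_assoc, hTe, mul_smul_comm, ← mul_assoc, hβe, smul_mul_assoc, smul_smul, mul_assoc,
      hφ'def, MulAut.mul_apply]
  have hs' : ∀ a, t a * s (x a) ≠ 0 := fun a => mul_ne_zero
    (s_ne h hTe (IsUnit.of_pow_eq_one hTP (pow_ne_zero _ hℓ.ne_zero)) a)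
    (s_ne h hβe (IsUnit.of_pow_eq_one hβr hr.out.ne_zero) (x a))
  have hfree' : ∀ a, φ' a = a → a = 1 := fun a ha => by
    have hall : ∀ i : ℕ, (φ' ^ i) a = a := by
      intro i
      induction i with
      | zero => rfl
      | succ i ih => rw [pow_succ', MulAut.mul_apply, ih, ha]
    have h1 := hall (ℓ ^ N)
    rw [hφ'def, hxφ.symm.mul_pow, hxP, mul_one] at h1
    exact hfree a (fixed_of_pow_fixed hφr (hr.out.coprime_iff_not_dvd.mp hPr.symm) h1)
  obtain ⟨l, hl⟩ := Module.End.exists_eigenvalue (h.avg β')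
  obtain ⟨S, hS0, -, hSe, hSβ', hSirr⟩ := h.exists_irreducible hβ'e hs' hE hfree' hl
  have hSpow : ∀ (i : ℕ), ∀ v ∈ S, (β' ^ i) v ∈ S := by
    intro i
    induction i with
    | zero => exact fun v hv => hv
    | succ i ih => intro v hv; rw [pow_succ', Module.End.mul_apply]; exact hSβ' _ (ih v hv)
  have hpow : ∀ j : ℕ, β' ^ j = β ^ j * T ^ j := fun j => hTβ.symm.mul_pow j
  have hSβ : ∀ v ∈ S, β v ∈ S := by
    obtain ⟨j, h1, h2⟩ := Nat.chineseRemainder hPr.symm 1 0
    obtain ⟨i, hi⟩ := Nat.modEq_zero_iff_dvd.mp h2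
    have hj : β' ^ j = β := by
      rw [hpow, pow_eq_pow_mod j hβr, h1, Nat.mod_eq_of_lt hr.out.one_lt, pow_one, hi, pow_mul, hTP,
        one_pow, mul_one]
    exact fun v hv => hj ▸ hSpow j v hv
  have hST : ∀ v ∈ S, T v ∈ S := by
    obtain ⟨j, h1, h2⟩ := Nat.chineseRemainder hPr.symm 0 1
    obtain ⟨i, hi⟩ := Nat.modEq_zero_iff_dvd.mp h1
    have hj : β' ^ j = T := by
      rw [hpow, pow_eq_pow_mod (M := Module.End K U) j hTP, h2, ← pow_eq_pow_mod _ hTP, pow_one, hi,
        pow_mul, hβr, one_pow, one_mul]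
    exact fun v hv => hj ▸ hSpow j v hv
  haveI : Nontrivial S := Submodule.nontrivial_iff_ne_bot.mpr hS0
  have hres : ∀ (X : Module.End K U) (hX : ∀ v ∈ S, X v ∈ S) (k : ℕ), X ^ k = 1 →
      X.restrict hX ^ k = 1 := fun X hX k hk => LinearMap.ext fun v => Subtype.ext (by
    rw [Module.End.pow_restrict]
    show (X ^ k) (v : U) = _
    rw [hk]; rfl)
  refine trivial_or_inversion_irred (h.restrict hSe) ?_ hE hE1 hnx hrK hφr hfree
    (β := β.restrict hSβ) (s := s) ?_ (hres β hSβ r hβr) (T := T.restrict hST) (t := t) ?_ ?_ hxφ hℓ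
    hxP (hres T hST _ hTP) hℓr hℓE ((fun f : Module.Dual K U => f.comp S.subtype) '' M) ?_ ?_ ?_
  · intro T' hT'
    by_cases hbot : T' = ⊥
    · exact Or.inl hbot
    refine Or.inr (Submodule.map_injective_of_injective S.injective_subtype ?_)
    rw [Submodule.map_top, Submodule.range_subtype]
    refine hSirr _ (Submodule.map_subtype_le S T')
      (fun h0 => hbot (Submodule.map_injective_of_injective S.injective_subtype
        (h0.trans (Submodule.map_bot S.subtype).symm))) ?_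
    rintro a _ ⟨v, hv, rfl⟩
    exact ⟨_, hT' a v hv, rfl⟩
  · exact fun a => LinearMap.ext fun v => Subtype.ext (LinearMap.congr_fun (hβe a) (v : U))
  · exact fun a => LinearMap.ext fun v => Subtype.ext (LinearMap.congr_fun (hTe a) (v : U))
  · exact LinearMap.ext fun v => Subtype.ext (LinearMap.congr_fun hTβ.eq (v : U))
  · intro v hv
    exact Subtype.ext (hspan _ fun f hf => hv _ ⟨f, hf, rfl⟩)
  · rintro a _ ⟨f, hf, rfl⟩
    exact ⟨f.comp (e a), hM a f hf, rfl⟩
  · rintro y hy _ ⟨f, hf, rfl⟩ hne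
    exact hkill _ (congrArg Subtype.val hy) f hf fun he => hne
      (LinearMap.ext fun v => LinearMap.congr_fun he (v : U))

end CfsgLib.PGroups.Turull
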