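import Mathlib
import Cfsg.Agent.Lib.PGroups.Turull.Junction
import Cfsg.Agent.Lib.PGroups.Alperin.BoundedOrder

/-!
# One stage of a tower acting on a space

`Stage`: a group `Γ` of operators on `V` with an element `s` of order dividing `r`, a `q`-subgroup `P`
with a central subgroup `M` containing commutators and `q`-th powers, and a `p`-subgroup `O`
centralising `M` with `⁅P, O⁆ = P`.

* `pairing`, `radical`, `Lab`: the pairing of a weight of `M` and its labels
* `exists_twisted`: the twisted group algebra on a space with scalar radical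
-/

set_option autoImplicit false
set_option linter.all false
set_option maxHeartbeats 1000000

namespace CfsgLib.PGroups.Turull

open CfsgLib.PGroups.ShultGross
open scoped commutatorElement

variable {K : Type*} [Field K] {V : Type*} [AddCommGroup V] [Module K V] {Γ : Type*} [Group Γ]

/-- A stage of a tower. -/
structure Stage (η : Γ →* Module.End K V) (s : Γ) (r p q : ℕ) (P O M H : Subgroup Γ) : Prop where
  inj : Function.Injective η
  s_pow : s ^ r = 1
  isPGroup : IsPGroup q P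
  isPGroup_top : IsPGroup p O
  p_ne_q : p ≠ q
  p_ne_r : p ≠ r
  q_ne_r : q ≠ r
  q_ne : (q : K) ≠ 0
  r_ne : (r : K) ≠ 0
  s_norm : s ∈ Subgroup.normalizer (P : Set Γ)
  s_norm_M : s ∈ Subgroup.normalizer (M : Set Γ)
  s_norm_top : s ∈ Subgroup.normalizer (O : Set Γ)
  top_norm : O ≤ Subgroup.normalizer (P : Set Γ)
  le : M ≤ P
  pow_mem : ∀ y ∈ P, y ^ q ∈ M
  comm_mem : ∀ y ∈ P, ∀ z ∈ P, ⁅y, z⁆ ∈ M
  central : ∀ a ∈ M, ∀ y ∈ P, a * y = y * a
  central_top : ∀ a ∈ M, ∀ o ∈ O, a * o = o * a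
  gen : ⁅P, O⁆ = P
  top_le : O ≤ H
  irr : ∀ X : Subgroup Γ, M ≤ X → X ≤ P → s ∈ Subgroup.normalizer (X : Set Γ) →
    H ≤ Subgroup.normalizer (X : Set Γ) → X = M ∨ X = P
  H_norm : H ≤ Subgroup.normalizer (P : Set Γ)
  H_norm_M : H ≤ Subgroup.normalizer (M : Set Γ)
  H_norm_top : H ≤ Subgroup.normalizer (O : Set Γ)

/-- Conjugation on a subgroup. -/
def cj {Q : Subgroup Γ} {g : Γ} (hg : g ∈ Subgroup.normalizer (Q : Set Γ)) : MulAut Q :=
  Alperin.restrict (MulAut.conj g) Q fun y => by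
    rw [MulAut.conj_apply]; exact Subgroup.mem_normalizer_iff.mp hg y

theorem cj_apply {Q : Subgroup Γ} {g : Γ} (hg : g ∈ Subgroup.normalizer (Q : Set Γ)) (y : Q) :
    (cj hg y : Γ) = g * y * g⁻¹ := rfl

theorem cj_pow {Q : Subgroup Γ} {g : Γ} (hg : g ∈ Subgroup.normalizer (Q : Set Γ)) (i : ℕ) (y : Q) :
    ((cj hg ^ i) y : Γ) = g ^ i * y * (g ^ i)⁻¹ := by
  rw [cj, Alperin.restrict_pow, ← map_pow, MulAut.conj_apply]

theorem eta_conj {η : Γ →* Module.End K V} (g y : Γ) : η g * η y = η (g * y * g⁻¹) * η g := by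
  rw [← map_mul, ← map_mul, inv_mul_cancel_right]

theorem eta_apply_inv {η : Γ →* Module.End K V} (y : Γ) (v : V) : η y⁻¹ (η y v) = v := by
  rw [← Module.End.mul_apply, ← map_mul, inv_mul_cancel, map_one, Module.End.one_apply]

section Stage

variable {η : Γ →* Module.End K V} {s : Γ} {r p q : ℕ} {P O M H : Subgroup Γ}
  (h : Stage η s r p q P O M H)

/-- The commutative group structure of `M`. -/
@[reducible] def Stage.commGroup : CommGroup M :=
  { (inferInstance : Group M) with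
    mul_comm := fun a b => Subtype.ext (h.central a a.2 b (h.le b.2)) }

/-- The commutator of two elements as an element of `M`. -/
def Stage.comm (y z : P) : M := ⟨⁅(y : Γ), (z : Γ)⁆, h.comm_mem y y.2 z z.2⟩

theorem Stage.comm_coe (y z : P) : (h.comm y z : Γ) = ⁅(y : Γ), (z : Γ)⁆ := rfl

theorem Stage.comm_mul_left (y y' z : P) : h.comm (y * y') z = h.comm y' z * h.comm y z := by
  apply Subtype.ext
  show ⁅(y : Γ) * y', (z : Γ)⁆ = ⁅(y' : Γ), (z : Γ)⁆ * ⁅(y : Γ), (z : Γ)⁆
  rw [show ⁅(y : Γ) * y', (z : Γ)⁆ = y * ⁅(y' : Γ), (z : Γ)⁆ * (y : Γ)⁻¹ * ⁅(y : Γ), (z : Γ)⁆ by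
    simp [commutatorElement_def, mul_assoc]]
  rw [← h.central _ (h.comm_mem y' y'.2 z z.2) y y.2, mul_inv_cancel_right]

theorem Stage.comm_swap (y z : P) : h.comm y z = (h.comm z y)⁻¹ :=
  Subtype.ext (commutatorElement_inv _ _).symm

/-- The pairing of a weight of `M`. -/
def Stage.pairing (χ : M →* Kˣ) (y z : P) : Kˣ := χ (h.comm y z)

theorem Stage.pairing_swap (χ : M →* Kˣ) (y z : P) : h.pairing χ y z = (h.pairing χ z y)⁻¹ := by
  rw [Stage.pairing, Stage.pairing, h.comm_swap, map_inv]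

theorem Stage.pairing_mul_left (χ : M →* Kˣ) (y y' z : P) :
    h.pairing χ (y * y') z = h.pairing χ y z * h.pairing χ y' z := by
  rw [Stage.pairing, h.comm_mul_left, map_mul, mul_comm]
  rfl

theorem Stage.pairing_mul_right (χ : M →* Kˣ) (y z z' : P) :
    h.pairing χ y (z * z') = h.pairing χ y z * h.pairing χ y z' := by
  rw [h.pairing_swap, h.pairing_mul_left, mul_inv, ← h.pairing_swap, ← h.pairing_swap]

/-- The radical of the pairing. -/
def Stage.radical (χ : M →* Kˣ) : Subgroup P where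
  carrier := {y | ∀ z, h.pairing χ y z = 1}
  one_mem' := fun z => by
    rw [Stage.pairing, show h.comm 1 z = 1 from Subtype.ext (commutatorElement_one_left _), map_one]
  mul_mem' := fun {a b} ha hb z => by rw [h.pairing_mul_left, ha z, hb z, one_mul]
  inv_mem' := fun {a} ha z => by
    have e := h.pairing_mul_left χ a⁻¹ a z
    rw [inv_mul_cancel, ha z, mul_one] at e
    rw [← e, Stage.pairing, show h.comm 1 z = 1 from Subtype.ext (commutatorElement_one_left _), map_one]

theorem Stage.mem_radical {χ : M →* Kˣ} {y : P} : y ∈ h.radical χ ↔ ∀ z, h.pairing χ y z = 1 := Iff.rfl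

theorem Stage.mem_radical_of_mem (χ : M →* Kˣ) {y : P} (hy : (y : Γ) ∈ M) : y ∈ h.radical χ := fun z => by
  rw [Stage.pairing, show h.comm y z = 1 from Subtype.ext
    (commutatorElement_eq_one_iff_mul_comm.mpr (h.central _ hy z z.2)), map_one]

instance Stage.radical_normal (χ : M →* Kˣ) : (h.radical χ).Normal := by
  refine ⟨fun n hn g z => ?_⟩
  rw [h.pairing_mul_left, h.pairing_mul_left, hn z, mul_one, ← h.pairing_mul_left, mul_inv_cancel]
  rw [Stage.pairing, show h.comm 1 z = 1 from Subtype.ext (commutatorElement_one_left _), map_one]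

/-- The labels. -/
abbrev Stage.Lab (χ : M →* Kˣ) : Type _ := P ⧸ h.radical χ

instance Stage.labCommGroup (χ : M →* Kˣ) : CommGroup (h.Lab χ) :=
  { (inferInstance : Group (P ⧸ h.radical χ)) with
    mul_comm := fun a b => by
      induction a using QuotientGroup.induction_on with
      | H a =>
      induction b using QuotientGroup.induction_on with
      | H b =>
      show ((a * b : P) : P ⧸ h.radical χ) = ((b * a : P) : P ⧸ h.radical χ)
      rw [QuotientGroup.eq]
      refine h.mem_radical_of_mem χ ?_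
      simpa [commutatorElement_def, mul_assoc] using h.comm_mem _ (inv_mem b.2) _ (inv_mem a.2) }

theorem Stage.lab_pow (χ : M →* Kˣ) (a : h.Lab χ) : a ^ q = 1 := by
  induction a using QuotientGroup.induction_on with
  | H y =>
    show ((y ^ q : P) : P ⧸ h.radical χ) = 1
    rw [QuotientGroup.eq_one_iff]
    exact h.mem_radical_of_mem χ (h.pow_mem y y.2)

theorem Stage.lab_isPGroup (χ : M →* Kˣ) : IsPGroup q (h.Lab χ) := h.isPGroup.to_quotient _

variable {g : Γ} (hgP : g ∈ Subgroup.normalizer (P : Set Γ)) (hgM : g ∈ Subgroup.normalizer (M : Set Γ))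
  {χ : M →* Kˣ} (hgχ : χ.comp (cj hgM).toMonoidHom = χ)

include hgχ in
theorem Stage.pairing_conj (y z : P) : h.pairing χ (cj hgP y) (cj hgP z) = h.pairing χ y z := by
  conv_rhs => rw [Stage.pairing, ← DFunLike.congr_fun hgχ (h.comm y z)]
  show χ _ = χ _
  congr 1
  exact Subtype.ext (map_commutatorElement (MulAut.conj g) (y : Γ) (z : Γ)).symm

include hgχ in
theorem Stage.radical_conj (y : P) : y ∈ h.radical χ ↔ cj hgP y ∈ h.radical χ := by
  refine ⟨fun hy z => ?_, fun hy z => ?_⟩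
  · obtain ⟨z, rfl⟩ := (cj hgP).surjective z
    rw [h.pairing_conj hgP hgM hgχ]; exact hy z
  · rw [← h.pairing_conj hgP hgM hgχ]; exact hy _

/-- The operation of a normalising element on the labels. -/
noncomputable def Stage.labAut : MulAut (h.Lab χ) :=
  Alperin.onQuot (cj hgP) (h.radical χ) (h.radical_conj hgP hgM hgχ)

theorem Stage.labAut_mk (y : P) :
    h.labAut hgP hgM hgχ (y : P ⧸ h.radical χ) = ((cj hgP y : P) : P ⧸ h.radical χ) := rfl

theorem Stage.labAut_pow {m : ℕ} (hm : g ^ m = 1) : h.labAut hgP hgM hgχ ^ m = 1 := by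
  refine MulEquiv.ext fun a => ?_
  induction a using QuotientGroup.induction_on with
  | H y =>
    rw [Stage.labAut, Alperin.onQuot_pow]
    show _ = ((y : P) : P ⧸ h.radical χ)
    congr 1
    exact Subtype.ext (by rw [cj_pow, hm, one_mul, inv_one, mul_one])

omit hgP hgM hgχ

/-- An isometry commutes with `g` on the labels when the elements commute. -/
theorem Stage.labAut_commute {g g' : Γ} (hgP : g ∈ Subgroup.normalizer (P : Set Γ))
    (hgM : g ∈ Subgroup.normalizer (M : Set Γ)) (hg'P : g' ∈ Subgroup.normalizer (P : Set Γ))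
    (hg'M : g' ∈ Subgroup.normalizer (M : Set Γ)) {χ : M →* Kˣ}
    (hgχ : χ.comp (cj hgM).toMonoidHom = χ) (hg'χ : χ.comp (cj hg'M).toMonoidHom = χ)
    (hcomm : g * g' = g' * g) :
    Commute (h.labAut hgP hgM hgχ) (h.labAut hg'P hg'M hg'χ) := by
  refine MulEquiv.ext fun a => ?_
  induction a using QuotientGroup.induction_on with
  | H y =>
    rw [MulAut.mul_apply, MulAut.mul_apply, h.labAut_mk, h.labAut_mk, h.labAut_mk, h.labAut_mk]
    congr 1
    exact Subtype.ext (by
      rw [cj_apply, cj_apply, cj_apply, cj_apply]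
      calc g * (g' * (y : Γ) * g'⁻¹) * g⁻¹ = (g * g') * y * (g * g')⁻¹ := by group
        _ = (g' * g) * y * (g' * g)⁻¹ := by rw [hcomm]
        _ = g' * (g * y * g⁻¹) * g'⁻¹ := by group)

/-- A vector space with scalar radical. -/
structure Stage.Scalar (χ : M →* Kˣ) (W : Submodule K V) (ψ : h.radical χ →* Kˣ) : Prop where
  invP : ∀ y ∈ P, ∀ v ∈ W, η y v ∈ W
  scal : ∀ (z : h.radical χ), ∀ v ∈ W, η ((z : P) : Γ) v = (ψ z : K) • v
  ne : W ≠ ⊥
  extends_χ : ∀ (a : M) (z : h.radical χ), ((z : P) : Γ) = a → ψ z = χ a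

/-- A lift of a label. -/
noncomputable def Stage.lift (χ : M →* Kˣ) (a : h.Lab χ) : P :=
  letI := Classical.dec (a = 1)
  if a = 1 then 1 else Quotient.out a

theorem Stage.lift_spec (χ : M →* Kˣ) (a : h.Lab χ) : (h.lift χ a : P ⧸ h.radical χ) = a := by
  classical
  unfold Stage.lift
  split_ifs with ha
  · rw [ha]; rfl
  · exact QuotientGroup.out_eq' a

theorem Stage.lift_one (χ : M →* Kˣ) : h.lift χ 1 = 1 := by
  classical
  simp [Stage.lift]

variable {χ : M →* Kˣ} {W : Submodule K V} {ψ : h.radical χ →* Kˣ} (hW : h.Scalar χ W ψ)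

/-- The operators of the labels. -/
noncomputable def Stage.op (a : h.Lab χ) : Module.End K W :=
  (η (h.lift χ a : Γ)).restrict (hW.invP _ (h.lift χ a).2)

theorem Stage.op_apply (a : h.Lab χ) (w : W) : (h.op hW a w : V) = η (h.lift χ a : Γ) w := rfl

theorem Stage.diff_mem (y : P) : (h.lift χ (y : P ⧸ h.radical χ))⁻¹ * y ∈ h.radical χ := by
  rw [← QuotientGroup.eq, h.lift_spec]

theorem Stage.eta_eq (y : P) (w : W) :
    η (y : Γ) w = (ψ ⟨_, h.diff_mem y⟩ : K) • (h.op hW (y : P ⧸ h.radical χ) w : V) := by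
  rw [h.op_apply, ← map_smul, ← hW.scal ⟨_, h.diff_mem y⟩ w w.2, ← Module.End.mul_apply, ← map_mul]
  simp

/-- The cocycle. -/
noncomputable def Stage.cocycle (a b : h.Lab χ) : K :=
  (ψ ⟨(h.lift χ (a * b))⁻¹ * (h.lift χ a * h.lift χ b), by
    rw [← QuotientGroup.eq, QuotientGroup.mk_mul, h.lift_spec, h.lift_spec, h.lift_spec]⟩ : K)

include hW in
theorem Stage.eta_swap (y z : P) (w : W) :
    η (y : Γ) (η (z : Γ) w) = (h.pairing χ y z : K) • η (z : Γ) (η (y : Γ) w) := by
  have hm : (⟨⁅(y : Γ), (z : Γ)⁆, h.le (h.comm_mem y y.2 z z.2)⟩ : P) ∈ h.radical χ :=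
    h.mem_radical_of_mem χ (h.comm_mem y y.2 z z.2)
  rw [show (h.pairing χ y z : K) = (ψ ⟨_, hm⟩ : K) by rw [hW.extends_χ (h.comm y z) ⟨_, hm⟩ rfl]; rfl,
    ← hW.scal ⟨_, hm⟩ _ (hW.invP _ z.2 _ (hW.invP _ y.2 _ w.2)), ← Module.End.mul_apply,
    ← Module.End.mul_apply, ← Module.End.mul_apply, ← map_mul, ← map_mul, ← map_mul]
  congr 2
  simp [commutatorElement_def, mul_assoc]

theorem Stage.twisted : Twisted (h.op hW) (h.cocycle (ψ := ψ)) := by
  refine ⟨fun a b => Units.ne_zero _, fun a b => LinearMap.ext fun w => Subtype.ext ?_, ?_, ?_⟩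
  · show η (h.lift χ a : Γ) (η (h.lift χ b : Γ) w) =
      h.cocycle (ψ := ψ) a b • η (h.lift χ (a * b) : Γ) w
    rw [Stage.cocycle, ← map_smul, ← hW.scal _ w w.2, ← Module.End.mul_apply, ← map_mul,
      ← Module.End.mul_apply, ← map_mul]
    simp
  · refine LinearMap.ext fun w => Subtype.ext ?_
    rw [h.op_apply, h.lift_one]
    simp
  · intro a ha
    obtain ⟨z, hz⟩ : ∃ z, h.pairing χ (h.lift χ a) z ≠ 1 := by
      by_contra hno
      push Not at hno
      exact ha (by rw [← h.lift_spec χ a, QuotientGroup.eq_one_iff]; exact hno)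
    refine ⟨(z : P ⧸ h.radical χ), fun heq => ?_⟩
    obtain ⟨w, hw, hw0⟩ := Submodule.exists_mem_ne_zero_of_ne_bot hW.ne
    set z' := h.lift χ (z : P ⧸ h.radical χ) with hz'
    have h1 : η (h.lift χ a : Γ) (η (z' : Γ) w) = η (z' : Γ) (η (h.lift χ a : Γ) w) :=
      congrArg Subtype.val (LinearMap.congr_fun heq (⟨w, hw⟩ : W))
    rw [h.eta_swap hW (h.lift χ a) z' ⟨w, hw⟩] at h1
    have hne : η (z' : Γ) (η (h.lift χ a : Γ) w) ≠ 0 := fun h0 => hw0 (by
      rw [← eta_apply_inv (η := η) (h.lift χ a : Γ) w,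
        ← eta_apply_inv (η := η) (z' : Γ) (η (h.lift χ a : Γ) w), h0, map_zero, map_zero])
    have h2 : h.pairing χ (h.lift χ a) z' = 1 := Units.ext (smul_left_injective K hne
      (h1.trans (one_smul K _).symm))
    refine hz ?_
    rw [show z = z' * (z'⁻¹ * z) by group, h.pairing_mul_right, h2, one_mul,
      h.pairing_swap, h.diff_mem z, inv_one]

theorem Stage.twisted_κ [IsAlgClosed K] [FiniteDimensional K V] [Finite P] (y z : P) :
    (h.twisted hW).κ (y : P ⧸ h.radical χ) (z : P ⧸ h.radical χ) = h.pairing χ y z := by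
  haveI : Nontrivial W := Submodule.nontrivial_iff_ne_bot.mpr hW.ne
  set a : h.Lab χ := (y : P ⧸ h.radical χ) with ha
  set b : h.Lab χ := (z : P ⧸ h.radical χ) with hb
  have h0 : h.pairing χ y z = h.pairing χ (h.lift χ a) (h.lift χ b) := by
    rw [show y = h.lift χ a * ((h.lift χ a)⁻¹ * y) by group, h.pairing_mul_left, h.diff_mem y, mul_one]
    conv_lhs => rw [show z = h.lift χ b * ((h.lift χ b)⁻¹ * z) by group, h.pairing_mul_right,
      h.pairing_swap χ _ ((h.lift χ b)⁻¹ * z), h.diff_mem z, inv_one, mul_one]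
  obtain ⟨w, hw0⟩ := exists_ne (0 : W)
  have h1 := LinearMap.congr_fun ((h.twisted hW).comm a b) w
  rw [Module.End.mul_apply, LinearMap.smul_apply, Module.End.mul_apply] at h1
  have hne : h.op hW b (h.op hW a w) ≠ 0 :=
    e_ne_apply (h.twisted hW) b (e_ne_apply (h.twisted hW) a hw0)
  refine smul_left_injective K hne (h1.symm.trans (Subtype.ext ?_))
  rw [h0]
  exact h.eta_swap hW (h.lift χ a) (h.lift χ b) w

section Conj

variable {g : Γ} (hgP : g ∈ Subgroup.normalizer (P : Set Γ)) (hgM : g ∈ Subgroup.normalizer (M : Set Γ))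
  (hgχ : χ.comp (cj hgM).toMonoidHom = χ) (hgW : ∀ w ∈ W, η g w ∈ W)

/-- The operator of a normalising element. -/
noncomputable def Stage.outer : Module.End K W := (η g).restrict hgW

/-- The scalar of a normalising element. -/
noncomputable def Stage.twist (a : h.Lab χ) : K :=
  (ψ ⟨(h.lift χ (h.labAut hgP hgM hgχ a))⁻¹ * cj hgP (h.lift χ a), by
    rw [← QuotientGroup.eq, h.lift_spec]
    conv_lhs => rw [← h.lift_spec χ a, h.labAut_mk]⟩ : K)

theorem Stage.outer_op (a : h.Lab χ) :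
    Stage.outer hgW * h.op hW a =
      h.twist (ψ := ψ) hgP hgM hgχ a • (h.op hW (h.labAut hgP hgM hgχ a) * Stage.outer hgW) := by
  refine LinearMap.ext fun w => Subtype.ext ?_
  show η g (η (h.lift χ a : Γ) w) =
    h.twist (ψ := ψ) hgP hgM hgχ a • η (h.lift χ (h.labAut hgP hgM hgχ a) : Γ) (η g w)
  rw [Stage.twist, ← map_smul, ← hW.scal _ _ (hgW w w.2), ← Module.End.mul_apply, ← map_mul,
    ← Module.End.mul_apply, ← map_mul, ← Module.End.mul_apply, ← map_mul]
  congr 2
  simp [cj_apply, mul_assoc]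

end Conj

end Stage

end CfsgLib.PGroups.Turull
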