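import Mathlib
import Cfsg.Agent.Lib.PGroups.Turull.StageBasic
import Cfsg.Agent.Lib.PGroups.Turull.Junction2
import Cfsg.Agent.Lib.PGroups.Turull.Exceptional2

/-!
# Labels of a stage

`Stage.Rel`: the functionals on `P / M` seen in the representation.

* `Stage.rel_sep`: they separate `P / M`
* `Stage.exc_of_no_fixed`: without fixed vectors the labels are exceptional
* `Stage.fixed_weight`, `Stage.moved_weight`, `Stage.moved_space`: killed operators
-/

set_option autoImplicit false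
set_option linter.all false
set_option maxHeartbeats 1000000

namespace CfsgLib.PGroups.Turull

open CfsgLib.PGroups.ShultGross
open scoped commutatorElement

variable {K : Type*} [Field K]

/-- A character of exponent `q` as a functional. -/
theorem exists_label [IsAlgClosed K] {q : ℕ} [hq : Fact q.Prime] (hqK : (q : K) ≠ 0) {G : Type*} [Group G]
    (f : G →* Kˣ) (hf : ∀ g, f g ^ q = 1) : ∃ ℓ : G →* Multiplicative (ZMod q), ℓ.ker = f.ker := by
  haveI : NeZero q := ⟨hq.out.ne_zero⟩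
  haveI : NeZero (q : K) := ⟨hqK⟩
  have hcard : Nat.card (rootsOfUnity q K) = q := HasEnoughRootsOfUnity.natCard_rootsOfUnity K q
  have hcyc : IsCyclic (rootsOfUnity q K) := inferInstance
  let e := zmodCyclicMulEquiv hcyc
  let f' : G →* rootsOfUnity q K := f.codRestrict (rootsOfUnity q K) fun g => hf g
  let cast : Multiplicative (ZMod (Nat.card (rootsOfUnity q K))) ≃* Multiplicative (ZMod q) :=
    AddEquiv.toMultiplicative (ZMod.ringEquivCongr hcard).toAddEquiv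
  refine ⟨((e.symm.trans cast).toMonoidHom).comp f', ?_⟩
  ext g
  simp only [MonoidHom.mem_ker, MonoidHom.comp_apply, MulEquiv.coe_toMonoidHom,
    EmbeddingLike.map_eq_one_iff]
  exact ⟨fun h => congrArg Subtype.val h, fun h => Subtype.ext h⟩

variable {V : Type*} [AddCommGroup V] [Module K V] {Γ : Type*} [Group Γ]

variable {η : Γ →* Module.End K V} {s : Γ} {r p q : ℕ} {P O M H : Subgroup Γ}
  (h : Stage η s r p q P O M H)

/-- The space of a weight of `M`. -/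
def Stage.Vsp (_h : Stage η s r p q P O M H) (χ : M →* Kˣ) : Submodule K V where
  carrier := {v | ∀ a : M, η (a : Γ) v = (χ a : K) • v}
  add_mem' := fun {u v} hu hv a => by rw [map_add, hu a, hv a, smul_add]
  zero_mem' := fun a => by rw [map_zero, smul_zero]
  smul_mem' := fun k v hv a => by rw [map_smul, hv a, smul_comm]

theorem Stage.mem_Vsp {χ : M →* Kˣ} {v : V} :
    v ∈ h.Vsp χ ↔ ∀ a : M, η (a : Γ) v = (χ a : K) • v := Iff.rfl

/-- The space of a weight of the radical. -/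
def Stage.Wsp (χ : M →* Kˣ) (ψ : h.radical χ →* Kˣ) : Submodule K V :=
  h.Vsp χ ⊓
  { carrier := {v | ∀ z : h.radical χ, η ((z : P) : Γ) v = (ψ z : K) • v}
    add_mem' := fun {u v} hu hv a => by rw [map_add, hu a, hv a, smul_add]
    zero_mem' := fun a => by rw [map_zero, smul_zero]
    smul_mem' := fun k v hv a => by rw [map_smul, hv a, smul_comm] }

theorem Stage.mem_Wsp {χ : M →* Kˣ} {ψ : h.radical χ →* Kˣ} {v : V} :
    v ∈ h.Wsp χ ψ ↔ v ∈ h.Vsp χ ∧ ∀ z : h.radical χ, η ((z : P) : Γ) v = (ψ z : K) • v := Iff.rfl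

theorem Stage.Vsp_inv {χ : M →* Kˣ} {y : Γ} (hy : y ∈ P) {v : V} (hv : v ∈ h.Vsp χ) :
    η y v ∈ h.Vsp χ := fun a => by
  rw [← Module.End.mul_apply, ← map_mul, h.central a a.2 y hy, map_mul, Module.End.mul_apply, hv a,
    map_smul]

theorem Stage.comm_apply {χ : M →* Kˣ} (y z : P) {v : V} (hv : v ∈ h.Vsp χ) :
    η (y : Γ) (η (z : Γ) v) = (h.pairing χ y z : K) • η (z : Γ) (η (y : Γ) v) := by
  have h1 := (h.Vsp_inv z.2 (h.Vsp_inv y.2 hv)) (h.comm y z)
  rw [Stage.pairing, ← h1, ← Module.End.mul_apply, ← Module.End.mul_apply, ← Module.End.mul_apply,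
    ← map_mul, ← map_mul, ← map_mul, h.comm_coe]
  congr 2
  simp [commutatorElement_def, mul_assoc]

theorem Stage.radical_comm {χ : M →* Kˣ} (y : P) {z : P} (hz : z ∈ h.radical χ) {v : V}
    (hv : v ∈ h.Vsp χ) : η (y : Γ) (η (z : Γ) v) = η (z : Γ) (η (y : Γ) v) := by
  rw [h.comm_apply y z hv, h.pairing_swap, hz y, inv_one, Units.val_one, one_smul]

theorem Stage.Wsp_inv {χ : M →* Kˣ} {ψ : h.radical χ →* Kˣ} {y : Γ} (hy : y ∈ P) {v : V}
    (hv : v ∈ h.Wsp χ ψ) : η y v ∈ h.Wsp χ ψ := by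
  refine ⟨h.Vsp_inv hy hv.1, fun z => ?_⟩
  rw [← h.radical_comm (⟨y, hy⟩ : P) z.2 hv.1, hv.2 z, map_smul]

theorem Stage.scalar {χ : M →* Kˣ} {ψ : h.radical χ →* Kˣ} (hne : h.Wsp χ ψ ≠ ⊥) :
    h.Scalar χ (h.Wsp χ ψ) ψ := by
  refine ⟨fun y hy v hv => h.Wsp_inv hy hv, fun z v hv => hv.2 z, hne, fun a z hz => ?_⟩
  obtain ⟨v, hv, hv0⟩ := Submodule.exists_mem_ne_zero_of_ne_bot hne
  have h1 := hv.2 z
  rw [hz, hv.1 a] at h1
  exact Units.ext (smul_left_injective K hv0 h1).symm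

/-- Operators trivial on a space. -/
theorem Stage.diff_mem_radical {χ : M →* Kˣ} {W : Submodule K V} (hW : W ≤ h.Vsp χ) (hne : W ≠ ⊥)
    (hWP : ∀ y ∈ P, ∀ v ∈ W, η y v ∈ W) {g : Γ} (hgP : g ∈ Subgroup.normalizer (P : Set Γ))
    (hg : ∀ w ∈ W, η g w = w) (y : P) : y⁻¹ * cj hgP y ∈ h.radical χ := by
  intro z
  obtain ⟨v, hv, hv0⟩ := Submodule.exists_mem_ne_zero_of_ne_bot hne
  have hg' : ∀ w ∈ W, η g⁻¹ w = w := fun w hw => by
    conv_lhs => rw [← hg w hw]
    exact eta_apply_inv g w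
  have hid : ∀ w ∈ W, η ((y⁻¹ * cj hgP y : P) : Γ) w = w := fun w hw => by
    show η ((y : Γ)⁻¹ * (g * y * g⁻¹)) w = w
    rw [map_mul, map_mul, map_mul, Module.End.mul_apply, Module.End.mul_apply, Module.End.mul_apply,
      hg' w hw, hg _ (hWP _ y.2 w hw), eta_apply_inv]
  have h1 := h.comm_apply (y⁻¹ * cj hgP y) z (hW hv)
  rw [hid v hv, hid _ (hWP _ z.2 v hv)] at h1
  have hne' : η (z : Γ) v ≠ 0 := fun h0 =>
    hv0 (by rw [← eta_apply_inv (η := η) (z : Γ) v, h0, map_zero])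
  refine Units.ext (smul_left_injective K hne' ?_).symm
  show (1 : K) • η (z : Γ) v = _
  rw [one_smul]
  exact h1

/-- Elements trivial on a space. -/
theorem Stage.mem_radical_of_fixes {χ : M →* Kˣ} {W : Submodule K V} (hW : W ≤ h.Vsp χ) (hne : W ≠ ⊥)
    (hWP : ∀ y ∈ P, ∀ v ∈ W, η y v ∈ W) {x : P} (hx : ∀ w ∈ W, η (x : Γ) w = w) :
    x ∈ h.radical χ := by
  intro z
  obtain ⟨v, hv, hv0⟩ := Submodule.exists_mem_ne_zero_of_ne_bot hne
  have h1 := h.comm_apply x z (hW hv)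
  rw [hx v hv, hx _ (hWP _ z.2 v hv)] at h1
  have hne' : η (z : Γ) v ≠ 0 := fun h0 =>
    hv0 (by rw [← eta_apply_inv (η := η) (z : Γ) v, h0, map_zero])
  refine Units.ext (smul_left_injective K hne' ?_).symm
  show (1 : K) • η (z : Γ) v = _
  rw [one_smul]
  exact h1

/-- The functionals on `P / M` seen in the representation. -/
def Stage.Rel (ℓ : P →* Multiplicative (ZMod q)) : Prop :=
  (∀ a : P, (a : Γ) ∈ M → ℓ a = 1) ∧
    (((∀ y z : P, y * z = z * y) ∧ ∃ γ : P →* Kˣ, (∃ v : V, v ≠ 0 ∧ ∀ y : P, η (y : Γ) v = (γ y : K) • v) ∧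
        γ.ker ≤ ℓ.ker) ∨
      ∃ χ : M →* Kˣ, h.Vsp χ ≠ ⊥ ∧ ∃ (o : Γ) (w y : P), o ∈ O ∧ (w : Γ) = ⁅o, (y : Γ)⁆ ∧
        ∀ z, h.pairing χ w z = 1 → ℓ z = 1)

theorem Stage.Vsp_conj {χ : M →* Kˣ} {g : Γ} (hgM : g ∈ Subgroup.normalizer (M : Set Γ)) {v : V}
    (hv : v ∈ h.Vsp (χ.comp (cj hgM).toMonoidHom)) : η g v ∈ h.Vsp χ := fun a => by
  obtain ⟨b, rfl⟩ := (cj hgM).surjective a
  rw [cj_apply, ← Module.End.mul_apply, ← eta_conj, Module.End.mul_apply, hv b, map_smul]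
  rfl

theorem Stage.Vsp_conj_symm {χ : M →* Kˣ} {g : Γ} (hgM : g ∈ Subgroup.normalizer (M : Set Γ)) {v : V}
    (hv : v ∈ h.Vsp χ) : η g⁻¹ v ∈ h.Vsp (χ.comp (cj hgM).toMonoidHom) := fun b => by
  have h1 := hv (cj hgM b)
  rw [cj_apply] at h1
  rw [← Module.End.mul_apply, ← map_mul, show (b : Γ) * g⁻¹ = g⁻¹ * (g * b * g⁻¹) by group, map_mul,
    Module.End.mul_apply, h1, map_smul]
  rfl

theorem Stage.rel_conj {ℓ : P →* Multiplicative (ZMod q)} (hℓ : h.Rel ℓ) {g : Γ}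
    (hgP : g ∈ Subgroup.normalizer (P : Set Γ)) (hgM : g ∈ Subgroup.normalizer (M : Set Γ))
    (hgO : g ∈ Subgroup.normalizer (O : Set Γ)) : h.Rel (ℓ.comp (cj hgP).toMonoidHom) := by
  refine ⟨fun a ha => hℓ.1 _ (by rw [MulEquiv.coe_toMonoidHom, cj_apply]; exact (Subgroup.mem_normalizer_iff.mp hgM _).mp ha), ?_⟩
  rcases hℓ.2 with ⟨hab, γ, ⟨v, hv0, hv⟩, hker⟩ | ⟨χ, hχ, o, w, y, ho, hw, hpair⟩
  · refine Or.inl ⟨hab, γ.comp (cj hgP).toMonoidHom, ⟨η g⁻¹ v, fun h0 => hv0 ?_, fun z => ?_⟩, fun z hz =>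
      hker hz⟩
    · rw [← eta_apply_inv (η := η) g⁻¹ v, h0, map_zero]
    · have h1 := hv (cj hgP z)
      rw [cj_apply] at h1
      rw [← Module.End.mul_apply, ← map_mul, show (z : Γ) * g⁻¹ = g⁻¹ * (g * z * g⁻¹) by group, map_mul,
        Module.End.mul_apply, h1, map_smul]
      rfl
  · refine Or.inr ⟨χ.comp (cj hgM).toMonoidHom, ?_, g⁻¹ * o * g, (cj hgP).symm w, (cj hgP).symm y,
      ?_, ?_, fun z hz => hpair _ ?_⟩
    · obtain ⟨v, hv, hv0⟩ := Submodule.exists_mem_ne_zero_of_ne_bot hχ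
      intro hbot
      refine hv0 ?_
      have h1 := h.Vsp_conj_symm hgM hv
      rw [hbot, Submodule.mem_bot] at h1
      rw [← eta_apply_inv (η := η) g⁻¹ v, h1, map_zero]
    · refine (Subgroup.mem_normalizer_iff.mp hgO _).mpr ?_
      rwa [show g * (g⁻¹ * o * g) * g⁻¹ = o by group]
    · have e : ∀ u : P, (((cj hgP).symm u : P) : Γ) = g⁻¹ * u * g := fun u => by
        have h1 := cj_apply hgP ((cj hgP).symm u)
        rw [MulEquiv.apply_symm_apply] at h1
        rw [h1]; group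
      rw [e, e, hw, commutatorElement_def, commutatorElement_def]
      group
    · have h1 : h.pairing χ (cj hgP ((cj hgP).symm w)) (cj hgP z) = 1 := by
        rw [← hz]
        show χ _ = χ _
        congr 1
        exact Subtype.ext (map_commutatorElement (MulAut.conj g) (((cj hgP).symm w : P) : Γ) (z : Γ)).symm
      rwa [MulEquiv.apply_symm_apply] at h1

variable [IsAlgClosed K] [Finite Γ] [hp : Fact p.Prime] [hq : Fact q.Prime]
include h

omit [IsAlgClosed K] hp in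
theorem Stage.cast_card_ne {Q : Type*} [Group Q] [Finite Q] (hQ : IsPGroup q Q) : (Nat.card Q : K) ≠ 0 := by
  obtain ⟨k, hk⟩ := IsPGroup.iff_card.mp hQ
  rw [hk, Nat.cast_pow]
  exact pow_ne_zero _ h.q_ne

omit hp in
/-- The weights of `M` detect operators. -/
theorem Stage.eq_one_of_weights {g : Γ} (hg : ∀ χ : M →* Kˣ, ∀ v ∈ h.Vsp χ, η g v = v) : g = 1 := by
  letI := h.commGroup
  refine h.inj ?_
  rw [map_one]
  refine LinearMap.ext_on (span_weights_eq_top (h.cast_card_ne (h.isPGroup.to_le h.le)) (η.comp M.subtype))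
    fun v hv => ?_
  obtain ⟨χ, hχ⟩ := hv
  exact hg χ v hχ

omit hp in
theorem Stage.eq_one_of_chars {a : Γ} (ha : a ∈ M) (hχ : ∀ χ : M →* Kˣ, h.Vsp χ ≠ ⊥ → χ ⟨a, ha⟩ = 1) :
    a = 1 := by
  refine h.eq_one_of_weights fun χ v hv => ?_
  by_cases hv0 : v = 0
  · rw [hv0, map_zero]
  have h1 := hv ⟨a, ha⟩
  rw [hχ χ (fun hbot => hv0 (by rwa [hbot, Submodule.mem_bot] at hv)), Units.val_one, one_smul] at h1
  exact h1

omit hp in
/-- Elements in all radicals are central. -/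
theorem Stage.commute_of_radical {y : P} (hy : ∀ χ : M →* Kˣ, h.Vsp χ ≠ ⊥ → y ∈ h.radical χ) (z : P) :
    y * z = z * y := by
  refine Subtype.ext ?_
  show (y : Γ) * z = z * y
  rw [← commutatorElement_eq_one_iff_mul_comm]
  exact h.eq_one_of_chars (h.comm_mem y y.2 z z.2) fun χ hχ => hy χ hχ z

omit [IsAlgClosed K] [Finite Γ] hp hq in
/-- The centre of a nonabelian `P` is `M`. -/
theorem Stage.mem_of_central (hnab : ¬ ∀ y z : P, y * z = z * y) {y : P} (hy : ∀ z : P, y * z = z * y) :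
    (y : Γ) ∈ M := by
  let X : Subgroup Γ := P ⊓ Subgroup.centralizer (P : Set Γ)
  have hmem : ∀ u, u ∈ X ↔ u ∈ P ∧ ∀ z ∈ P, z * u = u * z := fun u => by
    simp [X, Subgroup.mem_centralizer_iff]
  have hnorm : ∀ g, g ∈ Subgroup.normalizer (P : Set Γ) → g ∈ Subgroup.normalizer (X : Set Γ) := by
    intro g hg
    rw [Subgroup.mem_normalizer_iff]
    intro u
    rw [hmem, hmem, ← Subgroup.mem_normalizer_iff.mp hg u]
    refine and_congr_right fun _ => ⟨fun hc z hz => ?_, fun hc z hz => ?_⟩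
    · have h1 := hc _ ((Subgroup.mem_normalizer_iff''.mp hg z).mp hz)
      calc z * (g * u * g⁻¹) = g * ((g⁻¹ * z * g) * u) * g⁻¹ := by group
        _ = g * (u * (g⁻¹ * z * g)) * g⁻¹ := by rw [h1]
        _ = g * u * g⁻¹ * z := by group
    · have h1 := hc _ ((Subgroup.mem_normalizer_iff.mp hg z).mp hz)
      calc z * u = g⁻¹ * ((g * z * g⁻¹) * (g * u * g⁻¹)) * g := by group
        _ = g⁻¹ * ((g * u * g⁻¹) * (g * z * g⁻¹)) * g := by rw [h1]
        _ = u * z := by group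
  have hMX : M ≤ X := fun a ha => (hmem a).mpr ⟨h.le ha, fun z hz => (h.central a ha z hz).symm⟩
  rcases h.irr X hMX inf_le_left (hnorm s h.s_norm) (fun g hg => hnorm g (h.H_norm hg)) with hX | hX
  · rw [← hX, hmem]
    exact ⟨y.2, fun z hz => (congrArg Subtype.val (hy ⟨z, hz⟩)).symm⟩
  · refine absurd (fun a b => Subtype.ext ?_) hnab
    have ha : (a : Γ) ∈ X := (SetLike.ext_iff.mp hX _).mpr a.2
    exact (((hmem _).mp ha).2 b b.2).symm

omit [IsAlgClosed K] [Finite Γ] hp hq in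
theorem Stage.top_norm_M {o : Γ} (ho : o ∈ O) : o ∈ Subgroup.normalizer (M : Set Γ) :=
  h.H_norm_M (h.top_le ho)

omit [IsAlgClosed K] [Finite Γ] hp hq in
theorem Stage.top_fix {o : Γ} (ho : o ∈ O) (χ : M →* Kˣ) : χ.comp (cj (h.top_norm_M ho)).toMonoidHom = χ :=
  MonoidHom.ext fun a => congrArg χ (Subtype.ext (by
    rw [MulEquiv.coe_toMonoidHom, cj_apply, ← h.central_top a a.2 o ho, mul_inv_cancel_right]))

omit [IsAlgClosed K] in
/-- An operator of `O` centralising `P / M` centralises `P`. -/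
theorem Stage.centralises {g : Γ} (hg : g ∈ O) (hgc : ∀ y ∈ P, g * y * g⁻¹ * y⁻¹ ∈ M) {y : Γ}
    (hy : y ∈ P) : g * y * g⁻¹ = y := by
  set m := g * y * g⁻¹ * y⁻¹ with hm
  have hall : ∀ k : ℕ, g ^ k * y * (g ^ k)⁻¹ = m ^ k * y := by
    intro k
    induction k with
    | zero => simp
    | succ k ih =>
      have hc : g * m ^ k * g⁻¹ = m ^ k := by
        rw [← h.central_top _ (M.pow_mem (hgc y hy) k) g hg, mul_inv_cancel_right]
      calc g ^ (k + 1) * y * (g ^ (k + 1))⁻¹ = g * (g ^ k * y * (g ^ k)⁻¹) * g⁻¹ := by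
            rw [pow_succ']; group
        _ = g * (m ^ k * y) * g⁻¹ := by rw [ih]
        _ = (g * m ^ k * g⁻¹) * (g * y * g⁻¹) := by group
        _ = m ^ (k + 1) * y := by
          rw [hc, pow_succ, mul_assoc (m ^ k) m y, hm, inv_mul_cancel_right]
  obtain ⟨j, hj⟩ := h.isPGroup_top ⟨g, hg⟩
  obtain ⟨i, hi⟩ := h.isPGroup ⟨m, h.le (hgc y hy)⟩
  have hj' : g ^ p ^ j = 1 := congrArg Subtype.val hj
  have hi' : m ^ q ^ i = 1 := congrArg Subtype.val hi
  have h1 := hall (p ^ j)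
  rw [hj', one_mul, inv_one, mul_one] at h1
  have h2 : m ^ p ^ j = 1 := mul_eq_right.mp h1.symm
  have h3 := pow_gcd_eq_one.mpr ⟨h2, hi'⟩
  rw [((Nat.coprime_primes hp.out hq.out).mpr h.p_ne_q).pow _ _ |>.gcd_eq_one, pow_one] at h3
  exact mul_inv_eq_one.mp h3

omit [IsAlgClosed K] in
/-- `M` is trivial when `P` is commutative. -/
theorem Stage.eq_bot_of_comm (hab : ∀ y z : P, y * z = z * y) : M = ⊥ := by
  classical
  haveI := Fintype.ofFinite O
  letI : CommGroup P := { (inferInstance : Group P) with mul_comm := hab }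
  let N : P →* P := ∏ o : O, (cj (h.top_norm o.2)).toMonoidHom
  have hN : ∀ y, N y = ∏ o : O, cj (h.top_norm o.2) y := fun y => by simp [N]
  have hle : P ≤ N.ker.map P.subtype := by
    have hg : ⁅P, O⁆ ≤ N.ker.map P.subtype := by
      rw [Subgroup.commutator_le]
      intro y hy o ho
      let y' : P := ⟨y, hy⟩
      refine ⟨y' * (cj (h.top_norm ho) y')⁻¹, ?_, ?_⟩
      · show N _ = 1
        rw [map_mul, map_inv, mul_inv_eq_one, hN, hN]
        refine (Fintype.prod_equiv (Equiv.mulRight (⟨o, ho⟩ : O)) _ _ fun u => ?_).symm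
        refine Subtype.ext ?_
        simp only [Equiv.coe_mulRight, cj_apply, Subgroup.coe_mul]
        group
      · show (y : Γ) * (o * y * o⁻¹)⁻¹ = ⁅y, o⁆
        simp [commutatorElement_def, mul_assoc]
    rwa [h.gen] at hg
  refine (Subgroup.eq_bot_iff_forall _).mpr fun a ha => ?_
  obtain ⟨a', ha', haa'⟩ := hle (h.le ha)
  have h1 : N a' = a' ^ Nat.card O := by
    rw [hN, Finset.prod_congr rfl fun o _ => show cj (h.top_norm o.2) a' = a' from Subtype.ext (by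
      rw [cj_apply, show ((a' : P) : Γ) = a from haa', ← h.central_top a ha o o.2, mul_inv_cancel_right]),
      Finset.prod_const, Finset.card_univ, Nat.card_eq_fintype_card]
  have h2 : a' ^ Nat.card O = 1 := h1.symm.trans ha'
  obtain ⟨i, hi⟩ := IsPGroup.iff_card.mp h.isPGroup
  obtain ⟨j, hj⟩ := IsPGroup.iff_card.mp h.isPGroup_top
  have h3 := pow_gcd_eq_one.mpr ⟨h2, pow_card_eq_one' (G := P)⟩
  rw [hi, hj, ((Nat.coprime_primes hp.out hq.out).mpr h.p_ne_q).pow _ _ |>.gcd_eq_one, pow_one] at h3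
  rw [← haa', h3]
  rfl

/-- The functionals separate `P / M`. -/
theorem Stage.rel_sep (hne : M ≠ P) {y : P} (hy : ∀ ℓ, h.Rel ℓ → ℓ y = 1) : (y : Γ) ∈ M := by
  let X : Subgroup Γ :=
    { carrier := {u | ∃ hu : u ∈ P, ∀ ℓ, h.Rel ℓ → ℓ ⟨u, hu⟩ = 1}
      one_mem' := ⟨one_mem P, fun ℓ _ => map_one ℓ⟩
      mul_mem' := fun {a b} ⟨ha, ha'⟩ ⟨hb, hb'⟩ => ⟨mul_mem ha hb, fun ℓ hℓ => by
        rw [show (⟨a * b, _⟩ : P) = ⟨a, ha⟩ * ⟨b, hb⟩ from rfl, map_mul, ha' ℓ hℓ, hb' ℓ hℓ, mul_one]⟩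
      inv_mem' := fun {a} ⟨ha, ha'⟩ => ⟨inv_mem ha, fun ℓ hℓ => by
        rw [show (⟨a⁻¹, _⟩ : P) = ⟨a, ha⟩⁻¹ from rfl, map_inv, ha' ℓ hℓ, inv_one]⟩ }
  have hnorm : ∀ g, g ∈ Subgroup.normalizer (P : Set Γ) → g ∈ Subgroup.normalizer (M : Set Γ) →
      g ∈ Subgroup.normalizer (O : Set Γ) → g ∈ Subgroup.normalizer (X : Set Γ) := by
    intro g hP hM hO
    have hstep : ∀ g, g ∈ Subgroup.normalizer (P : Set Γ) → g ∈ Subgroup.normalizer (M : Set Γ) →
        g ∈ Subgroup.normalizer (O : Set Γ) → ∀ u ∈ X, g * u * g⁻¹ ∈ X := by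
      rintro g hP hM hO u ⟨hu, hu'⟩
      exact ⟨(cj hP ⟨u, hu⟩).2, fun ℓ hℓ => hu' _ (h.rel_conj hℓ hP hM hO)⟩
    rw [Subgroup.mem_normalizer_iff]
    refine fun u => ⟨hstep g hP hM hO u, fun hu => ?_⟩
    have := hstep g⁻¹ (inv_mem hP) (inv_mem hM) (inv_mem hO) _ hu
    simpa [mul_assoc] using this
  have hMX : M ≤ X := fun a ha => ⟨h.le ha, fun ℓ hℓ => hℓ.1 _ ha⟩
  rcases h.irr X hMX (fun u hu => hu.1) (hnorm s h.s_norm h.s_norm_M h.s_norm_top)
    (fun g hg => hnorm g (h.H_norm hg) (h.H_norm_M hg) (h.H_norm_top hg)) with hX | hX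
  · exact (SetLike.ext_iff.mp hX _).mp ⟨y.2, hy⟩
  exfalso
  have htriv : ∀ (z : P) ℓ, h.Rel ℓ → ℓ z = 1 := fun z ℓ hℓ => by
    obtain ⟨hz, hz'⟩ := (SetLike.ext_iff.mp hX (z : Γ)).mpr z.2
    exact hz' ℓ hℓ
  by_cases hab : ∀ a b : P, a * b = b * a
  · have hbot := h.eq_bot_of_comm hab
    letI : CommGroup P := { (inferInstance : Group P) with mul_comm := hab }
    obtain ⟨z, hz⟩ : ∃ z : P, z ≠ 1 := by
      by_contra hno
      push Not at hno
      refine hne (le_antisymm h.le fun u hu => ?_)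
      rw [show u = 1 from congrArg Subtype.val (hno ⟨u, hu⟩)]
      exact one_mem M
    refine hz (Subtype.ext (h.inj ?_))
    rw [Subgroup.coe_one, map_one]
    refine LinearMap.ext_on (span_weights_eq_top (h.cast_card_ne h.isPGroup) (η.comp P.subtype))
      fun v hv => ?_
    obtain ⟨γ, hγ⟩ := hv
    by_cases hv0 : v = 0
    · simp [hv0]
    obtain ⟨ℓ, hℓ⟩ := exists_label h.q_ne γ fun g => by
      have h1 := h.pow_mem g g.2
      rw [hbot, Subgroup.mem_bot] at h1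
      rw [← map_pow, show g ^ q = 1 from Subtype.ext h1, map_one]
    have h1 := htriv z ℓ ⟨fun a ha => by
      rw [hbot, Subgroup.mem_bot] at ha
      rw [show a = 1 from Subtype.ext ha, map_one], Or.inl ⟨hab, γ, ⟨v, hv0, hγ⟩, hℓ.ge⟩⟩
    rw [← MonoidHom.mem_ker, hℓ, MonoidHom.mem_ker] at h1
    exact (hγ z).trans (by rw [h1, Units.val_one, one_smul]; rfl)
  · -- all commutators are in all radicals
    refine hab fun a b => h.commute_of_radical (fun χ hχ => ?_) b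
    have hle : P ≤ (h.radical χ).map P.subtype := by
      have hg : ⁅O, P⁆ ≤ (h.radical χ).map P.subtype := by
        rw [Subgroup.commutator_le]
        intro o ho u hu
        have hw : ⁅o, u⁆ ∈ P := by
          rw [commutatorElement_def]
          exact mul_mem ((Subgroup.mem_normalizer_iff.mp (h.top_norm ho) u).mp hu) (inv_mem hu)
        refine ⟨⟨_, hw⟩, fun z => ?_, rfl⟩
        let f : P →* Kˣ := MonoidHom.mk' (fun z => h.pairing χ ⟨_, hw⟩ z)
          (fun z z' => h.pairing_mul_right χ _ z z')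
        obtain ⟨ℓ, hℓ⟩ := exists_label h.q_ne f fun g => by
          rw [← map_pow]
          show h.pairing χ _ (g ^ q) = 1
          rw [h.pairing_swap, h.mem_radical_of_mem χ (h.pow_mem g g.2), inv_one]
        have hker : ∀ z, f z = 1 → ℓ z = 1 := fun z hz => hℓ.ge hz
        have h1 := htriv z ℓ ⟨fun a ha => hker a (by
          show h.pairing χ _ a = 1
          rw [h.pairing_swap, h.mem_radical_of_mem χ ha, inv_one]),
          Or.inr ⟨χ, hχ, o, ⟨_, hw⟩, ⟨u, hu⟩, ho, rfl, hker⟩⟩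
        exact (hℓ.le h1 : f z = 1)
      rwa [Subgroup.commutator_comm, h.gen] at hg
    obtain ⟨a', ha', haa'⟩ := hle a.2
    rwa [show a = a' from Subtype.ext haa'.symm]

end CfsgLib.PGroups.Turull
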