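import Mathlib
import Cfsg.Agent.Lib.PGroups.Turull.Stage

/-!
# Killed fixed vectors of a stage

* `Stage.moved_space`, `Stage.moved_weight`, `Stage.fixed_weight`: killed operators vanish
* `Stage.exc_of_no_fixed`: without fixed vectors the labels are exceptional
* `Stage.moved_label_eq_one`: a fixed element with killed displacements is killed by the moved functionals
* `Stage.exists_not_killed`: some fixed vector is not killed
-/

set_option autoImplicit false
set_option linter.all false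
set_option maxHeartbeats 1000000

namespace CfsgLib.PGroups.Turull

open CfsgLib.PGroups.ShultGross
open scoped commutatorElement

variable {K : Type*} [Field K] {V : Type*} [AddCommGroup V] [Module K V] {Γ : Type*} [Group Γ]
variable {η : Γ →* Module.End K V} {s : Γ} {r p q : ℕ} {P O M H : Subgroup Γ}
  (h : Stage η s r p q P O M H)

/-- A spanning family of functionals stable under `P`. -/
structure Stage.Func (_h : Stage η s r p q P O M H) (Λ : Set (Module.Dual K V)) : Prop where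
  sep : ∀ v, (∀ f ∈ Λ, f v = 0) → v = 0
  inv : ∀ y ∈ P, ∀ f ∈ Λ, f.comp (η y) ∈ Λ

variable {Λ : Set (Module.Dual K V)}

/-- The functionals on a subspace. -/
def restrictDual (W : Submodule K V) (Λ : Set (Module.Dual K V)) : Set (Module.Dual K W) :=
  (fun f : Module.Dual K V => f.comp W.subtype) '' Λ

theorem restrictDual_sep {W : Submodule K V} (hΛ : ∀ v, (∀ f ∈ Λ, f v = 0) → v = 0) :
    ∀ v, (∀ f ∈ restrictDual W Λ, f v = 0) → v = 0 := fun v hv =>
  Subtype.ext (hΛ _ fun f hf => hv _ ⟨f, hf, rfl⟩)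

theorem restrictDual_kills {W : Submodule K V} {S : Module.End K V} (hS : ∀ w ∈ W, S w ∈ W) {u : W}
    (hu : Kills Λ S u) : Kills (restrictDual W Λ) (S.restrict hS) u := by
  rintro _ ⟨f, hf, rfl⟩ hne
  exact hu f hf fun he => hne (LinearMap.ext fun v => LinearMap.congr_fun he (v : V))

theorem eta_pow {g : Γ} {m : ℕ} (hg : g ^ m = 1) : η g ^ m = 1 := by rw [← map_pow, hg, map_one]

theorem restrict_pow_one {W : Submodule K V} {X : Module.End K V} (hX : ∀ v ∈ W, X v ∈ W) {k : ℕ}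
    (hk : X ^ k = 1) : X.restrict hX ^ k = 1 := LinearMap.ext fun v => Subtype.ext (by
  rw [Module.End.pow_restrict]
  show (X ^ k) (v : V) = _
  rw [hk]; rfl)

/-- Conjugation on the radical. -/
def Stage.radAut {χ : M →* Kˣ} {g : Γ} (hgP : g ∈ Subgroup.normalizer (P : Set Γ))
    (hgM : g ∈ Subgroup.normalizer (M : Set Γ)) (hgχ : χ.comp (cj hgM).toMonoidHom = χ) :
    MulAut (h.radical χ) :=
  Alperin.restrict (cj hgP) (h.radical χ) (h.radical_conj hgP hgM hgχ)

theorem Stage.radAut_coe {χ : M →* Kˣ} {g : Γ} (hgP : g ∈ Subgroup.normalizer (P : Set Γ))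
    (hgM : g ∈ Subgroup.normalizer (M : Set Γ)) (hgχ : χ.comp (cj hgM).toMonoidHom = χ) (z : h.radical χ) :
    ((h.radAut hgP hgM hgχ z : P) : Γ) = g * ((z : P) : Γ) * g⁻¹ := rfl

theorem Stage.radAut_pow {χ : M →* Kˣ} {g : Γ} (hgP : g ∈ Subgroup.normalizer (P : Set Γ))
    (hgM : g ∈ Subgroup.normalizer (M : Set Γ)) (hgχ : χ.comp (cj hgM).toMonoidHom = χ) {m : ℕ}
    (hm : g ^ m = 1) : h.radAut hgP hgM hgχ ^ m = 1 := MulEquiv.ext fun z => Subtype.ext (by
  rw [Stage.radAut, Alperin.restrict_pow]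
  exact Subtype.ext (by rw [cj_pow, hm, one_mul, inv_one, mul_one]; rfl))

theorem Stage.Vsp_fix {χ : M →* Kˣ} {g : Γ} (hgM : g ∈ Subgroup.normalizer (M : Set Γ))
    (hgχ : χ.comp (cj hgM).toMonoidHom = χ) {v : V} (hv : v ∈ h.Vsp χ) : η g v ∈ h.Vsp χ :=
  h.Vsp_conj hgM (by rwa [hgχ])

theorem Stage.Wsp_fix {χ : M →* Kˣ} {ψ : h.radical χ →* Kˣ} {g : Γ}
    (hgP : g ∈ Subgroup.normalizer (P : Set Γ))
    (hgM : g ∈ Subgroup.normalizer (M : Set Γ)) (hgχ : χ.comp (cj hgM).toMonoidHom = χ)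
    (hgψ : ψ.comp (h.radAut hgP hgM hgχ).toMonoidHom = ψ) {v : V} (hv : v ∈ h.Wsp χ ψ) :
    η g v ∈ h.Wsp χ ψ := by
  refine ⟨h.Vsp_fix hgM hgχ hv.1, fun z => ?_⟩
  obtain ⟨w, rfl⟩ := (h.radAut hgP hgM hgχ).surjective z
  rw [h.radAut_coe, ← Module.End.mul_apply, ← eta_conj, Module.End.mul_apply, hv.2 w, map_smul]
  congr 2
  exact (DFunLike.congr_fun hgψ w).symm

/-- The radical on the space of a weight. -/
noncomputable def Stage.radRep (χ : M →* Kˣ) :
    Abelianization (h.radical χ) →* Module.End K (h.Vsp χ) :=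
  (Units.coeHom _).comp (QuotientGroup.lift (commutator (h.radical χ))
    (MonoidHom.toHomUnits
      { toFun := fun z : h.radical χ => (η ((z : P) : Γ)).restrict fun v hv => h.Vsp_inv (z : P).2 hv
        map_one' := LinearMap.ext fun v => Subtype.ext (by simp)
        map_mul' := fun a b => LinearMap.ext fun v => Subtype.ext (by simp) })
    (by
      rw [commutator_def, Subgroup.commutator_le]
      intro a _ b _
      rw [MonoidHom.mem_ker, map_commutatorElement, commutatorElement_eq_one_iff_mul_comm]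
      refine Units.ext (LinearMap.ext fun v => Subtype.ext ?_)
      exact h.radical_comm (a : P) b.2 v.2))

theorem Stage.radRep_of (χ : M →* Kˣ) (z : h.radical χ) (v : h.Vsp χ) :
    (h.radRep χ (Abelianization.of z) v : V) = η ((z : P) : Γ) v := rfl

theorem Stage.weight_mem_Wsp {χ : M →* Kˣ} {γ : Abelianization (h.radical χ) →* Kˣ} {v : h.Vsp χ}
    (hv : IsWeight (h.radRep χ) γ v) : (v : V) ∈ h.Wsp χ (γ.comp Abelianization.of) :=
  ⟨v.2, fun z => congrArg Subtype.val (hv (Abelianization.of z))⟩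

/-- The labels of `O` are exceptional: it centralises the moved part and commutes with `s`. -/
def Stage.Exc (χ : M →* Kˣ) (hχs : χ.comp (cj h.s_norm_M).toMonoidHom = χ) : Prop :=
  ∀ (o : Γ) (ho : o ∈ O) (a : h.Lab χ),
    h.labAut (h.top_norm ho) (h.top_norm_M ho) (h.top_fix ho χ)
        (h.labAut h.s_norm h.s_norm_M hχs a * a⁻¹) = h.labAut h.s_norm h.s_norm_M hχs a * a⁻¹ ∧
      h.labAut h.s_norm h.s_norm_M hχs (h.labAut (h.top_norm ho) (h.top_norm_M ho) (h.top_fix ho χ) a) =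
        h.labAut (h.top_norm ho) (h.top_norm_M ho) (h.top_fix ho χ)
          (h.labAut h.s_norm h.s_norm_M hχs a)

/-- The labels of commutators with `O` are fixed in the exceptional case. -/
theorem Stage.exc_comm {χ : M →* Kˣ} {hχs : χ.comp (cj h.s_norm_M).toMonoidHom = χ} (hexc : h.Exc χ hχs)
    {o : Γ} (ho : o ∈ O) (a : h.Lab χ) :
    h.labAut h.s_norm h.s_norm_M hχs
        (h.labAut (h.top_norm ho) (h.top_norm_M ho) (h.top_fix ho χ) a * a⁻¹) =
      h.labAut (h.top_norm ho) (h.top_norm_M ho) (h.top_fix ho χ) a * a⁻¹ := by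
  obtain ⟨h1, h2⟩ := hexc o ho a
  rw [map_mul, map_inv, h2]
  rw [map_mul, map_inv] at h1
  rw [mul_inv_eq_iff_eq_mul] at h1 ⊢
  rw [h1]
  simp [mul_comm, mul_left_comm, mul_assoc]

theorem Stage.eq_comp_cj_of_label_fixed {ℓ : P →* Multiplicative (ZMod q)} {χ : M →* Kˣ} {g : Γ}
    (hgP : g ∈ Subgroup.normalizer (P : Set Γ)) (hgM : g ∈ Subgroup.normalizer (M : Set Γ))
    (hgχ : χ.comp (cj hgM).toMonoidHom = χ) {w : P}
    (hw : h.labAut hgP hgM hgχ (w : P ⧸ h.radical χ) = (w : P ⧸ h.radical χ))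
    (hker : ∀ z, h.pairing χ w z = 1 → ℓ z = 1) : ℓ.comp (cj hgP).toMonoidHom = ℓ := by
  refine MonoidHom.ext fun z => ?_
  have hd : w⁻¹ * cj hgP w ∈ h.radical χ := by
    rw [← QuotientGroup.eq]
    exact hw.symm
  have h1 : h.pairing χ w (z⁻¹ * cj hgP z) = 1 := by
    rw [h.pairing_mul_right]
    have e2 : h.pairing χ w (cj hgP z) = h.pairing χ w z := by
      have e := h.pairing_conj hgP hgM hgχ w z
      rw [show cj hgP w = w * (w⁻¹ * cj hgP w) by group, h.pairing_mul_left, hd, mul_one] at e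
      exact e
    rw [e2, ← h.pairing_mul_right, inv_mul_cancel, h.pairing_swap,
      h.mem_radical_of_mem χ (y := 1) (one_mem M), inv_one]
  have h2 := hker _ h1
  rw [map_mul, map_inv, inv_mul_eq_one] at h2
  exact h2.symm

variable [IsAlgClosed K] [FiniteDimensional K V] [Finite Γ] [hr : Fact r.Prime] [hp : Fact p.Prime]
  [hq : Fact q.Prime]
include h

omit [FiniteDimensional K V] hp in
theorem Stage.coprime_card {Q : Type*} [Group Q] [Finite Q] (hQ : IsPGroup q Q) :
    (Nat.card Q).Coprime r := by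
  obtain ⟨k, hk⟩ := IsPGroup.iff_card.mp hQ
  rw [hk]
  exact ((Nat.coprime_primes hq.out hr.out).mpr h.q_ne_r).pow_left k

omit [FiniteDimensional K V] hp in
/-- A killed operator vanishes on the space of a moved weight of `M`. -/
theorem Stage.moved_space (hΛ : h.Func Λ) {D : Module.End K V} (hDS : Commute D (η s))
    (hDM : ∀ a ∈ M, Commute D (η a)) (hD : ∀ v, η s v = v → Kills Λ (η s) (D v)) {χ : M →* Kˣ}
    (hχ : χ.comp (cj h.s_norm_M).toMonoidHom ≠ χ) {v : V} (hv : v ∈ h.Vsp χ) : D v = 0 := by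
  letI := h.commGroup
  have hMq := h.isPGroup.to_le h.le
  exact eq_zero_of_kills_commute (η := η.comp M.subtype) (θ := cj h.s_norm_M) (S := η s)
    (h.coprime_card hMq) (h.cast_card_ne hMq)
    (MulEquiv.ext fun a => Subtype.ext (by rw [cj_pow, h.s_pow, one_mul, inv_one, mul_one]; rfl))
    (fun a => by
      show η s * η (a : Γ) = η (cj h.s_norm_M a : Γ) * η s
      rw [cj_apply, eta_conj])
    (eta_pow h.s_pow) hΛ.sep (fun a => hΛ.inv _ (h.le a.2)) hDS (fun a => hDM a a.2) hD hχ hv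

omit [FiniteDimensional K V] hp in
/-- A killed operator vanishes on the space of a moved weight of the radical. -/
theorem Stage.moved_weight (hΛ : h.Func Λ) {χ : M →* Kˣ} (hχs : χ.comp (cj h.s_norm_M).toMonoidHom = χ)
    {D : Module.End K V} (hDV : ∀ v ∈ h.Vsp χ, D v ∈ h.Vsp χ)
    (hDS : ∀ v ∈ h.Vsp χ, D (η s v) = η s (D v))
    (hDR : ∀ z : P, z ∈ h.radical χ → ∀ v ∈ h.Vsp χ, D (η (z : Γ) v) = η (z : Γ) (D v))
    (hD : ∀ v, η s v = v → Kills Λ (η s) (D v)) {ψ : h.radical χ →* Kˣ}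
    (hψ : ψ.comp (h.radAut h.s_norm h.s_norm_M hχs).toMonoidHom ≠ ψ) {v : V} (hv : v ∈ h.Wsp χ ψ) :
    D v = 0 := by
  have hq' := h.isPGroup.to_subgroup (h.radical χ)
  have hAq : IsPGroup q (Abelianization (h.radical χ)) := hq'.to_quotient _
  set θ := h.radAut h.s_norm h.s_norm_M hχs with hθdef
  have hθ : θ.abelianizationCongr ^ r = 1 := by
    have hk : ∀ (k : ℕ) z, (θ.abelianizationCongr ^ k) (Abelianization.of z) =
        Abelianization.of ((θ ^ k) z) := by
      intro k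
      induction k with
      | zero => intro z; rfl
      | succ k ih => intro z; rw [pow_succ', MulAut.mul_apply, ih, pow_succ']; rfl
    refine MulEquiv.ext fun a => ?_
    induction a using QuotientGroup.induction_on with
    | H z =>
      exact (hk r z).trans (congrArg Abelianization.of (DFunLike.congr_fun
        (h.radAut_pow h.s_norm h.s_norm_M hχs h.s_pow) z))
  have hSV : ∀ u ∈ h.Vsp χ, η s u ∈ h.Vsp χ := fun u hu => h.Vsp_fix h.s_norm_M hχs hu
  let γ : Abelianization (h.radical χ) →* Kˣ := Abelianization.lift ψ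
  have hwt : IsWeight (h.radRep χ) γ (⟨v, hv.1⟩ : h.Vsp χ) := fun a => by
    induction a using QuotientGroup.induction_on with
    | H z => exact Subtype.ext (hv.2 z)
  have h0 := eq_zero_of_kills_commute (η := h.radRep χ) (θ := θ.abelianizationCongr)
    (S := (η s).restrict hSV) (h.coprime_card hAq) (h.cast_card_ne hAq) hθ
    (fun a => by
      induction a using QuotientGroup.induction_on with
      | H z =>
        refine LinearMap.ext fun w => Subtype.ext ?_
        exact LinearMap.congr_fun (eta_conj s ((z : P) : Γ)) (w : V))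
    (restrict_pow_one hSV (eta_pow h.s_pow)) (restrictDual_sep hΛ.sep)
    (fun a => by
      induction a using QuotientGroup.induction_on with
      | H z =>
        rintro _ ⟨f, hf, rfl⟩
        exact ⟨f.comp (η ((z : P) : Γ)), hΛ.inv _ (z : P).2 f hf, rfl⟩)
    (D := D.restrict hDV) (LinearMap.ext fun w => Subtype.ext (hDS w w.2))
    (fun a => by
      induction a using QuotientGroup.induction_on with
      | H z => exact LinearMap.ext fun w => Subtype.ext (hDR (z : P) z.2 w w.2))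
    (fun w hw => restrictDual_kills hSV (hD _ (congrArg Subtype.val hw)))
    (γ := γ) (fun he => hψ (MonoidHom.ext fun z => DFunLike.congr_fun he (Abelianization.of z))) hwt
  exact congrArg Subtype.val h0

omit hp in
/-- A killed operator vanishes on the fixed vectors of a fixed weight with moved labels. -/
theorem Stage.fixed_weight (hΛ : h.Func Λ) {χ : M →* Kˣ} (hχs : χ.comp (cj h.s_norm_M).toMonoidHom = χ)
    {ψ : h.radical χ →* Kˣ} (hψ : ψ.comp (h.radAut h.s_norm h.s_norm_M hχs).toMonoidHom = ψ)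
    (hmov : ∃ a, h.labAut h.s_norm h.s_norm_M hχs a ≠ a) {D : Module.End K V}
    (hDS : ∀ v ∈ h.Wsp χ ψ, D (η s v) = η s (D v))
    (hDL : ∀ y : P, (y : P ⧸ h.radical χ) ∈ movedPart (h.labAut h.s_norm h.s_norm_M hχs) →
      ∀ v ∈ h.Wsp χ ψ, D (η (y : Γ) v) = η (y : Γ) (D v))
    (hD : ∀ v, η s v = v → Kills Λ (η s) (D v)) {v : V} (hv : v ∈ h.Wsp χ ψ) (hfix : η s v = v) :
    D v = 0 := by
  by_contra hne
  have hWne : h.Wsp χ ψ ≠ ⊥ := fun hbot => hne (by
    rw [hbot, Submodule.mem_bot] at hv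
    rw [hv, map_zero])
  haveI : Nontrivial (h.Wsp χ ψ) := Submodule.nontrivial_iff_ne_bot.mpr hWne
  have hW := h.scalar hWne
  set φ := h.labAut h.s_norm h.s_norm_M hχs with hφdef
  have hSW : ∀ w ∈ h.Wsp χ ψ, η s w ∈ h.Wsp χ ψ := fun w hw => h.Wsp_fix h.s_norm h.s_norm_M hχs hψ hw
  have hT := h.twisted hW
  have hβr : Stage.outer hSW ^ r = 1 := restrict_pow_one hSW (eta_pow h.s_pow)
  have hβe := h.outer_op hW h.s_norm h.s_norm_M hχs hSW
  have hφr : φ ^ r = 1 := h.labAut_pow h.s_norm h.s_norm_M hχs h.s_pow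
  have hEq : IsPGroup q (h.Lab χ) := h.lab_isPGroup χ
  have hcop : r.Coprime (Nat.card (h.Lab χ)) := (h.coprime_card hEq).symm
  obtain ⟨a₀, ha₀⟩ := hmov
  have hφL : ∀ d, d ∈ movedPart φ ↔ φ d ∈ movedPart φ := fun d => by
    refine ⟨movedPart_map (Commute.refl φ) d, fun hd => ?_⟩
    have := pow_mem_of_mem (movedPart_map (Commute.refl φ)) (r - 1) hd
    rwa [← MulAut.mul_apply, ← pow_succ, Nat.sub_add_cancel hr.out.one_le, hφr, MulAut.one_apply] at this
  let φ₁ := Alperin.restrict φ (movedPart φ) hφL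
  refine hne (eq_zero_of_kills_twisted (φ := φ₁)
    (twisted_moved hT (κ_map hT hβe (IsUnit.of_pow_eq_one hβr hr.out.ne_zero)) hφr hcop)
    (h.cast_card_ne (hEq.to_subgroup _))
    ⟨⟨φ a₀ * a₀⁻¹, a₀, rfl⟩, fun h0 => ha₀ (mul_inv_eq_one.mp (congrArg Subtype.val h0))⟩ h.r_ne
    (MulEquiv.ext fun a => Subtype.ext (by rw [Alperin.restrict_pow, hφr]; rfl))
    (fun a ha => Subtype.ext (fix_inf_moved hφr hcop a.2 (congrArg Subtype.val ha)))
    (s := fun a => h.twist (ψ := ψ) h.s_norm h.s_norm_M hχs a) (fun a => hβe a) hβr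
    (D.comp (h.Wsp χ ψ).subtype) Λ hΛ.sep (fun a f hf => ?_)
    (fun w hw f hf hne' => hD _ (congrArg Subtype.val hw) f hf fun he => hne' ?_) ⟨v, hv⟩
    (Subtype.ext hfix))
  · refine ⟨f.comp (η (h.lift χ a : Γ)), hΛ.inv _ (h.lift χ a).2 f hf, LinearMap.ext fun w => ?_⟩
    show f (η _ (D (w : V))) = f (D (η _ (w : V)))
    rw [hDL _ (by rw [h.lift_spec]; exact a.2) w w.2]
  · refine LinearMap.ext fun w => ?_
    have h1 : D (η s (w : V)) = η s (D (w : V)) := hDS w w.2
    show f (D (η s (w : V))) = f (D (w : V))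
    rw [h1]
    exact LinearMap.congr_fun he _

/-- Moved labels of exceptional order are exceptional. -/
theorem Stage.exc_of_card {χ : M →* Kˣ} (hχs : χ.comp (cj h.s_norm_M).toMonoidHom = χ)
    {ψ : h.radical χ →* Kˣ} (hψ : ψ.comp (h.radAut h.s_norm h.s_norm_M hχs).toMonoidHom = ψ)
    (hne : h.Wsp χ ψ ≠ ⊥)
    (hcard : Nat.card (movedPart (h.labAut h.s_norm h.s_norm_M hχs)) = (r - 1) ^ 2) (hr2 : r ≠ 2) :
    h.Exc χ hχs := by
  set φ := h.labAut h.s_norm h.s_norm_M hχs with hφdef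
  haveI : Nontrivial (h.Wsp χ ψ) := Submodule.nontrivial_iff_ne_bot.mpr hne
  have hW := h.scalar hne
  have hT := h.twisted hW
  have hφr : φ ^ r = 1 := h.labAut_pow h.s_norm h.s_norm_M hχs h.s_pow
  have hEq : IsPGroup q (h.Lab χ) := h.lab_isPGroup χ
  -- `q = 2`
  have hq2 : q = 2 := by
    obtain ⟨k, hk⟩ := IsPGroup.iff_card.mp (hEq.to_subgroup (movedPart φ))
    obtain ⟨m, hm⟩ := hr.out.odd_of_ne_two hr2
    have h2 : 2 ∣ q ^ k := by
      rw [← hk, hcard, hm, Nat.add_sub_cancel, sq]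
      exact dvd_mul_of_dvd_left (dvd_mul_right 2 m) _
    exact ((Nat.prime_dvd_prime_iff_eq Nat.prime_two hq.out).mp (Nat.prime_two.dvd_of_dvd_pow h2)).symm
  -- the operators of `O`
  let α : O →* MulAut (h.Lab χ) :=
    { toFun := fun o => h.labAut (h.top_norm o.2) (h.top_norm_M o.2) (h.top_fix o.2 χ)
      map_one' := MulEquiv.ext fun a => by
        induction a using QuotientGroup.induction_on with
        | H y =>
          rw [h.labAut_mk]
          exact congrArg _ (Subtype.ext (by simp [cj_apply]))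
      map_mul' := fun o o' => MulEquiv.ext fun a => by
        induction a using QuotientGroup.induction_on with
        | H y =>
          rw [MulAut.mul_apply, h.labAut_mk, h.labAut_mk, h.labAut_mk]
          exact congrArg _ (Subtype.ext (by simp [cj_apply, mul_assoc])) }
  have hκinv : ∀ {g : Γ} (hgP : g ∈ Subgroup.normalizer (P : Set Γ))
      (hgM : g ∈ Subgroup.normalizer (M : Set Γ)) (hgχ : χ.comp (cj hgM).toMonoidHom = χ) (a b : h.Lab χ),
      hT.κ (h.labAut hgP hgM hgχ a) (h.labAut hgP hgM hgχ b) = hT.κ a b := by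
    intro g hgP hgM hgχ a b
    induction a using QuotientGroup.induction_on with
    | H y =>
    induction b using QuotientGroup.induction_on with
    | H z =>
      rw [h.labAut_mk, h.labAut_mk, h.twisted_κ hW, h.twisted_κ hW, h.pairing_conj hgP hgM hgχ]
  have hcent := centralizes_of_exceptional (p := p) (hq2 ▸ h.p_ne_q) h.p_ne_r hr2
    (fun a => by rw [← sq, ← hq2]; exact h.lab_pow χ a) hT.κ hT.κ_mul (fun a b => κ_swap hT b a)
    hT.κ_ne (fun a ha => by
      obtain ⟨b, hb⟩ := hT.exists_κ_ne_one ha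
      exact ⟨b, fun h1 => hb (by rw [κ_swap hT a b, h1, inv_one])⟩)
    φ hφr (hκinv _ _ _) hcard α.range
    (h.isPGroup_top.of_surjective α.rangeRestrict α.rangeRestrict_surjective)
    (by
      rintro _ ⟨o, rfl⟩
      have hso : s * o * s⁻¹ ∈ O := (Subgroup.mem_normalizer_iff.mp h.s_norm_top _).mp o.2
      refine ⟨⟨_, hso⟩, ?_⟩
      rw [eq_mul_inv_iff_mul_eq]
      refine MulEquiv.ext fun a => ?_
      induction a using QuotientGroup.induction_on with
      | H y =>
        show h.labAut (h.top_norm hso) (h.top_norm_M hso) (h.top_fix hso χ) (φ (y : P ⧸ h.radical χ)) =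
          φ (h.labAut (h.top_norm o.2) (h.top_norm_M o.2) (h.top_fix o.2 χ) (y : P ⧸ h.radical χ))
        rw [hφdef, h.labAut_mk, h.labAut_mk, h.labAut_mk, h.labAut_mk]
        exact congrArg _ (Subtype.ext (by simp [cj_apply, mul_assoc])))
    (by rintro _ ⟨o, rfl⟩; exact hκinv (h.top_norm o.2) (h.top_norm_M o.2) (h.top_fix o.2 χ))
  exact fun o ho a => hcent _ ⟨⟨o, ho⟩, rfl⟩ a

/-- Without fixed vectors the labels are exceptional. -/
theorem Stage.exc_of_no_fixed {χ : M →* Kˣ} (hχs : χ.comp (cj h.s_norm_M).toMonoidHom = χ)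
    {ψ : h.radical χ →* Kˣ} (hψ : ψ.comp (h.radAut h.s_norm h.s_norm_M hχs).toMonoidHom = ψ)
    (hne : h.Wsp χ ψ ≠ ⊥) (hno : ∀ v ∈ h.Wsp χ ψ, η s v = v → v = 0) : h.Exc χ hχs := by
  set φ := h.labAut h.s_norm h.s_norm_M hχs with hφdef
  haveI : Nontrivial (h.Wsp χ ψ) := Submodule.nontrivial_iff_ne_bot.mpr hne
  have hW := h.scalar hne
  have hSW : ∀ w ∈ h.Wsp χ ψ, η s w ∈ h.Wsp χ ψ := fun w hw => h.Wsp_fix h.s_norm h.s_norm_M hχs hψ hw
  have hT := h.twisted hW
  have hβr : Stage.outer hSW ^ r = 1 := restrict_pow_one hSW (eta_pow h.s_pow)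
  have hβ : IsUnit (Stage.outer hSW) := IsUnit.of_pow_eq_one hβr hr.out.ne_zero
  have hβe := h.outer_op hW h.s_norm h.s_norm_M hχs hSW
  have hφr : φ ^ r = 1 := h.labAut_pow h.s_norm h.s_norm_M hχs h.s_pow
  have hEq : IsPGroup q (h.Lab χ) := h.lab_isPGroup χ
  have hcop : r.Coprime (Nat.card (h.Lab χ)) := (h.coprime_card hEq).symm
  by_cases hmov : ∀ a, φ a = a
  · intro o ho a
    show h.labAut _ _ _ (φ a * a⁻¹) = φ a * a⁻¹ ∧ φ _ = h.labAut _ _ _ (φ a)
    rw [hmov, hmov, mul_inv_cancel, map_one]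
    exact ⟨rfl, rfl⟩
  push Not at hmov
  obtain ⟨a₀, ha₀⟩ := hmov
  have hφL : ∀ d, d ∈ movedPart φ ↔ φ d ∈ movedPart φ := fun d => by
    refine ⟨movedPart_map (Commute.refl φ) d, fun hd => ?_⟩
    have := pow_mem_of_mem (movedPart_map (Commute.refl φ)) (r - 1) hd
    rwa [← MulAut.mul_apply, ← pow_succ, Nat.sub_add_cancel hr.out.one_le, hφr, MulAut.one_apply] at this
  obtain ⟨hcard, hr2⟩ := card_of_no_fixed
    (twisted_moved hT (κ_map hT hβe hβ) hφr hcop)
    (h.cast_card_ne (hEq.to_subgroup _))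
    ⟨⟨φ a₀ * a₀⁻¹, a₀, rfl⟩, fun h0 => ha₀ (mul_inv_eq_one.mp (congrArg Subtype.val h0))⟩ h.r_ne
    (φ := Alperin.restrict φ (movedPart φ) hφL)
    (MulEquiv.ext fun a => Subtype.ext (by rw [Alperin.restrict_pow, hφr]; rfl))
    (fun a ha => Subtype.ext (fix_inf_moved hφr hcop a.2 (congrArg Subtype.val ha)))
    (s := fun a => h.twist (ψ := ψ) h.s_norm h.s_norm_M hχs a) (fun a => hβe a) hβr
    (fun w hw => Subtype.ext (hno _ w.2 (congrArg Subtype.val hw)))
  exact h.exc_of_card hχs hψ hne hcard hr2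

end CfsgLib.PGroups.Turull
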