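import Mathlib
import Cfsg.Agent.Lib.PGroups.Turull.StageKill

/-!
# One step of a chain

* `Stage.moved_label_eq_one`: a fixed element with killed displacements is killed by the moved functionals
* `Stage.exists_not_killed`: some fixed vector is not killed
-/

set_option autoImplicit false
set_option linter.all false
set_option maxHeartbeats 1000000

namespace CfsgLib.PGroups.Turull

open CfsgLib.PGroups.ShultGross
open scoped commutatorElement

variable {K : Type*} [Field K] [IsAlgClosed K] {V : Type*} [AddCommGroup V] [Module K V]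
  [FiniteDimensional K V] {Γ : Type*} [Group Γ] [Finite Γ]
variable {η : Γ →* Module.End K V} {s : Γ} {r p q : ℕ} [hr : Fact r.Prime] [hp : Fact p.Prime]
  [hq : Fact q.Prime] {P O M H : Subgroup Γ} (h : Stage η s r p q P O M H)
  {Λ : Set (Module.Dual K V)}
include h

omit [FiniteDimensional K V] hr hp in
theorem Stage.exists_Wsp {χ : M →* Kˣ} (hχ : h.Vsp χ ≠ ⊥) : ∃ ψ, h.Wsp χ ψ ≠ ⊥ := by
  by_contra hno
  push Not at hno
  haveI : Nontrivial (h.Vsp χ) := Submodule.nontrivial_iff_ne_bot.mpr hχ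
  have hA : IsPGroup q (Abelianization (h.radical χ)) := (h.isPGroup.to_subgroup (h.radical χ)).to_quotient _
  have htop := span_weights_eq_top (h.cast_card_ne hA) (h.radRep χ)
  refine (top_ne_bot : (⊤ : Submodule K (h.Vsp χ)) ≠ ⊥) (le_bot_iff.mp ?_)
  rw [← htop, Submodule.span_le]
  rintro v ⟨γ, hγ⟩
  have h1 := h.weight_mem_Wsp hγ
  rw [hno, Submodule.mem_bot] at h1
  exact Subtype.ext h1

omit [IsAlgClosed K] [FiniteDimensional K V] [Finite Γ] hr hp hq in
theorem Stage.radical_top_of_comm {χ : M →* Kˣ} (hall : ∀ o (ho : o ∈ O) (y : P),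
    (cj (h.top_norm ho) y * y⁻¹ : P) ∈ h.radical χ) (y : P) : y ∈ h.radical χ := by
  have hle : P ≤ (h.radical χ).map P.subtype := by
    have hg : ⁅O, P⁆ ≤ (h.radical χ).map P.subtype := by
      rw [Subgroup.commutator_le]
      exact fun o ho u hu => ⟨_, hall o ho ⟨u, hu⟩, rfl⟩
    rwa [Subgroup.commutator_comm, h.gen] at hg
  obtain ⟨a', ha', haa'⟩ := hle y.2
  rwa [show y = a' from Subtype.ext haa'.symm]

omit [FiniteDimensional K V] [IsAlgClosed K] in
/-- The fixed labels are trivial when `s` has no fixed point on `P / M`. -/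
theorem Stage.lab_free (hfpf : ∀ y ∈ P, s * y * s⁻¹ * y⁻¹ ∈ M → y ∈ M) {χ : M →* Kˣ}
    (hχs : χ.comp (cj h.s_norm_M).toMonoidHom = χ) {a : h.Lab χ}
    (ha : h.labAut h.s_norm h.s_norm_M hχs a = a) : a = 1 := by
  classical
  let N : Subgroup P := M.subgroupOf P
  haveI : N.Normal := ⟨fun u hu g => by
    show (g : Γ) * u * (g : Γ)⁻¹ ∈ M
    rw [← h.central (u : Γ) hu g g.2, mul_inv_cancel_right]
    exact hu⟩
  letI : CommGroup (P ⧸ N) :=
    { (inferInstance : Group (P ⧸ N)) with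
      mul_comm := fun a b => by
        induction a using QuotientGroup.induction_on with
        | H a =>
        induction b using QuotientGroup.induction_on with
        | H b =>
        show ((a * b : P) : P ⧸ N) = ((b * a : P) : P ⧸ N)
        rw [QuotientGroup.eq]
        show ((((a * b)⁻¹ * (b * a) : P)) : Γ) ∈ M
        simpa [commutatorElement_def, mul_assoc] using h.comm_mem _ (inv_mem b.2) _ (inv_mem a.2) }
  have hN : ∀ u : P, u ∈ N ↔ cj h.s_norm u ∈ N := fun u => by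
    show (u : Γ) ∈ M ↔ s * u * s⁻¹ ∈ M
    exact Subgroup.mem_normalizer_iff.mp h.s_norm_M u
  let θ := Alperin.onQuot (cj h.s_norm) N hN
  let π : P ⧸ N →* h.Lab χ := QuotientGroup.map N (h.radical χ) (MonoidHom.id P)
    (fun u hu => h.mem_radical_of_mem χ hu)
  have hπ : ∀ b, π (θ b) = h.labAut h.s_norm h.s_norm_M hχs (π b) := fun b => by
    induction b using QuotientGroup.induction_on with
    | H u => rfl
  induction a using QuotientGroup.induction_on with
  | H u =>
  set X : P ⧸ N := ∏ i ∈ Finset.range r, (θ ^ i) (u : P ⧸ N) with hX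
  have hθr : θ ^ r = 1 := MulEquiv.ext fun b => by
    induction b using QuotientGroup.induction_on with
    | H v =>
      rw [Alperin.onQuot_pow]
      exact congrArg _ (Subtype.ext (by rw [cj_pow, h.s_pow, one_mul, inv_one, mul_one]))
  have hfix : θ X = X := by
    rw [hX, map_prod]
    have h1 := Finset.prod_range_succ' (fun i => (θ ^ i) (u : P ⧸ N)) r
    have h2 := Finset.prod_range_succ (fun i => (θ ^ i) (u : P ⧸ N)) r
    rw [h1, hθr, pow_zero] at h2
    rw [← mul_right_cancel h2]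
    exact Finset.prod_congr rfl fun i _ => by rw [pow_succ', MulAut.mul_apply]
  have hX1 : X = 1 := by
    obtain ⟨v, hv⟩ := QuotientGroup.mk'_surjective N X
    rw [← hv] at hfix ⊢
    refine (QuotientGroup.eq_one_iff v).mpr (hfpf v v.2 ?_)
    have h1 : (((cj h.s_norm v : P)⁻¹ * v : P)) ∈ N := QuotientGroup.eq.mp hfix
    have h2 : (v : Γ)⁻¹ * (s * v * s⁻¹) ∈ M := by
      have h3 : (((cj h.s_norm v : P)⁻¹ * v : P) : Γ) ∈ M := h1
      have := inv_mem h3
      simpa [cj_apply, mul_assoc] using this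
    have h4 : s * v * s⁻¹ * (v : Γ)⁻¹ = (v : Γ)⁻¹ * (s * v * s⁻¹) := by
      calc s * v * s⁻¹ * (v : Γ)⁻¹ = v * ((v : Γ)⁻¹ * (s * v * s⁻¹)) * (v : Γ)⁻¹ := by group
        _ = (v : Γ)⁻¹ * (s * v * s⁻¹) := by rw [← h.central _ h2 v v.2, mul_inv_cancel_right]
    rw [h4]
    exact h2
  have hπi : ∀ i : ℕ, π ((θ ^ i) (u : P ⧸ N)) = (u : P ⧸ h.radical χ) := by
    intro i
    induction i with
    | zero => rfl
    | succ i ih => rw [pow_succ', MulAut.mul_apply, hπ, ih, ha]
  have h1 := congrArg π hX1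
  rw [hX, map_prod, Finset.prod_congr rfl fun i _ => hπi i, Finset.prod_const, Finset.card_range,
    map_one] at h1
  have h3 := pow_gcd_eq_one.mpr ⟨h.lab_pow χ (u : P ⧸ h.radical χ), h1⟩
  rwa [((Nat.coprime_primes hq.out hr.out).mpr h.q_ne_r).gcd_eq_one, pow_one] at h3

/-- A fixed element with killed displacements is killed by the moved functionals. -/
theorem Stage.moved_label_eq_one (hΛ : h.Func Λ) {x : Γ} (hx : x ∈ P) (hxs : s * x = x * s)
    (hkill : ∀ n, η s n = n → Kills Λ (η s) (η x n - n)) {ℓ : P →* Multiplicative (ZMod q)}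
    (hℓ : h.Rel ℓ) (hmov : ℓ.comp (cj h.s_norm).toMonoidHom ≠ ℓ) : ℓ ⟨x, hx⟩ = 1 := by
  have hcs : Commute (η x - 1) (η s) := by
    refine (Commute.sub_left ?_ (Commute.one_left _))
    show η x * η s = η s * η x
    rw [← map_mul, ← map_mul, hxs]
  have hD : ∀ v, η s v = v → Kills Λ (η s) ((η x - 1) v) := fun v hv => by
    rw [LinearMap.sub_apply, Module.End.one_apply]
    exact hkill v hv
  rcases hℓ.2 with ⟨hab, γ, ⟨v, hv0, hv⟩, hker⟩ | ⟨χ, hχ, o, w, y, ho, hw, hker⟩
  · letI : CommGroup P := { (inferInstance : Group P) with mul_comm := hab }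
    have hγ : γ.comp (cj h.s_norm).toMonoidHom ≠ γ := fun he => hmov (MonoidHom.ext fun z => by
      have h1 : z⁻¹ * cj h.s_norm z ∈ γ.ker := by
        rw [MonoidHom.mem_ker, map_mul, map_inv, inv_mul_eq_one]
        exact (DFunLike.congr_fun he z).symm
      have h2 := hker h1
      rw [MonoidHom.mem_ker, map_mul, map_inv, inv_mul_eq_one] at h2
      exact h2.symm)
    have h0 := eq_zero_of_kills_commute (η := η.comp P.subtype) (θ := cj h.s_norm) (S := η s)
      (h.coprime_card h.isPGroup) (h.cast_card_ne h.isPGroup)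
      (MulEquiv.ext fun a => Subtype.ext (by rw [cj_pow, h.s_pow, one_mul, inv_one, mul_one]; rfl))
      (fun a => by
        show η s * η (a : Γ) = η (cj h.s_norm a : Γ) * η s
        rw [cj_apply, eta_conj])
      (eta_pow h.s_pow) hΛ.sep (fun a => hΛ.inv _ a.2) hcs
      (fun a => Commute.sub_left (by
        show η x * η (a : Γ) = η (a : Γ) * η x
        rw [← map_mul, ← map_mul]
        exact congrArg η (congrArg Subtype.val (hab ⟨x, hx⟩ a))) (Commute.one_left _))
      hD hγ (w := v) hv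
    refine hker ?_
    rw [LinearMap.sub_apply, Module.End.one_apply, sub_eq_zero] at h0
    rw [MonoidHom.mem_ker]
    refine Units.ext (smul_left_injective K hv0 ?_)
    show (γ ⟨x, hx⟩ : K) • v = (1 : K) • v
    rw [one_smul, ← hv]
    exact h0
  suffices hrad : (⟨x, hx⟩ : P) ∈ h.radical χ by
    refine hker _ ?_
    rw [h.pairing_swap, hrad w, inv_one]
  set x' : P := ⟨x, hx⟩ with hx'
  by_cases hχs : χ.comp (cj h.s_norm_M).toMonoidHom = χ
  swap
  · refine h.mem_radical_of_fixes le_rfl hχ (fun y hy v hv => h.Vsp_inv hy hv) fun v hv => ?_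
    have h0 := h.moved_space hΛ hcs (fun a ha => Commute.sub_left (by
      show η x * η a = η a * η x
      rw [← map_mul, ← map_mul, h.central a ha x hx]) (Commute.one_left _)) hD hχs hv
    rwa [LinearMap.sub_apply, Module.End.one_apply, sub_eq_zero] at h0
  have hDV : ∀ v ∈ h.Vsp χ, (η x - 1) v ∈ h.Vsp χ := fun v hv => by
    rw [LinearMap.sub_apply, Module.End.one_apply]
    exact sub_mem (h.Vsp_inv hx hv) hv
  have hDS : ∀ v, (η x - 1) (η s v) = η s ((η x - 1) v) := fun v => LinearMap.congr_fun hcs.eq v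
  by_cases hmovψ : ∃ ψ, h.Wsp χ ψ ≠ ⊥ ∧ ψ.comp (h.radAut h.s_norm h.s_norm_M hχs).toMonoidHom ≠ ψ
  · obtain ⟨ψ, hne, hψ⟩ := hmovψ
    refine h.mem_radical_of_fixes inf_le_left hne (fun y hy v hv => h.Wsp_inv hy hv) fun v hv => ?_
    have h0 := h.moved_weight hΛ hχs hDV (fun v _ => hDS v) (fun z hz v hv => by
      simp only [LinearMap.sub_apply, Module.End.one_apply, map_sub]
      rw [h.radical_comm x' hz hv]) hD hψ hv
    rwa [LinearMap.sub_apply, Module.End.one_apply, sub_eq_zero] at h0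
  push Not at hmovψ
  by_cases hexc : h.Exc χ hχs
  · refine absurd ?_ hmov
    refine h.eq_comp_cj_of_label_fixed h.s_norm h.s_norm_M hχs ?_ hker
    have e : (w : P ⧸ h.radical χ) = h.labAut (h.top_norm ho) (h.top_norm_M ho) (h.top_fix ho χ)
        (y : P ⧸ h.radical χ) * ((y : P ⧸ h.radical χ))⁻¹ := by
      rw [h.labAut_mk]
      show (w : P ⧸ h.radical χ) = ((cj (h.top_norm ho) y * y⁻¹ : P) : P ⧸ h.radical χ)
      exact congrArg _ (Subtype.ext (by rw [hw]; rfl))
    rw [e]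
    exact h.exc_comm hexc ho _
  -- fixed weights have fixed vectors
  obtain ⟨ψ, hne⟩ := h.exists_Wsp hχ
  have hψ := hmovψ ψ hne
  obtain ⟨v, hvW, hvs, hv0⟩ : ∃ v ∈ h.Wsp χ ψ, η s v = v ∧ v ≠ 0 := by
    by_contra hno
    push Not at hno
    exact hexc (h.exc_of_no_fixed hχs hψ hne hno)
  have hW := h.scalar hne
  set φ := h.labAut h.s_norm h.s_norm_M hχs with hφdef
  have hmov' : ∃ a, φ a ≠ a := by
    by_contra hno
    push Not at hno
    refine hexc fun o ho a => ?_
    show h.labAut _ _ _ (φ a * a⁻¹) = φ a * a⁻¹ ∧ φ _ = h.labAut _ _ _ (φ a)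
    rw [hno, hno, mul_inv_cancel, map_one]
    exact ⟨rfl, rfl⟩
  have hsx : cj h.s_norm x' = x' := Subtype.ext (by
    show s * x * s⁻¹ = x
    rw [hxs, mul_inv_cancel_right])
  have hpmov : ∀ z : P, (z : P ⧸ h.radical χ) ∈ movedPart φ → h.pairing χ x' z = 1 := by
    rintro z ⟨a, ha⟩
    induction a using QuotientGroup.induction_on with
    | H u =>
      have h1 : (((cj h.s_norm u * u⁻¹ : P)) : P ⧸ h.radical χ) = (z : P ⧸ h.radical χ) := ha
      rw [QuotientGroup.eq] at h1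
      have h2 : h.pairing χ x' (cj h.s_norm u) = h.pairing χ x' u := by
        conv_rhs => rw [← h.pairing_conj h.s_norm h.s_norm_M hχs x' u, hsx]
      rw [show z = (cj h.s_norm u * u⁻¹) * ((cj h.s_norm u * u⁻¹)⁻¹ * z) by group, h.pairing_mul_right,
        h.pairing_swap χ x' ((cj h.s_norm u * u⁻¹)⁻¹ * z), h1 x', inv_one, mul_one, h.pairing_mul_right,
        h2, ← h.pairing_mul_right, mul_inv_cancel, h.pairing_swap, h.mem_radical_of_mem χ (y := 1)
        (one_mem M), inv_one]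
  have hfixD : ∀ u ∈ h.Wsp χ ψ, η s u = u → η x u = u := fun u hu hus => by
    have h0 := h.fixed_weight hΛ hχs hψ hmov' (fun u _ => hDS u) (fun z hz u hu => by
      simp only [LinearMap.sub_apply, Module.End.one_apply, map_sub]
      rw [show η x (η (z : Γ) u) = η (x' : Γ) (η (z : Γ) u) from rfl, h.comm_apply x' z hu.1,
        hpmov z hz, Units.val_one, one_smul]) hD hu hus
    rwa [LinearMap.sub_apply, Module.End.one_apply, sub_eq_zero] at h0
  intro z
  obtain ⟨f, d, hf, hd, hfd⟩ := exists_decomp (h.labAut_pow h.s_norm h.s_norm_M hχs h.s_pow)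
    (h.coprime_card (h.lab_isPGroup χ)).symm (z : P ⧸ h.radical χ)
  induction f using QuotientGroup.induction_on with
  | H u =>
  rw [show z = u * (u⁻¹ * z) by group, h.pairing_mul_right, hpmov (u⁻¹ * z) (by
    show ((u : P ⧸ h.radical χ))⁻¹ * (z : P ⧸ h.radical χ) ∈ movedPart φ
    rwa [hfd, inv_mul_cancel_left]), mul_one]
  -- the translate by a fixed label is fixed
  rw [h.labAut_mk, QuotientGroup.eq] at hf
  have hd' : (cj h.s_norm u)⁻¹ * u ∈ h.radical χ := hf
  have hrd : u⁻¹ * cj h.s_norm u ∈ h.radical χ := by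
    have := inv_mem hd'
    rwa [mul_inv_rev, inv_inv] at this
  set k : Kˣ := ψ ⟨u⁻¹ * cj h.s_norm u, hrd⟩ with hk
  have hne' : η (u : Γ) v ≠ 0 := fun h0 => hv0 (by
    rw [← eta_apply_inv (η := η) (u : Γ) v, h0, map_zero])
  have hS1 : η s (η (u : Γ) v) = (k : K) • η (u : Γ) v := by
    rw [← Module.End.mul_apply, eta_conj, Module.End.mul_apply, hvs, ← map_smul,
      hk, ← hvW.2 ⟨u⁻¹ * cj h.s_norm u, hrd⟩, ← Module.End.mul_apply, ← map_mul]
    congr 2
    simp [cj_apply, mul_assoc]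
  have hkr : k ^ r = 1 := by
    have hi : ∀ i : ℕ, (η s ^ i) (η (u : Γ) v) = ((k : K) ^ i) • η (u : Γ) v := by
      intro i
      induction i with
      | zero => simp
      | succ i ih => rw [pow_succ', Module.End.mul_apply, ih, map_smul, hS1, smul_smul, pow_succ]
    have h1 := hi r
    rw [eta_pow h.s_pow, Module.End.one_apply] at h1
    refine Units.ext (smul_left_injective K hne' ?_)
    show ((k ^ r : Kˣ) : K) • η (u : Γ) v = (1 : K) • η (u : Γ) v
    rw [one_smul, Units.val_pow_eq_pow_val]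
    exact h1.symm
  have hk1 : k = 1 := by
    obtain ⟨i, hi⟩ := (h.isPGroup.to_subgroup (h.radical χ)) ⟨u⁻¹ * cj h.s_norm u, hrd⟩
    have h1 : k ^ q ^ i = 1 := by rw [hk, ← map_pow, hi, map_one]
    have h3 := pow_gcd_eq_one.mpr ⟨h1, hkr⟩
    rwa [(((Nat.coprime_primes hq.out hr.out).mpr h.q_ne_r).pow_left i).gcd_eq_one, pow_one] at h3
  rw [hk1, Units.val_one, one_smul] at hS1
  have e1 := hfixD _ (h.Wsp_inv u.2 hvW) hS1
  have e2 : η x (η (u : Γ) v) = (h.pairing χ x' u : K) • η (u : Γ) (η x v) := h.comm_apply x' u hvW.1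
  rw [e1, hfixD v hvW hvs] at e2
  refine Units.ext (smul_left_injective K hne' ?_)
  show (h.pairing χ x' u : K) • η (u : Γ) v = (1 : K) • η (u : Γ) v
  rw [one_smul, ← e2]

/-- Some fixed vector is not killed. -/
theorem Stage.exists_not_killed (hΛ : h.Func Λ) (hne : M ≠ P)
    (hmove : (∃ o ∈ O, ∃ y ∈ P, o⁻¹ * (s * o * s⁻¹) * y ≠ y * (o⁻¹ * (s * o * s⁻¹))) ∨
      ((∀ o ∈ O, s * o = o * s) ∧ ∀ y ∈ P, s * y * s⁻¹ * y⁻¹ ∈ M → y ∈ M)) :
    ∃ n, η s n = n ∧ ¬ Kills Λ (η s) n := by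
  by_contra hno
  push Not at hno
  have hD : ∀ v, η s v = v → Kills Λ (η s) ((1 : Module.End K V) v) := fun v hv => hno v hv
  by_cases hab : ∀ a b : P, a * b = b * a
  · letI : CommGroup P := { (inferInstance : Group P) with mul_comm := hab }
    have hsc : ∀ y ∈ P, s * y * s⁻¹ = y := by
      intro y hy
      have hspan := span_weights_eq_top (h.cast_card_ne h.isPGroup) (η.comp P.subtype)
      refine h.inj (LinearMap.ext_on hspan fun v hv => ?_)
      obtain ⟨γ, hγ⟩ := hv
      by_cases hv0 : v = 0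
      · simp [hv0]
      have hfix : γ.comp (cj h.s_norm).toMonoidHom = γ := by
        by_contra hmv
        exact hv0 (eq_zero_of_kills_commute (η := η.comp P.subtype) (θ := cj h.s_norm) (S := η s)
          (h.coprime_card h.isPGroup) (h.cast_card_ne h.isPGroup)
          (MulEquiv.ext fun a => Subtype.ext (by
            rw [cj_pow, h.s_pow, one_mul, inv_one, mul_one]; rfl))
          (fun a => by
            show η s * η (a : Γ) = η (cj h.s_norm a : Γ) * η s
            rw [cj_apply, eta_conj])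
          (eta_pow h.s_pow) hΛ.sep (fun a => hΛ.inv _ a.2) (Commute.one_left _)
          (fun a => Commute.one_left _) hD hmv (w := v) hγ)
      have e1 : η (cj h.s_norm ⟨y, hy⟩ : Γ) v = (γ (cj h.s_norm ⟨y, hy⟩) : K) • v :=
        hγ (cj h.s_norm ⟨y, hy⟩)
      rw [show γ (cj h.s_norm ⟨y, hy⟩) = γ ⟨y, hy⟩ from DFunLike.congr_fun hfix _] at e1
      exact e1.trans (hγ ⟨y, hy⟩).symm
    rcases hmove with ⟨o, ho, y, hy, hoy⟩ | ⟨-, hfpf⟩
    · refine hoy ?_
      rw [← mul_inv_eq_iff_eq_mul]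
      have h1 : o * y * o⁻¹ ∈ P := (Subgroup.mem_normalizer_iff.mp (h.top_norm ho) y).mp hy
      have h3 : s⁻¹ * y * s = y := by
        conv_lhs => rw [← hsc y hy]
        group
      calc o⁻¹ * (s * o * s⁻¹) * y * (o⁻¹ * (s * o * s⁻¹))⁻¹
          = o⁻¹ * (s * (o * (s⁻¹ * y * s) * o⁻¹) * s⁻¹) * o := by group
        _ = o⁻¹ * (o * y * o⁻¹) * o := by rw [h3, hsc _ h1]
        _ = y := by group
    · refine hne (le_antisymm h.le fun y hy => hfpf y hy ?_)
      rw [hsc y hy, mul_inv_cancel]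
      exact one_mem M
  have hfixχ : ∀ χ : M →* Kˣ, h.Vsp χ ≠ ⊥ → χ.comp (cj h.s_norm_M).toMonoidHom = χ := by
    intro χ hχ
    by_contra hmv
    obtain ⟨v, hv, hv0⟩ := Submodule.exists_mem_ne_zero_of_ne_bot hχ
    exact hv0 (h.moved_space hΛ (Commute.one_left _) (fun a _ => Commute.one_left _) hD hmv hv)
  have hexc : ∀ χ : M →* Kˣ, ∀ hχ : h.Vsp χ ≠ ⊥, h.Exc χ (hfixχ χ hχ) := by
    intro χ hχ
    by_contra hexc
    obtain ⟨ψ, hW⟩ := h.exists_Wsp hχ
    have hψ : ψ.comp (h.radAut h.s_norm h.s_norm_M (hfixχ χ hχ)).toMonoidHom = ψ := by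
      by_contra hmv
      obtain ⟨v, hv, hv0⟩ := Submodule.exists_mem_ne_zero_of_ne_bot hW
      exact hv0 (h.moved_weight hΛ (hfixχ χ hχ) (D := 1) (fun v hv => hv) (fun v _ => rfl)
        (fun z _ v _ => rfl) hD hmv hv)
    obtain ⟨v, hvW, hvs, hv0⟩ : ∃ v ∈ h.Wsp χ ψ, η s v = v ∧ v ≠ 0 := by
      by_contra hn
      push Not at hn
      exact hexc (h.exc_of_no_fixed _ hψ hW hn)
    refine hv0 (h.fixed_weight hΛ _ hψ ?_ (D := 1) (fun v _ => rfl) (fun z _ v _ => rfl) hD hvW hvs)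
    by_contra hn
    push Not at hn
    refine hexc fun o ho a => ?_
    rw [hn, hn, mul_inv_cancel, map_one]
    exact ⟨rfl, rfl⟩
  rcases hmove with ⟨o, ho, y₀, hy₀, hoy⟩ | ⟨hcomm, hfpf⟩
  · set g := o⁻¹ * (s * o * s⁻¹) with hg
    have hso : s * o * s⁻¹ ∈ O := (Subgroup.mem_normalizer_iff.mp h.s_norm_top _).mp ho
    have hgO : g ∈ O := mul_mem (inv_mem ho) hso
    refine hoy (mul_inv_eq_iff_eq_mul.mp (h.centralises hgO (fun y hy => ?_) hy₀))
    have hgy : g * y * g⁻¹ * y⁻¹ ∈ P := mul_mem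
      ((Subgroup.mem_normalizer_iff.mp (h.top_norm hgO) y).mp hy) (inv_mem hy)
    refine h.mem_of_central hab (y := ⟨_, hgy⟩) (h.commute_of_radical fun χ hχ => ?_)
    have hsiP : s⁻¹ * y * s ∈ P := (Subgroup.mem_normalizer_iff''.mp h.s_norm y).mp hy
    have e2 := (hexc χ hχ o ho ((⟨_, hsiP⟩ : P) : P ⧸ h.radical χ)).2
    have key : ((cj (h.top_norm hgO) ⟨y, hy⟩ : P) : P ⧸ h.radical χ) =
        ((⟨y, hy⟩ : P) : P ⧸ h.radical χ) := by
      refine (h.labAut (h.top_norm ho) (h.top_norm_M ho) (h.top_fix ho χ)).injective ?_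
      rw [h.labAut_mk, h.labAut_mk]
      rw [h.labAut_mk, h.labAut_mk, h.labAut_mk, h.labAut_mk] at e2
      calc _ = ((cj h.s_norm (cj (h.top_norm ho) ⟨_, hsiP⟩) : P) : P ⧸ h.radical χ) :=
            congrArg _ (Subtype.ext (by simp [cj_apply, hg, mul_assoc]))
        _ = _ := e2.trans (congrArg _ (Subtype.ext (by simp [cj_apply, mul_assoc])))
    rw [QuotientGroup.eq] at key
    have h1 := inv_mem key
    rw [mul_inv_rev, inv_inv] at h1
    have h2 : (⟨g * y * g⁻¹ * y⁻¹, hgy⟩ : P) =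
        (⟨y, hy⟩ : P) * ((⟨y, hy⟩ : P)⁻¹ * cj (h.top_norm hgO) ⟨y, hy⟩) * (⟨y, hy⟩ : P)⁻¹ :=
      Subtype.ext (by simp [cj_apply, mul_assoc])
    rw [h2]
    exact (h.radical_normal χ).conj_mem _ h1 _
  · refine hab fun a b => h.commute_of_radical (fun χ hχ => ?_) b
    refine h.radical_top_of_comm (fun o ho y => ?_) a
    set φ := h.labAut h.s_norm h.s_norm_M (hfixχ χ hχ)
    obtain ⟨f, d, hf, hd, hfd⟩ := exists_decomp (h.labAut_pow h.s_norm h.s_norm_M (hfixχ χ hχ) h.s_pow)
      (h.coprime_card (h.lab_isPGroup χ)).symm (y : P ⧸ h.radical χ)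
    obtain ⟨a', ha'⟩ := hd
    have h1 := (hexc χ hχ o ho a').1
    rw [show h.labAut h.s_norm h.s_norm_M (hfixχ χ hχ) a' * a'⁻¹ = d from ha'] at h1
    rw [← QuotientGroup.eq_one_iff]
    show h.labAut (h.top_norm ho) (h.top_norm_M ho) (h.top_fix ho χ) (y : P ⧸ h.radical χ) *
      ((y : P ⧸ h.radical χ))⁻¹ = 1
    rw [hfd, h.lab_free hfpf _ hf, one_mul, h1, mul_inv_cancel]

end CfsgLib.PGroups.Turull
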