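import Mathlib
import Cfsg.Agent.Lib.PGroups.Turull.StageStep

/-!
# The junction

`Stage.false_of_junction`: when `s` centralises `O` and has no fixed point on `P / M`, some element
of `O`, or of `⁅C_M(s), T⁆`, has a fixed vector with a displacement that is not killed
-/

set_option autoImplicit false
set_option linter.all false
set_option maxHeartbeats 1000000

namespace CfsgLib.PGroups.Turull

open CfsgLib.PGroups.ShultGross
open scoped commutatorElement

variable {K : Type*} [Field K] [IsAlgClosed K] {V : Type*} [AddCommGroup V] [Module K V]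
  [FiniteDimensional K V] {Γ : Type*} [Group Γ] [Finite Γ]
variable {η : Γ →* Module.End K V} {s : Γ} {r p q : ℕ} [hr : Fact r.Prime] [hp : Fact p.Prime]
  [hq : Fact q.Prime] {P O M H : Subgroup Γ} (h : Stage η s r p q P O M H)
  {Λ : Set (Module.Dual K V)}
include h

omit [FiniteDimensional K V] [IsAlgClosed K] in
/-- Every element is a displacement modulo `M`. -/
theorem Stage.exists_diff (hfpf : ∀ y ∈ P, s * y * s⁻¹ * y⁻¹ ∈ M → y ∈ M) (z : P) :
    ∃ u : P, (((u⁻¹ * cj h.s_norm u)⁻¹ * z : P) : Γ) ∈ M := by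
  classical
  let N : Subgroup P := M.subgroupOf P
  haveI : N.Normal := ⟨fun u hu g => by
    show (g : Γ) * u * (g : Γ)⁻¹ ∈ M
    rw [← h.central (u : Γ) hu g g.2, mul_inv_cancel_right]
    exact hu⟩
  have hN : ∀ u : P, u ∈ N ↔ cj h.s_norm u ∈ N := fun u => by
    show (u : Γ) ∈ M ↔ s * u * s⁻¹ ∈ M
    exact Subgroup.mem_normalizer_iff.mp h.s_norm_M u
  letI : CommGroup (P ⧸ N) :=
    { (inferInstance : Group (P ⧸ N)) with
      mul_comm := fun a b => by
        induction a using QuotientGroup.induction_on with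
        | H a =>
        induction b using QuotientGroup.induction_on with
        | H b =>
        show ((a * b : P) : P ⧸ N) = ((b * a : P) : P ⧸ N)
        rw [QuotientGroup.eq]
        show ((((a * b)⁻¹ * (b * a) : P)) : Γ) ∈ M
        simpa [commutatorElement_def, mul_assoc] using h.comm_mem _ (inv_mem b.2) _ (inv_mem a.2) }
  let θ := Alperin.onQuot (cj h.s_norm) N hN
  let f : P ⧸ N → P ⧸ N := fun a => a⁻¹ * θ a
  have hsur : Function.Surjective f := Finite.surjective_of_injective fun a b hab => by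
    have h1 : θ (a * b⁻¹) = a * b⁻¹ := by
      have h2 : a⁻¹ * θ a = b⁻¹ * θ b := hab
      rw [map_mul, map_inv, inv_mul_eq_iff_eq_mul.mp h2]
      simp [mul_comm, mul_left_comm, mul_assoc]
    obtain ⟨v, hv⟩ := QuotientGroup.mk'_surjective N (a * b⁻¹)
    rw [← hv] at h1
    have h3 : ((v⁻¹ * cj h.s_norm v : P) : Γ) ∈ M := (QuotientGroup.eq (s := N) (a := v) (b := cj h.s_norm v)).mp h1.symm
    have h4 : (v : Γ) ∈ M := hfpf v v.2 (by
      have h5 : s * v * s⁻¹ * (v : Γ)⁻¹ =
          (v : Γ) * ((v : Γ)⁻¹ * (s * v * s⁻¹)) * (v : Γ)⁻¹ := by group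
      have h6 : (v : Γ)⁻¹ * (s * v * s⁻¹) ∈ M := h3
      rw [h5, ← h.central _ h6 v v.2, mul_inv_cancel_right]
      exact h6)
    rw [← mul_inv_eq_one, ← hv]
    exact (QuotientGroup.eq_one_iff v).mpr h4
  obtain ⟨a, ha⟩ := hsur (z : P ⧸ N)
  obtain ⟨u, rfl⟩ := QuotientGroup.mk'_surjective N a
  have h1 : ((u⁻¹ * cj h.s_norm u : P) : P ⧸ N) = (z : P ⧸ N) := ha
  exact ⟨u, (QuotientGroup.eq (s := N) (a := u⁻¹ * cj h.s_norm u) (b := z)).mp h1⟩

omit [FiniteDimensional K V] [IsAlgClosed K] in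
/-- A fixed weight of the radical is determined by the weight of `M`. -/
theorem Stage.fixed_weight_unique (hfpf : ∀ y ∈ P, s * y * s⁻¹ * y⁻¹ ∈ M → y ∈ M) {χ : M →* Kˣ}
    (hχs : χ.comp (cj h.s_norm_M).toMonoidHom = χ) {ψ ψ' : h.radical χ →* Kˣ}
    (hψ : ψ.comp (h.radAut h.s_norm h.s_norm_M hχs).toMonoidHom = ψ)
    (hψ' : ψ'.comp (h.radAut h.s_norm h.s_norm_M hχs).toMonoidHom = ψ')
    (he : ∀ (a : M) (z : h.radical χ), ((z : P) : Γ) = a → ψ z = χ a)
    (he' : ∀ (a : M) (z : h.radical χ), ((z : P) : Γ) = a → ψ' z = χ a) : ψ = ψ' := by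
  refine MonoidHom.ext fun z => ?_
  obtain ⟨u, hu⟩ := h.exists_diff hfpf (z : P)
  have hm : (u⁻¹ * cj h.s_norm u)⁻¹ * (z : P) ∈ h.radical χ := h.mem_radical_of_mem χ hu
  have hd : u⁻¹ * cj h.s_norm u ∈ h.radical χ := by
    have := mul_mem z.2 (inv_mem hm)
    simpa [mul_assoc] using this
  have hurad : u ∈ h.radical χ := by
    rw [← QuotientGroup.eq_one_iff]
    refine h.lab_free hfpf hχs ?_
    rw [h.labAut_mk, QuotientGroup.eq]
    have := inv_mem hd
    simpa using this
  have hz : z = ((⟨u, hurad⟩ : h.radical χ)⁻¹ * h.radAut h.s_norm h.s_norm_M hχs ⟨u, hurad⟩) *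
      ⟨_, hm⟩ := Subtype.ext (mul_inv_cancel_left (u⁻¹ * cj h.s_norm u) (z : P)).symm
  have h2 : ∀ w, ψ (h.radAut h.s_norm h.s_norm_M hχs w) = ψ w := DFunLike.congr_fun hψ
  have h2' : ∀ w, ψ' (h.radAut h.s_norm h.s_norm_M hχs w) = ψ' w := DFunLike.congr_fun hψ'
  rw [hz, map_mul, map_mul, map_mul, map_mul, map_inv, map_inv, h2, h2', inv_mul_cancel, inv_mul_cancel,
    he ⟨_, hu⟩ ⟨_, hm⟩ rfl, he' ⟨_, hu⟩ ⟨_, hm⟩ rfl]

omit [FiniteDimensional K V] [IsAlgClosed K] in
theorem Stage.exists_order {g : Γ} (hg : g ∈ O) : ∃ j, g ^ p ^ j = 1 ∧ (p ^ j).Coprime r := by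
  obtain ⟨j, hj⟩ := h.isPGroup_top ⟨g, hg⟩
  exact ⟨j, congrArg Subtype.val hj, ((Nat.coprime_primes hp.out hr.out).mpr h.p_ne_r).pow_left j⟩

/-- `g` acts trivially on the labels. -/
def Stage.LabTriv (χ : M →* Kˣ) {g : Γ} (hg : g ∈ O) : Prop :=
  ∀ y : P, cj (h.top_norm hg) y * y⁻¹ ∈ h.radical χ

/-- The relevant labels at the junction. -/
theorem Stage.junction_labels (hΛ : h.Func Λ) (hcomm : ∀ o ∈ O, s * o = o * s)
    (hfpf : ∀ y ∈ P, s * y * s⁻¹ * y⁻¹ ∈ M → y ∈ M)
    (hyp : ∀ x ∈ O, ∀ n, η s n = n → Kills Λ (η s) (η x n - n))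
    {χ : M →* Kˣ} (hχ : h.Vsp χ ≠ ⊥) (hrel : ∃ o, ∃ ho : o ∈ O, ¬ h.LabTriv χ ho) :
    ∃ hχs : χ.comp (cj h.s_norm_M).toMonoidHom = χ,
      (∀ o (ho : o ∈ O) (a : h.Lab χ), ∀ g (hgP : g ∈ Subgroup.normalizer (P : Set Γ))
        (hgM : g ∈ Subgroup.normalizer (M : Set Γ)) (hgχ : χ.comp (cj hgM).toMonoidHom = χ),
          h.labAut (h.top_norm ho) (h.top_norm_M ho) (h.top_fix ho χ) (h.labAut hgP hgM hgχ a) =
            h.labAut hgP hgM hgχ (h.labAut (h.top_norm ho) (h.top_norm_M ho) (h.top_fix ho χ) a)) ∧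
      ∃ ψ, ψ.comp (h.radAut h.s_norm h.s_norm_M hχs).toMonoidHom = ψ ∧
        (∃ a, h.labAut h.s_norm h.s_norm_M hχs a ≠ a) ∧
        ∃ v ∈ h.Wsp χ ψ, η s v = v ∧ v ≠ 0 := by
  have hDS : ∀ x ∈ O, Commute (η x) (η s) := fun x hx => by
    show η x * η s = η s * η x
    rw [← map_mul, ← map_mul, hcomm x hx]
  have htriv : ∀ (W : Submodule K V), W ≤ h.Vsp χ → W ≠ ⊥ → (∀ y ∈ P, ∀ v ∈ W, η y v ∈ W) →
      (∀ x ∈ O, ∀ w ∈ W, η x w = w) → False := by
    intro W hW hWne hWP hfix
    obtain ⟨o, ho, hno⟩ := hrel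
    refine hno fun y => ?_
    have h1 := h.diff_mem_radical hW hWne hWP (h.top_norm ho) (hfix o ho) y
    have h2 := (h.radical_normal χ).conj_mem _ h1 y
    rwa [mul_inv_cancel_left] at h2
  have hχs : χ.comp (cj h.s_norm_M).toMonoidHom = χ := by
    by_contra hmv
    refine htriv (h.Vsp χ) le_rfl hχ (fun y hy v hv => h.Vsp_inv hy hv) fun x hx v hv => ?_
    have h0 := h.moved_space hΛ (D := η x - 1) (Commute.sub_left (hDS x hx) (Commute.one_left _))
      (fun a ha => Commute.sub_left (by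
        show η x * η a = η a * η x
        rw [← map_mul, ← map_mul, h.central_top a ha x hx]) (Commute.one_left _))
      (fun n hn => by rw [LinearMap.sub_apply, Module.End.one_apply]; exact hyp x hx n hn) hmv hv
    rwa [LinearMap.sub_apply, Module.End.one_apply, sub_eq_zero] at h0
  refine ⟨hχs, ?_⟩
  set φ := h.labAut h.s_norm h.s_norm_M hχs with hφdef
  have hSV : ∀ u ∈ h.Vsp χ, η s u ∈ h.Vsp χ := fun u hu => h.Vsp_fix h.s_norm_M hχs hu
  -- all weights of the radical are fixed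
  have hallfix : ∀ ψ, h.Wsp χ ψ ≠ ⊥ → ψ.comp (h.radAut h.s_norm h.s_norm_M hχs).toMonoidHom = ψ := by
    intro ψ hne
    by_contra hmv
    refine htriv (h.Wsp χ ψ) inf_le_left hne (fun y hy v hv => h.Wsp_inv hy hv) fun x hx v hv => ?_
    by_cases hv0 : v = 0
    · rw [hv0, map_zero]
    have hxV : ∀ u ∈ h.Vsp χ, η x u ∈ h.Vsp χ := fun u hu =>
      h.Vsp_fix (h.top_norm_M hx) (h.top_fix hx χ) hu
    set θ := h.radAut h.s_norm h.s_norm_M hχs with hθdef
    set ξ := h.radAut (h.top_norm hx) (h.top_norm_M hx) (h.top_fix hx χ) with hξdef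
    have hk : ∀ (α : MulAut (h.radical χ)) (k : ℕ) z, (α.abelianizationCongr ^ k) (Abelianization.of z) =
        Abelianization.of ((α ^ k) z) := by
      intro α k
      induction k with
      | zero => intro z; rfl
      | succ k ih => intro z; rw [pow_succ', MulAut.mul_apply, ih, pow_succ']; rfl
    have hordθ : θ.abelianizationCongr ^ r = 1 := by
      refine MulEquiv.ext fun a => ?_
      induction a using QuotientGroup.induction_on with
      | H z =>
        exact (hk θ r z).trans (congrArg Abelianization.of (DFunLike.congr_fun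
          (h.radAut_pow h.s_norm h.s_norm_M hχs h.s_pow) z))
    obtain ⟨j, hj, hjr⟩ := h.exists_order hx
    have hordξ : ξ.abelianizationCongr ^ p ^ j = 1 := by
      refine MulEquiv.ext fun a => ?_
      induction a using QuotientGroup.induction_on with
      | H z =>
        exact (hk ξ (p ^ j) z).trans (congrArg Abelianization.of (DFunLike.congr_fun
          (h.radAut_pow (h.top_norm hx) (h.top_norm_M hx) (h.top_fix hx χ) hj) z))
    have hAq : IsPGroup q (Abelianization (h.radical χ)) :=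
      (h.isPGroup.to_subgroup (h.radical χ)).to_quotient _
    let γ : Abelianization (h.radical χ) →* Kˣ := Abelianization.lift ψ
    have hwt : IsWeight (h.radRep χ) γ (⟨v, hv.1⟩ : h.Vsp χ) := fun a => by
      induction a using QuotientGroup.induction_on with
      | H z => exact Subtype.ext (hv.2 z)
    have h0 := eq_of_kills_conj (η := h.radRep χ) (θ := θ.abelianizationCongr)
      (S := (η s).restrict hSV) (h.coprime_card hAq) (h.cast_card_ne hAq) hordθ
      (fun a => by
        induction a using QuotientGroup.induction_on with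
        | H z => exact LinearMap.ext fun w => Subtype.ext (LinearMap.congr_fun (eta_conj s ((z : P) : Γ)) (w : V)))
      (restrict_pow_one hSV (eta_pow h.s_pow)) (restrictDual_sep hΛ.sep)
      (fun a => by
        induction a using QuotientGroup.induction_on with
        | H z =>
          rintro _ ⟨f, hf, rfl⟩
          exact ⟨f.comp (η ((z : P) : Γ)), hΛ.inv _ (z : P).2 f hf, rfl⟩)
      (T := (η x).restrict hxV) (LinearMap.ext fun w => Subtype.ext (LinearMap.congr_fun (hDS x hx).eq (w : V)))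
      (x := ξ.abelianizationCongr)
      (fun a => by
        induction a using QuotientGroup.induction_on with
        | H z => exact LinearMap.ext fun w => Subtype.ext (LinearMap.congr_fun (eta_conj x ((z : P) : Γ)) (w : V)))
      (MulEquiv.ext fun a => by
        induction a using QuotientGroup.induction_on with
        | H z =>
          show Abelianization.of (ξ (θ z)) = Abelianization.of (θ (ξ z))
          congr 1
          refine Subtype.ext (Subtype.ext ?_)
          simp only [hξdef, hθdef, h.radAut_coe]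
          calc x * (s * ((z : P) : Γ) * s⁻¹) * x⁻¹ = (x * s) * ((z : P) : Γ) * (x * s)⁻¹ := by group
            _ = (s * x) * ((z : P) : Γ) * (s * x)⁻¹ := by rw [hcomm x hx]
            _ = _ := by group)
      hordξ hjr (fun w hw => by
        rintro _ ⟨f, hf, rfl⟩ hne'
        exact hyp x hx _ (congrArg Subtype.val hw) f hf fun he => hne'
          (LinearMap.ext fun u => LinearMap.congr_fun he (u : V)))
      (γ := γ) (fun he => hmv (MonoidHom.ext fun z => DFunLike.congr_fun he (Abelianization.of z))) hwt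
      (fun h0 => hv0 (congrArg Subtype.val h0))
    exact congrArg Subtype.val h0.2
  obtain ⟨ψ, hne⟩ := h.exists_Wsp hχ
  have hψ := hallfix ψ hne
  have hW := h.scalar hne
  have hT := h.twisted hW
  haveI : Nontrivial (h.Wsp χ ψ) := Submodule.nontrivial_iff_ne_bot.mpr hne
  have hφr : φ ^ r = 1 := h.labAut_pow h.s_norm h.s_norm_M hχs h.s_pow
  have hfree : ∀ a, φ a = a → a = 1 := fun a ha => h.lab_free hfpf hχs ha
  have hEq : IsPGroup q (h.Lab χ) := h.lab_isPGroup χ
  have hcop : r.Coprime (Nat.card (h.Lab χ)) := (h.coprime_card hEq).symm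
  have hmoved : movedPart φ = ⊤ := by
    rw [eq_top_iff]
    intro a _
    obtain ⟨f, d, hf, hd, rfl⟩ := exists_decomp hφr hcop a
    rwa [hfree f hf, one_mul]
  obtain ⟨o₁, ho₁, hno₁⟩ := hrel
  obtain ⟨y₁, hy₁⟩ : ∃ y, cj (h.top_norm ho₁) y * y⁻¹ ∉ h.radical χ := by
    by_contra hn
    push Not at hn
    exact hno₁ hn
  have hE1 : ∃ a : h.Lab χ, a ≠ 1 :=
    ⟨((cj (h.top_norm ho₁) y₁ * y₁⁻¹ : P) : P ⧸ h.radical χ), by rwa [Ne, QuotientGroup.eq_one_iff]⟩
  have hnexc : ¬ h.Exc χ hχs := by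
    intro hexc
    refine hy₁ ?_
    obtain ⟨a', ha'⟩ : (y₁ : P ⧸ h.radical χ) ∈ movedPart φ := hmoved ▸ Subgroup.mem_top _
    have h1 := (hexc o₁ ho₁ a').1
    rw [show h.labAut h.s_norm h.s_norm_M hχs a' * a'⁻¹ = (y₁ : P ⧸ h.radical χ) from ha'] at h1
    rw [← QuotientGroup.eq_one_iff]
    show h.labAut (h.top_norm ho₁) (h.top_norm_M ho₁) (h.top_fix ho₁ χ) (y₁ : P ⧸ h.radical χ) *
      ((y₁ : P ⧸ h.radical χ))⁻¹ = 1
    rw [h1, mul_inv_cancel]
  have hnx : Nat.card (h.Lab χ) ≠ (r - 1) ^ 2 := by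
    intro hc
    by_cases hr2 : r = 2
    · subst hr2
      obtain ⟨a, ha⟩ := hE1
      haveI := nontrivial_of_ne a 1 ha
      have := Finite.one_lt_card (α := h.Lab χ)
      omega
    · exact hnexc (h.exc_of_card hχs hψ hne (by
        rw [← hφdef, hmoved, Nat.card_congr Subgroup.topEquiv.toEquiv, hc]) hr2)
  have hSW : ∀ w ∈ h.Wsp χ ψ, η s w ∈ h.Wsp χ ψ := fun w hw => h.Wsp_fix h.s_norm h.s_norm_M hχs hψ hw
  refine ⟨fun o ho => ?_, ψ, hψ, ?_, ?_⟩
  swap
  · obtain ⟨a, ha⟩ := hE1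
    exact ⟨a, fun he => ha (hfree a he)⟩
  swap
  · by_contra hn
    push Not at hn
    exact hnexc (h.exc_of_no_fixed hχs hψ hne hn)
  set ξ := h.radAut (h.top_norm ho) (h.top_norm_M ho) (h.top_fix ho χ) with hξdef
  have hoψ : ψ.comp ξ.toMonoidHom = ψ := by
    refine h.fixed_weight_unique hfpf hχs ?_ hψ (fun a z hz => ?_) hW.extends_χ
    · refine MonoidHom.ext fun z => ?_
      show ψ (ξ (h.radAut h.s_norm h.s_norm_M hχs z)) = ψ (ξ z)
      have e : ξ (h.radAut h.s_norm h.s_norm_M hχs z) = h.radAut h.s_norm h.s_norm_M hχs (ξ z) := by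
        refine Subtype.ext (Subtype.ext ?_)
        simp only [hξdef, h.radAut_coe]
        calc o * (s * ((z : P) : Γ) * s⁻¹) * o⁻¹ = (o * s) * ((z : P) : Γ) * (o * s)⁻¹ := by group
          _ = (s * o) * ((z : P) : Γ) * (s * o)⁻¹ := by rw [hcomm o ho]
          _ = _ := by group
      rw [e]
      exact DFunLike.congr_fun hψ (ξ z)
    · refine hW.extends_χ a _ ?_
      rw [MulEquiv.coe_toMonoidHom, hξdef, h.radAut_coe, hz, ← h.central_top a a.2 o ho,
        mul_inv_cancel_right]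
  have hoW : ∀ w ∈ h.Wsp χ ψ, η o w ∈ h.Wsp χ ψ := fun w hw =>
    h.Wsp_fix (h.top_norm ho) (h.top_norm_M ho) (h.top_fix ho χ) hoψ hw
  obtain ⟨j, hj, hjr⟩ := h.exists_order ho
  obtain ⟨k, hk⟩ := IsPGroup.iff_card.mp hEq
  have hcase := trivial_or_inversion hT (h.cast_card_ne hEq) hE1 hnx h.r_ne hφr hfree
    (h.outer_op hW h.s_norm h.s_norm_M hχs hSW) (restrict_pow_one hSW (eta_pow h.s_pow))
    (h.outer_op hW (h.top_norm ho) (h.top_norm_M ho) (h.top_fix ho χ) hoW)
    (LinearMap.ext fun w => Subtype.ext (LinearMap.congr_fun (hDS o ho).eq (w : V)))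
    (h.labAut_commute _ _ _ _ _ _ (hcomm o ho).symm) hp.out
    (h.labAut_pow _ _ _ hj) (restrict_pow_one hoW (eta_pow hj)) h.p_ne_r
    (by rw [hk]; exact ((Nat.coprime_primes hp.out hq.out).mpr h.p_ne_q).pow_right k)
    (restrictDual (h.Wsp χ ψ) Λ) (restrictDual_sep hΛ.sep)
    (fun a => by
      rintro _ ⟨f, hf, rfl⟩
      exact ⟨f.comp (η (h.lift χ a : Γ)), hΛ.inv _ (h.lift χ a).2 f hf, rfl⟩)
    (fun w hw => by
      rintro _ ⟨f, hf, rfl⟩ hne'
      exact hyp o ho _ (congrArg Subtype.val hw) f hf fun he => hne'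
        (LinearMap.ext fun u => LinearMap.congr_fun he (u : V)))
  intro a g hgP hgM hgχ
  rcases hcase with h1 | ⟨-, h1⟩
  · rw [h1, MulAut.one_apply, MulAut.one_apply]
  · rw [h1, h1, map_inv]

/-- The junction. -/
theorem Stage.false_of_junction (hΛ : h.Func Λ) (hne : M ≠ P) (hcomm : ∀ o ∈ O, s * o = o * s)
    (hfpf : ∀ y ∈ P, s * y * s⁻¹ * y⁻¹ ∈ M → y ∈ M) (T : Subgroup Γ)
    (hTs : ∀ t ∈ T, s * t = t * s) (hTP : T ≤ Subgroup.normalizer (P : Set Γ))
    (hTM : T ≤ Subgroup.normalizer (M : Set Γ)) (hTO : T ≤ Subgroup.normalizer (O : Set Γ))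
    (hTgen : ⁅O, T⁆ = O)
    (hyp : ∀ x ∈ O, ∀ n, η s n = n → Kills Λ (η s) (η x n - n))
    (hyp2 : ∀ a ∈ M, s * a = a * s → ∀ t ∈ T, ∀ n, η s n = n → Kills Λ (η s) (η ⁅a, t⁆ n - n)) :
    False := by
  classical
  by_cases hab : ∀ a b : P, a * b = b * a
  · letI : CommGroup P := { (inferInstance : Group P) with mul_comm := hab }
    have hbot := h.eq_bot_of_comm hab
    have hcent : ∀ x ∈ O, ∀ y ∈ P, x * y * x⁻¹ = y := by
      intro x hx y hy
      refine h.inj (LinearMap.ext_on (span_weights_eq_top (h.cast_card_ne h.isPGroup) (η.comp P.subtype))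
        fun v hv => ?_)
      obtain ⟨γ, hγ⟩ := hv
      by_cases hv0 : v = 0
      · simp [hv0]
      have hfix : γ.comp (cj (h.top_norm hx)).toMonoidHom = γ := by
        by_cases hγs : γ.comp (cj h.s_norm).toMonoidHom = γ
        · have h1 : ∀ z, γ z = 1 := fun z => by
            obtain ⟨u, hu⟩ := h.exists_diff hfpf z
            have e : (u⁻¹ * cj h.s_norm u)⁻¹ * z = 1 := Subtype.ext (by
              exact Subgroup.mem_bot.mp (hbot.le hu))
            rw [inv_mul_eq_one] at e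
            rw [← e, map_mul, map_inv, show γ (cj h.s_norm u) = γ u from DFunLike.congr_fun hγs u,
              inv_mul_cancel]
          exact MonoidHom.ext fun z => by rw [MonoidHom.comp_apply, h1, h1]
        · obtain ⟨j, hj, hjr⟩ := h.exists_order hx
          exact (eq_of_kills_conj (η := η.comp P.subtype) (θ := cj h.s_norm) (S := η s)
            (h.coprime_card h.isPGroup) (h.cast_card_ne h.isPGroup)
            (MulEquiv.ext fun a => Subtype.ext (by
              rw [cj_pow, h.s_pow, one_mul, inv_one, mul_one]; rfl))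
            (fun a => by
              show η s * η (a : Γ) = η (cj h.s_norm a : Γ) * η s
              rw [cj_apply, eta_conj])
            (eta_pow h.s_pow) hΛ.sep (fun a => hΛ.inv _ a.2) (T := η x)
            (by show η x * η s = η s * η x; rw [← map_mul, ← map_mul, hcomm x hx])
            (x := cj (h.top_norm hx))
            (fun a => by
              show η x * η (a : Γ) = η (cj (h.top_norm hx) a : Γ) * η x
              rw [cj_apply, eta_conj])
            (MulEquiv.ext fun a => Subtype.ext (by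
              rw [MulAut.mul_apply, MulAut.mul_apply, cj_apply, cj_apply, cj_apply, cj_apply]
              calc x * (s * (a : Γ) * s⁻¹) * x⁻¹ = (x * s) * a * (x * s)⁻¹ := by group
                _ = (s * x) * a * (s * x)⁻¹ := by rw [hcomm x hx]
                _ = _ := by group))
            (P := p ^ j)
            (MulEquiv.ext fun a => Subtype.ext (by rw [cj_pow, hj, one_mul, inv_one, mul_one]; rfl))
            hjr (fun n hn => hyp x hx n hn) hγs (w := v) hγ hv0).1
      have e1 : η (cj (h.top_norm hx) ⟨y, hy⟩ : Γ) v = (γ (cj (h.top_norm hx) ⟨y, hy⟩) : K) • v :=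
        hγ (cj (h.top_norm hx) ⟨y, hy⟩)
      rw [show γ (cj (h.top_norm hx) ⟨y, hy⟩) = γ ⟨y, hy⟩ from DFunLike.congr_fun hfix _] at e1
      exact e1.trans (hγ ⟨y, hy⟩).symm
    refine hne (le_antisymm h.le ?_)
    rw [← h.gen, Subgroup.commutator_le]
    intro y hy x hx
    rw [commutatorElement_eq_one_iff_mul_comm.mpr (mul_inv_eq_iff_eq_mul.mp (hcent x hx y hy)).symm]
    exact one_mem M
  -- the elements of `O` trivial on every label group
  let K₀ : Subgroup Γ :=
    { carrier := {u | ∃ hu : u ∈ O, ∀ χ : M →* Kˣ, h.Vsp χ ≠ ⊥ → h.LabTriv χ hu}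
      one_mem' := ⟨one_mem O, fun χ _ y => by
        have e : cj (h.top_norm (one_mem O)) y * y⁻¹ = 1 := Subtype.ext (by simp [cj_apply])
        rw [e]
        exact one_mem _⟩
      mul_mem' := fun {u v} ⟨hu, hu'⟩ ⟨hv, hv'⟩ => ⟨mul_mem hu hv, fun χ hχ y => by
        have e : cj (h.top_norm (mul_mem hu hv)) y * y⁻¹ =
            (cj (h.top_norm hu) (cj (h.top_norm hv) y) * (cj (h.top_norm hv) y)⁻¹) *
              (cj (h.top_norm hv) y * y⁻¹) := Subtype.ext (by simp [cj_apply, mul_assoc])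
        rw [e]
        exact mul_mem (hu' χ hχ _) (hv' χ hχ y)⟩
      inv_mem' := fun {u} ⟨hu, hu'⟩ => ⟨inv_mem hu, fun χ hχ y => by
        have e : cj (h.top_norm (inv_mem hu)) y * y⁻¹ =
            (cj (h.top_norm hu) (cj (h.top_norm (inv_mem hu)) y) *
              (cj (h.top_norm (inv_mem hu)) y)⁻¹)⁻¹ := Subtype.ext (by simp [cj_apply, mul_assoc])
        rw [e]
        exact inv_mem (hu' χ hχ _)⟩ }
  -- some relevant weight is moved by `T`
  obtain ⟨χ, hχ, hrel, t, ht, htχ⟩ : ∃ χ : M →* Kˣ, h.Vsp χ ≠ ⊥ ∧ (∃ o, ∃ ho : o ∈ O, ¬ h.LabTriv χ ho) ∧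
      ∃ t, ∃ ht : t ∈ T, χ.comp (cj (hTM ht)).toMonoidHom ≠ χ := by
    by_contra hno
    push Not at hno
    have hgen : O ≤ K₀ := by
      rw [← hTgen, Subgroup.commutator_le]
      intro x hx t ht
      have hxt : ⁅x, t⁆ ∈ O := hTgen.le (Subgroup.commutator_mem_commutator hx ht)
      refine ⟨hxt, fun χ hχ y => ?_⟩
      by_cases hall : ∀ o, ∀ ho : o ∈ O, h.LabTriv χ ho
      · exact hall _ hxt y
      push Not at hall
      obtain ⟨hχs, hcen, -⟩ := h.junction_labels hΛ hcomm hfpf hyp hχ hall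
      have htfix := hno χ hχ hall t ht
      have hti : t⁻¹ ∈ Subgroup.normalizer (P : Set Γ) := inv_mem (hTP ht)
      have hxi := inv_mem hx
      rw [← QuotientGroup.eq_one_iff]
      show ((cj (h.top_norm hxt) y : P) : P ⧸ h.radical χ) * ((y : P ⧸ h.radical χ))⁻¹ = 1
      rw [mul_inv_eq_one]
      set z : P := cj (h.top_norm hxi) (cj hti y) with hz
      have hc := hcen x hx (z : P ⧸ h.radical χ) t (hTP ht) (hTM ht) htfix
      rw [h.labAut_mk, h.labAut_mk, h.labAut_mk, h.labAut_mk] at hc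
      calc _ = ((cj (h.top_norm hx) (cj (hTP ht) z) : P) : P ⧸ h.radical χ) :=
            congrArg _ (Subtype.ext (by simp [hz, cj_apply, commutatorElement_def, mul_assoc]))
        _ = _ := hc.trans (congrArg _ (Subtype.ext (by simp [hz, cj_apply, mul_assoc])))
    refine hab fun a b => h.commute_of_radical (fun χ hχ => ?_) b
    refine h.radical_top_of_comm (fun o ho y => ?_) a
    obtain ⟨ho', h1⟩ := hgen ho
    exact h1 χ hχ y
  obtain ⟨hχs, -, ψ, hψ, hmov, v, hv, hvs, hv0⟩ := h.junction_labels hΛ hcomm hfpf hyp hχ hrel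
  -- a fixed element of `M` with moved weight
  letI := h.commGroup
  set θ : MulAut M := cj h.s_norm_M with hθdef
  obtain ⟨a₀, ha₀⟩ : ∃ a₀, χ (cj (hTM ht) a₀) ≠ χ a₀ := by
    by_contra hno
    push Not at hno
    exact htχ (MonoidHom.ext hno)
  set a := ∏ i ∈ Finset.range r, (θ ^ i) a₀ with hadef
  have hθr : θ ^ r = 1 := MulEquiv.ext fun u => Subtype.ext (by
    rw [hθdef, cj_pow, h.s_pow, one_mul, inv_one, mul_one]; rfl)
  have hfixa : θ a = a := by
    rw [hadef, map_prod]
    have h1 := Finset.prod_range_succ' (fun i => (θ ^ i) a₀) r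
    have h2 := Finset.prod_range_succ (fun i => (θ ^ i) a₀) r
    rw [h1, hθr, pow_zero] at h2
    rw [← mul_right_cancel h2]
    exact Finset.prod_congr rfl fun i _ => by rw [pow_succ', MulAut.mul_apply]
  have hsa : s * a = a * s := by
    have h1 : s * (a : Γ) * s⁻¹ = a := congrArg Subtype.val hfixa
    exact mul_inv_eq_iff_eq_mul.mp h1
  have hθt : ∀ u, cj (hTM ht) (θ u) = θ (cj (hTM ht) u) := fun u => Subtype.ext (by
    rw [hθdef, cj_apply, cj_apply, cj_apply, cj_apply]
    calc t * (s * (u : Γ) * s⁻¹) * t⁻¹ = (t * s) * u * (t * s)⁻¹ := by group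
      _ = (s * t) * u * (s * t)⁻¹ := by rw [hTs t ht]
      _ = _ := by group)
  have hχi : ∀ (i : ℕ) u, χ ((θ ^ i) u) = χ u := by
    intro i
    induction i with
    | zero => intro u; rfl
    | succ i ih =>
      intro u
      rw [pow_succ, MulAut.mul_apply, ih]
      exact DFunLike.congr_fun hχs u
  have hti' : ∀ (i : ℕ) u, cj (hTM ht) ((θ ^ i) u) = (θ ^ i) (cj (hTM ht) u) := by
    intro i
    induction i with
    | zero => intro u; rfl
    | succ i ih => intro u; rw [pow_succ, MulAut.mul_apply, MulAut.mul_apply, ih, hθt]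
  have e1 : χ a = χ a₀ ^ r := by
    rw [hadef, map_prod, Finset.prod_congr rfl fun i _ => hχi i a₀, Finset.prod_const, Finset.card_range]
  have e2 : χ (cj (hTM ht) a) = χ (cj (hTM ht) a₀) ^ r := by
    rw [hadef, map_prod, map_prod, Finset.prod_congr rfl fun i _ => by rw [hti' i a₀, hχi i],
      Finset.prod_const, Finset.card_range]
  set m : M := a * (cj (hTM ht) a)⁻¹ with hmdef
  have hm : (m : Γ) = ⁅(a : Γ), t⁆ := by
    show (a : Γ) * (t * a * t⁻¹)⁻¹ = _
    simp [commutatorElement_def, mul_assoc]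
  have hc : χ m ≠ 1 := by
    intro hc1
    rw [hmdef, map_mul, map_inv, mul_inv_eq_one, e1, e2] at hc1
    refine ha₀ ?_
    obtain ⟨i, hi⟩ := (h.isPGroup.to_le h.le) (a₀ * (cj (hTM ht) a₀)⁻¹)
    have h1 : (χ (a₀ * (cj (hTM ht) a₀)⁻¹)) ^ r = 1 := by
      rw [map_mul, map_inv, mul_pow, inv_pow, hc1, mul_inv_cancel]
    have h2 : (χ (a₀ * (cj (hTM ht) a₀)⁻¹)) ^ q ^ i = 1 := by rw [← map_pow, hi, map_one]
    have h3 := pow_gcd_eq_one.mpr ⟨h2, h1⟩
    rw [(((Nat.coprime_primes hq.out hr.out).mpr h.q_ne_r).pow_left i).gcd_eq_one, pow_one, map_mul,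
      map_inv, mul_inv_eq_one] at h3
    exact h3.symm
  have hcs : Commute (η (m : Γ) - 1) (η s) := by
    refine Commute.sub_left ?_ (Commute.one_left _)
    show η (m : Γ) * η s = η s * η (m : Γ)
    rw [← map_mul, ← map_mul, hm]
    congr 1
    have c1 : Commute s (a : Γ) := hsa
    have c2 : Commute s t := hTs t ht
    rw [commutatorElement_def]
    exact ((((c1.mul_right c2).mul_right c1.inv_right).mul_right c2.inv_right).symm).eq
  have hscal : ∀ u ∈ h.Vsp χ, (η (m : Γ) - 1) u = ((χ m : K) - 1) • u := fun u hu => by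
    rw [LinearMap.sub_apply, Module.End.one_apply, hu m, sub_smul, one_smul]
  have h0 := h.fixed_weight hΛ hχs hψ hmov (D := η (m : Γ) - 1) (fun u _ => LinearMap.congr_fun hcs.eq u)
    (fun y _ u hu => by rw [hscal _ (h.Vsp_inv y.2 hu.1), hscal _ hu.1, map_smul])
    (fun n hn => by
      rw [LinearMap.sub_apply, Module.End.one_apply, hm]
      exact hyp2 _ a.2 hsa t ht n hn) hv hvs
  rw [hscal v hv.1, smul_eq_zero] at h0
  rcases h0 with h0 | h0
  · exact hc (Units.ext (by rw [Units.val_one]; exact sub_eq_zero.mp h0))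
  · exact hv0 h0

end CfsgLib.PGroups.Turull
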