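import Mathlib
import Cfsg.Agent.Lib.Core.Coprime

/-!
# Towers

* `Turull.Tower`: invariant subgroups of alternating prime power orders with nontrivial iterated commutator
* `Turull.Deep`: iterated commutators of fixed subgroups
* `Deep.eq_bot`: they vanish beyond the nilpotent length of the fixed points
* `exists_fixed_lift`, `exists_invariant_sylow'`: coprime action of an automorphism
-/

set_option autoImplicit false
set_option linter.all false
set_option maxHeartbeats 1000000

namespace CfsgLib.PGroups.Turull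

open scoped commutatorElement
open Subgroup

variable {G : Type*} [Group G]

/-- Iterated commutators. -/
def iter (Q : ℕ → Subgroup G) : ℕ → Subgroup G
  | 0 => Q 0
  | l + 1 => ⁅Q (l + 1), iter Q l⁆

/-- A tower of length `L + 1`. -/
structure Tower (σ : MulAut G) (L : ℕ) (pr : ℕ → ℕ) (Q : ℕ → Subgroup G) : Prop where
  prime : ∀ l ≤ L, (pr l).Prime
  ne : ∀ l < L, pr l ≠ pr (l + 1)
  isP : ∀ l ≤ L, IsPGroup (pr l) (Q l)
  inv : ∀ l ≤ L, ∀ x ∈ Q l, σ x ∈ Q l
  norm : ∀ l k, l ≤ k → k ≤ L → Q l ≤ normalizer (Q k : Set G)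
  top : iter Q L ≠ ⊥

/-- A nilpotent normal series. -/
def HasChain (G : Type*) [Group G] (m : ℕ) : Prop :=
  ∃ F : Fin (m + 1) → Subgroup G, F 0 = ⊥ ∧ F (Fin.last m) = ⊤ ∧ Monotone F ∧ (∀ i, (F i).Normal) ∧
    ∀ i : Fin m, ∃ k : ℕ, (F i.succ).lowerCentralSeries k ≤ F i.castSucc

/-- Iterated commutators of fixed subgroups of prime power order. -/
inductive Deep (σ : MulAut G) : ℕ → ℕ → Subgroup G → Prop
  | start {p : ℕ} {S : Subgroup G} : p.Prime → IsPGroup p S → (∀ x ∈ S, σ x = x) → Deep σ 0 p S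
  | step {k p q : ℕ} {S T : Subgroup G} : Deep σ k p S → q.Prime → IsPGroup q T → p ≠ q →
      (∀ x ∈ T, σ x = x) → S ≤ normalizer (T : Set G) → Deep σ (k + 1) q ⁅T, S⁆

theorem Deep.prime {σ : MulAut G} {k p : ℕ} {S : Subgroup G} (h : Deep σ k p S) : p.Prime := by
  induction h with
  | start hp => exact hp
  | step _ hq => exact hq

theorem commutator_le_left' {S T : Subgroup G} (hn : S ≤ normalizer (T : Set G)) : ⁅T, S⁆ ≤ T :=
  le_normalizer_iff_commutator_le_left.mp hn

theorem Deep.isPGroup {σ : MulAut G} {k p : ℕ} {S : Subgroup G} (h : Deep σ k p S) : IsPGroup p S := by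
  induction h with
  | start _ hS _ => exact hS
  | step _ _ hT _ _ hn => exact hT.to_le (commutator_le_left' hn)

theorem Deep.fixed {σ : MulAut G} {k p : ℕ} {S : Subgroup G} (h : Deep σ k p S) : ∀ x ∈ S, σ x = x := by
  induction h with
  | start _ _ hS => exact hS
  | step _ _ _ _ hT hn => exact fun x hx => hT x (commutator_le_left' hn hx)

theorem coprime_card_of_pGroups [Finite G] {p q : ℕ} (hp : p.Prime) (hq : q.Prime) (hne : p ≠ q)
    {S T : Subgroup G} (hS : IsPGroup p S) (hT : IsPGroup q T) :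
    (Nat.card S).Coprime (Nat.card T) := by
  haveI := Fact.mk hp
  haveI := Fact.mk hq
  obtain ⟨a, ha⟩ := IsPGroup.iff_card.mp hS
  obtain ⟨b, hb⟩ := IsPGroup.iff_card.mp hT
  rw [ha, hb]
  exact ((Nat.coprime_primes hp hq).mpr hne).pow _ _

theorem isSolvable_of_pGroup [Finite G] {p : ℕ} (hp : p.Prime) {S : Subgroup G} (hS : IsPGroup p S) :
    Group.IsSolvable S := by
  haveI := Fact.mk hp
  haveI := hS.isNilpotent
  infer_instance

/-- Coprime commutators are perfect. -/
theorem commutator_twice [Finite G] {p q : ℕ} (hp : p.Prime) (hq : q.Prime) (hne : p ≠ q)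
    {S T : Subgroup G} (hS : IsPGroup p S) (hT : IsPGroup q T) (hn : S ≤ normalizer (T : Set G)) :
    ⁅⁅T, S⁆, S⁆ = ⁅T, S⁆ :=
  CfsgLib.Core.commutator_commutator_eq hn (coprime_card_of_pGroups hp hq hne hS hT)
    (Or.inl (isSolvable_of_pGroup hp hS))

theorem Deep.eq_bot [Finite G] {σ : MulAut G} {C : Subgroup G} (hC : ∀ g, g ∈ C ↔ σ g = g) {n : ℕ}
    (hn : HasChain C n) {k p : ℕ} {S : Subgroup G} (h : Deep σ k p S) (hk : n ≤ k) : S = ⊥ := by
  obtain ⟨F, hF0, hFn, hFm, hFN, hFnil⟩ := hn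
  let D : ℕ → Subgroup G := fun j => (F ⟨n - j, by omega⟩).map C.subtype
  have hDn : ∀ j, n ≤ j → D j = ⊥ := fun j hj => by
    have e : (⟨n - j, by omega⟩ : Fin (n + 1)) = 0 := Fin.ext (by simp; omega)
    show (F _).map _ = ⊥
    rw [e, hF0, Subgroup.map_bot]
  suffices hle : S ≤ D k by exact le_bot_iff.mp (hle.trans (hDn k hk).le)
  clear hk
  revert hDn
  intro hDn
  clear hDn
  induction h with
  | @start p S hp hS hfix =>
    have e : (⟨n - 0, by omega⟩ : Fin (n + 1)) = Fin.last n := Fin.ext (by simp)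
    show S ≤ (F _).map _
    rw [e, hFn]
    exact fun x hx => ⟨⟨x, (hC x).mpr (hfix x hx)⟩, trivial, rfl⟩
  | @step k p q S T hd hq hT hne hfix hnorm ih =>
    have hTC : T ≤ C := fun x hx => (hC x).mpr (hfix x hx)
    have hSC : S ≤ C := fun x hx => (hC x).mpr (hd.fixed x hx)
    have hX := commutator_twice hd.prime hq hne hd.isPGroup hT hnorm
    have hXD : ⁅T, S⁆ ≤ D k := by
      rw [Subgroup.commutator_le]
      intro t ht u hu
      obtain ⟨u', hu', rfl⟩ := ih hu
      refine ⟨⁅(⟨t, hTC ht⟩ : C), u'⁆, ?_, rfl⟩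
      exact (F ⟨n - k, _⟩).mul_mem ((hFN _).conj_mem _ hu' _) (inv_mem hu')
    by_cases hkn : n ≤ k
    · refine hXD.trans (le_trans (le_of_eq ?_) bot_le)
      have e : (⟨n - k, by omega⟩ : Fin (n + 1)) = 0 := Fin.ext (by simp; omega)
      show (F _).map _ = ⊥
      rw [e, hF0, Subgroup.map_bot]
    obtain ⟨m, hm⟩ := hFnil ⟨n - (k + 1), by omega⟩
    have e1 : (⟨n - (k + 1), by omega⟩ : Fin n).succ = ⟨n - k, by omega⟩ :=
      Fin.ext (by simp [Fin.val_succ]; omega)
    rw [e1] at hm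
    have hall : ∀ j, ⁅T, S⁆ ≤ ((F ⟨n - k, by omega⟩).lowerCentralSeries j).map C.subtype := by
      intro j
      induction j with
      | zero => rw [Subgroup.lowerCentralSeries_zero]; exact hXD
      | succ j ihj =>
        rw [Subgroup.lowerCentralSeries_succ, Subgroup.map_commutator]
        conv_lhs => rw [← hX]
        exact Subgroup.commutator_mono ihj ih
    exact (hall m).trans (Subgroup.map_mono hm)

/-- A fixed element in an invariant coset. -/
theorem exists_fixed_lift [Finite G] [Group.IsSolvable G] {σ : MulAut G} {N : Subgroup G}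
    (hN : ∀ x ∈ N, σ x ∈ N) (hcop : (orderOf σ).Coprime (Nat.card G)) {x : G} (hx : x⁻¹ * σ x ∈ N) :
    ∃ n ∈ N, σ (x * n) = x * n := by
  classical
  have hpow : ∀ i : ℕ, (∀ y ∈ N, (σ ^ i) y ∈ N) ∧ x⁻¹ * (σ ^ i) x ∈ N := by
    intro i
    induction i with
    | zero => exact ⟨fun y hy => hy, by simp [one_mem]⟩
    | succ i ih =>
      refine ⟨fun y hy => ?_, ?_⟩
      · rw [pow_succ', MulAut.mul_apply]; exact hN _ (ih.1 y hy)
      · rw [pow_succ', MulAut.mul_apply]
        have := N.mul_mem hx (hN _ ih.2)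
        rw [map_mul, map_inv] at this
        simpa [mul_assoc] using this
  have hz : ∀ g : zpowers σ, ∃ i : ℕ, σ ^ i = (g : MulAut G) := fun g =>
    (isOfFinOrder_of_finite σ).mem_powers_iff_mem_zpowers.mpr g.2
  have hcop' : (Nat.card (zpowers σ)).Coprime (Nat.card N) := by
    rw [Nat.card_zpowers]
    exact hcop.coprime_dvd_right N.card_subgroup_dvd_card
  obtain ⟨n, hn, hfix⟩ : ∃ n ∈ N, ∀ g : zpowers σ, (g : MulAut G) (x * n) = x * n := by
    let Γ := G ⋊[(zpowers σ).subtype] zpowers σ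
    let ι : G →* Γ := SemidirectProduct.inl
    let A' : Subgroup Γ := (SemidirectProduct.inr : zpowers σ →* Γ).range
    haveI : Finite Γ := Finite.of_equiv _ SemidirectProduct.equivProd.symm
    have hAN : A' ≤ normalizer ((N.map ι : Subgroup Γ) : Set Γ) := by
      rw [Subgroup.le_normalizer_iff]
      rintro _ ⟨g, rfl⟩ _ ⟨n, hn, rfl⟩
      obtain ⟨i, hi⟩ := hz g
      exact ⟨(g : MulAut G) n, hi ▸ (hpow i).1 n hn,
        by simp only [ι]; rw [← Subgroup.coe_subtype, SemidirectProduct.inl_aut, map_inv]⟩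
    have hc : (Nat.card A').Coprime (Nat.card (N.map ι)) := by
      rwa [card_map_of_injective SemidirectProduct.inl_injective,
        Nat.card_congr (MonoidHom.ofInjective SemidirectProduct.inr_injective).toEquiv.symm]
    obtain ⟨_, ⟨n, hn, rfl⟩, hcen⟩ := CfsgLib.Core.exists_centralizing_in_coset hAN hc
      (Or.inr (Group.isSolvable_of_surjective (f := (N.equivMapOfInjective ι SemidirectProduct.inl_injective).toMonoidHom)
        (N.equivMapOfInjective ι SemidirectProduct.inl_injective).surjective))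
      (k := ι x) (by
        rintro _ ⟨g, rfl⟩
        obtain ⟨i, hi⟩ := hz g
        refine ⟨x⁻¹ * (g : MulAut G) x, hi ▸ (hpow i).2, ?_⟩
        simp only [ι]
        rw [map_mul, map_inv, ← Subgroup.coe_subtype, SemidirectProduct.inl_aut, map_inv])
    refine ⟨n, hn, fun g => SemidirectProduct.inl_injective (φ := (zpowers σ).subtype) ?_⟩
    have h1 := mem_centralizer_iff.mp hcen _ (⟨g, rfl⟩ : SemidirectProduct.inr g ∈ A')
    rw [← Subgroup.coe_subtype, SemidirectProduct.inl_aut, map_inv, map_mul]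
    exact mul_inv_eq_iff_eq_mul.mpr h1
  exact ⟨n, hn, hfix ⟨σ, mem_zpowers σ⟩⟩

/-- An invariant Sylow subgroup. -/
theorem exists_invariant_sylow' [Finite G] [Group.IsSolvable G] {σ : MulAut G} {X : Subgroup G}
    (hX : ∀ x ∈ X, σ x ∈ X) (hcop : (orderOf σ).Coprime (Nat.card G)) (p : ℕ) [Fact p.Prime] :
    ∃ P : Sylow p X, ∀ x ∈ (P : Subgroup X).map X.subtype, σ x ∈ (P : Subgroup X).map X.subtype := by
  classical
  let Γ := G ⋊[(zpowers σ).subtype] zpowers σ
  let ι : G →* Γ := SemidirectProduct.inl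
  let A' : Subgroup Γ := (SemidirectProduct.inr : zpowers σ →* Γ).range
  haveI : Finite Γ := Finite.of_equiv _ SemidirectProduct.equivProd.symm
  have hpow : ∀ i : ℕ, ∀ y ∈ X, (σ ^ i) y ∈ X := by
    intro i
    induction i with
    | zero => exact fun y hy => hy
    | succ i ih => intro y hy; rw [pow_succ', MulAut.mul_apply]; exact hX _ (ih y hy)
  have hAX : A' ≤ normalizer ((X.map ι : Subgroup Γ) : Set Γ) := by
    rw [Subgroup.le_normalizer_iff]
    rintro _ ⟨g, rfl⟩ _ ⟨n, hn, rfl⟩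
    obtain ⟨i, hi⟩ := (isOfFinOrder_of_finite σ).mem_powers_iff_mem_zpowers.mpr g.2
    have hi' : σ ^ i = (g : MulAut G) := hi
    exact ⟨(g : MulAut G) n, hi' ▸ hpow i n hn,
      by simp only [ι]; rw [← Subgroup.coe_subtype, SemidirectProduct.inl_aut, map_inv]⟩
  have hc : (Nat.card A').Coprime (Nat.card (X.map ι)) := by
    rw [card_map_of_injective SemidirectProduct.inl_injective,
      Nat.card_congr (MonoidHom.ofInjective SemidirectProduct.inr_injective).toEquiv.symm, Nat.card_zpowers]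
    exact hcop.coprime_dvd_right X.card_subgroup_dvd_card
  let e : X ≃* X.map ι := X.equivMapOfInjective ι SemidirectProduct.inl_injective
  obtain ⟨P, hP⟩ := CfsgLib.Core.exists_invariant_sylow hAX hc
    (Or.inr (Group.isSolvable_of_surjective (f := e.toMonoidHom) e.surjective)) p
  refine ⟨P.comapOfInjective e.toMonoidHom e.injective (fun y _ => e.surjective y), ?_⟩
  rintro _ ⟨y, hy, rfl⟩
  have hy' : ι (y : G) ∈ (P : Subgroup (X.map ι)).map (X.map ι).subtype := ⟨e y, hy, rfl⟩
  have hs : (SemidirectProduct.inr (⟨σ, mem_zpowers σ⟩ : zpowers σ) : Γ) ∈ A' := ⟨_, rfl⟩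
  have h1 := (mem_normalizer_iff.mp (hP hs) _).mp hy'
  simp only [ι] at h1
  rw [← map_inv, ← SemidirectProduct.inl_aut] at h1
  obtain ⟨z, hz, hz'⟩ := h1
  have hσy : σ y ∈ X := hX _ y.2
  refine ⟨⟨σ y, hσy⟩, ?_, rfl⟩
  show e ⟨σ y, hσy⟩ ∈ (P : Subgroup (X.map ι))
  have : e ⟨σ y, hσy⟩ = z := Subtype.ext hz'.symm
  rw [this]
  exact hz

end CfsgLib.PGroups.Turull
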