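import Mathlib
import Cfsg.Agent.Lib.PGroups.Turull.TowerBasic
import Cfsg.Agent.Lib.Core.Cores
import Cfsg.Agent.Lib.Core.MinNormal
import Cfsg.Agent.Lib.PGroups.Alperin.BoundedOrder

/-!
# Existence of towers

`exists_tower`: a solvable group without a nilpotent series of length `L` has a tower of length `L + 1`
-/

set_option autoImplicit false
set_option linter.all false
set_option maxHeartbeats 1000000

namespace CfsgLib.PGroups.Turull

open scoped commutatorElement Pointwise
open Subgroup

universe u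

theorem apply_mem_iff_of_mapsTo {G : Type*} [Group G] [Finite G] {σ : MulAut G} {Q : Subgroup G}
    (h : ∀ x ∈ Q, σ x ∈ Q) (x : G) : x ∈ Q ↔ σ x ∈ Q := by
  refine ⟨h x, fun hx => ?_⟩
  have hinj : Function.Injective (fun y : Q => (⟨σ y, h y y.2⟩ : Q)) := fun a b hab =>
    Subtype.ext (σ.injective (congrArg Subtype.val hab))
  obtain ⟨y, hy⟩ := Finite.surjective_of_injective hinj ⟨σ x, hx⟩
  rw [← σ.injective (congrArg Subtype.val hy : σ (y : G) = σ x)]
  exact y.2

theorem apply_mem_normalizer {G : Type*} [Group G] [Finite G] {σ : MulAut G} {Q : Subgroup G}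
    (h : ∀ x ∈ Q, σ x ∈ Q) {g : G} (hg : g ∈ normalizer (Q : Set G)) :
    σ g ∈ normalizer (Q : Set G) := by
  rw [mem_normalizer_iff]
  intro y
  obtain ⟨z, rfl⟩ := σ.surjective y
  rw [← map_inv, ← map_mul, ← map_mul, ← apply_mem_iff_of_mapsTo h, ← apply_mem_iff_of_mapsTo h]
  exact mem_normalizer_iff.mp hg z

theorem iter_le {G : Type*} [Group G] {σ : MulAut G} {L : ℕ} {pr : ℕ → ℕ} {Q : ℕ → Subgroup G}
    (hnorm : ∀ l k, l ≤ k → k ≤ L → Q l ≤ normalizer (Q k : Set G)) :
    ∀ l ≤ L, iter Q l ≤ Q l := by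
  intro l
  induction l with
  | zero => exact fun _ => le_rfl
  | succ l ih =>
    intro hl
    exact commutator_le_left' ((ih (by omega)).trans (hnorm l (l + 1) (by omega) hl))

/-- A `t`-element of the Fitting subgroup lies in `O_t`. -/
theorem mem_pCore_of_fitting {G : Type*} [Group G] [Finite G] {t : ℕ} [ht : Fact t.Prime] {x : G}
    (hx : x ∈ Cfsg.fittingSubgroup G) {k : ℕ} (hk : x ^ t ^ k = 1) : x ∈ Cfsg.pCore t G := by
  set F := Cfsg.fittingSubgroup G with hF
  haveI := CfsgLib.Core.isNilpotent_fittingSubgroup G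
  haveI : F.Normal := CfsgLib.Core.normal_fittingSubgroup G
  have hxP : IsPGroup t (zpowers (⟨x, hx⟩ : F)) := by
    obtain ⟨j, -, hj⟩ := (Nat.dvd_prime_pow ht.out).mp (orderOf_dvd_of_pow_eq_one hk)
    refine IsPGroup.of_card (n := j) ?_
    rw [Nat.card_zpowers, Subgroup.orderOf_mk, hj]
  obtain ⟨P, hP⟩ := hxP.exists_le_sylow
  haveI : (P : Subgroup F).Normal := inferInstance
  haveI : (P : Subgroup F).Characteristic := P.characteristic_of_normal inferInstance
  exact CfsgLib.Core.le_pCore (P.isPGroup'.map F.subtype)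
    ⟨⟨x, hx⟩, hP (mem_zpowers _), rfl⟩

/-- Extend a series of the quotient by the Fitting subgroup. -/
theorem hasChain_succ {G : Type*} [Group G] [Finite G] {n : ℕ}
    (h : HasChain (G ⧸ Cfsg.fittingSubgroup G) n) : HasChain G (n + 1) := by
  set N := Cfsg.fittingSubgroup G with hN
  obtain ⟨F, hF0, hFlast, hFmono, hFn, hFnil⟩ := h
  refine ⟨Fin.cons ⊥ fun i => (F i).comap (QuotientGroup.mk' N), Fin.cons_zero _ _, ?_, ?_, ?_, ?_⟩
  · rw [← Fin.succ_last, Fin.cons_succ, hFlast, Subgroup.comap_top]
  · refine Fin.monotone_iff_le_succ.mpr fun i => ?_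
    refine Fin.cases ?_ (fun i => ?_) i
    · exact bot_le
    · rw [← Fin.succ_castSucc, Fin.cons_succ, Fin.cons_succ]
      exact Subgroup.comap_mono (Fin.monotone_iff_le_succ.mp hFmono i)
  · intro i
    refine Fin.cases ?_ (fun i => ?_) i
    · rw [Fin.cons_zero]; infer_instance
    · rw [Fin.cons_succ]; exact (hFn i).comap _
  · intro i
    refine Fin.cases ?_ (fun i => ?_) i
    · rw [Fin.castSucc_zero, Fin.cons_zero, Fin.cons_succ, hF0]
      have hk : (⊥ : Subgroup (G ⧸ N)).comap (QuotientGroup.mk' N) = N := by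
        rw [MonoidHom.comap_bot, QuotientGroup.ker_mk']
      rw [hk]
      haveI : Group.IsNilpotent N := CfsgLib.Core.isNilpotent_fittingSubgroup G
      obtain ⟨k, hk⟩ := _root_.nilpotent_iff_lowerCentralSeries.mp (inferInstance : Group.IsNilpotent N)
      refine ⟨k, ?_⟩
      have hmap : ∀ j, ((⊤ : Subgroup N).lowerCentralSeries j).map N.subtype = N.lowerCentralSeries j := by
        intro j
        induction j with
        | zero => rw [Subgroup.lowerCentralSeries_zero, Subgroup.lowerCentralSeries_zero,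
            ← MonoidHom.range_eq_map, Subgroup.range_subtype]
        | succ j ihj => rw [Subgroup.lowerCentralSeries_succ, Subgroup.lowerCentralSeries_succ,
            Subgroup.map_commutator, ihj, ← MonoidHom.range_eq_map, Subgroup.range_subtype]
      rw [← hmap, hk, Subgroup.map_bot]
    · obtain ⟨k, hk⟩ := hFnil i
      refine ⟨k, ?_⟩
      rw [← Fin.succ_castSucc, Fin.cons_succ, Fin.cons_succ]
      have hle : ∀ j, (((F i.succ).comap (QuotientGroup.mk' N)).lowerCentralSeries j).map
          (QuotientGroup.mk' N) ≤ (F i.succ).lowerCentralSeries j := by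
        intro j
        induction j with
        | zero => exact Subgroup.map_comap_le _ _
        | succ j ihj =>
          rw [Subgroup.lowerCentralSeries_succ, Subgroup.lowerCentralSeries_succ, Subgroup.map_commutator]
          exact Subgroup.commutator_mono ihj (Subgroup.map_comap_le _ _)
      exact Subgroup.map_le_iff_le_comap.mp ((hle k).trans hk)

/-- The common normalizer of the members from `j` on. -/
def normAbove {G : Type*} [Group G] (Q : ℕ → Subgroup G) (L j : ℕ) : Subgroup G :=
  ⨅ k ∈ Finset.Icc j L, normalizer (Q k : Set G)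

theorem mem_normAbove {G : Type*} [Group G] {Q : ℕ → Subgroup G} {L j : ℕ} {g : G} :
    g ∈ normAbove Q L j ↔ ∀ k, j ≤ k → k ≤ L → g ∈ normalizer (Q k : Set G) := by
  simp [normAbove, Subgroup.mem_iInf, Finset.mem_Icc, and_imp]

section Lift

variable {G : Type*} [Group G] [Finite G] [Group.IsSolvable G] {σ : MulAut G} (N : Subgroup G) [N.Normal]
  {σ' : MulAut (G ⧸ N)} {L : ℕ} {pr : ℕ → ℕ} {Qb : ℕ → Subgroup (G ⧸ N)}

/-- Lifting a tower from a quotient. -/
theorem lift_tower (hσ' : ∀ x : G, σ' (x : G ⧸ N) = ((σ x : G) : G ⧸ N))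
    (hcop : (orderOf σ).Coprime (Nat.card G)) (hT : Tower σ' L pr Qb) :
    ∃ Q : ℕ → Subgroup G, Tower σ L pr Q ∧ ∀ l ≤ L, (Q l).map (QuotientGroup.mk' N) = Qb l := by
  classical
  set π := QuotientGroup.mk' N with hπ
  suffices hd : ∀ d, d ≤ L + 1 → ∃ Q : ℕ → Subgroup G, ∀ j, j + d = L + 1 →
      (∀ l, j ≤ l → l ≤ L → IsPGroup (pr l) (Q l) ∧ (∀ x ∈ Q l, σ x ∈ Q l) ∧ (Q l).map π = Qb l ∧
        Q l ≤ normAbove Q L l) ∧
      ∀ l < j, l ≤ L → Qb l ≤ (normAbove Q L j).map π by
    obtain ⟨Q, hQ⟩ := hd (L + 1) le_rfl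
    have h0 := (hQ 0 (by omega)).1
    have hnorm : ∀ l k, l ≤ k → k ≤ L → Q l ≤ normalizer (Q k : Set G) := fun l k hlk hk x hx =>
      mem_normAbove.mp ((h0 l (Nat.zero_le l) (hlk.trans hk)).2.2.2 hx) k hlk hk
    have himg : ∀ l ≤ L, (iter Q l).map π = iter Qb l := by
      intro l
      induction l with
      | zero => exact fun hl => (h0 0 le_rfl hl).2.2.1
      | succ l ih =>
        intro hl
        show (⁅Q (l + 1), iter Q l⁆).map π = ⁅Qb (l + 1), iter Qb l⁆
        rw [Subgroup.map_commutator, ih (by omega), (h0 (l + 1) (Nat.zero_le _) hl).2.2.1]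
    exact ⟨Q, ⟨hT.prime, hT.ne, fun l hl => (h0 l (Nat.zero_le l) hl).1,
      fun l hl => (h0 l (Nat.zero_le l) hl).2.1, hnorm, fun hbot => hT.top (by
        rw [← himg L le_rfl, hbot, Subgroup.map_bot])⟩, fun l hl => (h0 l (Nat.zero_le l) hl).2.2.1⟩
  intro d
  induction d with
  | zero =>
    refine fun _ => ⟨fun _ => ⊥, fun j hj => ⟨fun l h1 h2 => absurd h1 (by omega), fun l _ _ => ?_⟩⟩
    intro x _
    obtain ⟨y, rfl⟩ := QuotientGroup.mk'_surjective N x
    exact ⟨y, mem_normAbove.mpr fun k h1 h2 => absurd h1 (by omega), rfl⟩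
  | succ d ih =>
    intro hdL
    obtain ⟨Q, hQ⟩ := ih (by omega)
    set i := L - d with hi
    obtain ⟨hQ1, hQ2⟩ := hQ (i + 1) (by omega)
    set Y := normAbove Q L (i + 1) with hY
    have hiL : i ≤ L := by omega
    haveI := Fact.mk (hT.prime i hiL)
    have hYσ : ∀ y ∈ Y, σ y ∈ Y := fun y hy => mem_normAbove.mpr fun k h1 h2 =>
      apply_mem_normalizer (hQ1 k h1 h2).2.1 (mem_normAbove.mp hy k h1 h2)
    let X : Subgroup G := Y ⊓ (Qb i).comap π
    have hXσ : ∀ x ∈ X, σ x ∈ X := fun x hx => ⟨hYσ x hx.1, by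
      show π (σ x) ∈ Qb i
      rw [hπ, QuotientGroup.mk'_apply, ← hσ']
      exact hT.inv i hiL _ hx.2⟩
    obtain ⟨P, hP⟩ := exists_invariant_sylow' hXσ hcop (pr i)
    set Pi := (P : Subgroup X).map X.subtype with hPi
    have hPiX : Pi ≤ X := map_subtype_le _
    have hPimg : Pi.map π = Qb i := by
      let f : X →* Qb i := (π.comp X.subtype).codRestrict (Qb i) fun x => x.2.2
      have hf : Function.Surjective f := by
        rintro ⟨z, hz⟩
        obtain ⟨y, hy, rfl⟩ := hQ2 i (by omega) hiL hz
        exact ⟨⟨y, hy, hz⟩, rfl⟩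
      let Pq := P.mapSurjective hf
      have htop : (Pq : Subgroup (Qb i)) = ⊤ :=
        (Pq.is_maximal' ((hT.isP i hiL).of_equiv Subgroup.topEquiv.symm) le_top).symm
      refine le_antisymm ?_ fun z hz => ?_
      · rintro _ ⟨x, hx, rfl⟩
        exact (hPiX hx).2
      · have : (⟨z, hz⟩ : Qb i) ∈ (Pq : Subgroup (Qb i)) := htop ▸ Subgroup.mem_top _
        obtain ⟨x, hx, hxz⟩ := this
        exact ⟨(x : G), ⟨x, hx, rfl⟩, congrArg Subtype.val hxz⟩
    refine ⟨Function.update Q i Pi, fun j hj => ?_⟩
    obtain rfl : j = i := by omega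
    have hupd : ∀ k, i + 1 ≤ k → Function.update Q i Pi k = Q k := fun k hk =>
      Function.update_of_ne (by omega) _ _
    have hnorm : ∀ g, g ∈ normAbove (Function.update Q i Pi) L i ↔
        g ∈ normalizer (Pi : Set G) ∧ g ∈ Y := by
      intro g
      rw [mem_normAbove, hY, mem_normAbove]
      refine ⟨fun h => ⟨?_, fun k h1 h2 => ?_⟩, fun h k h1 h2 => ?_⟩
      · simpa using h i le_rfl hiL
      · have := h k (by omega) h2
        rwa [hupd k h1] at this
      · rcases eq_or_lt_of_le h1 with rfl | h1'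
        · simpa using h.1
        · rw [hupd k h1']
          exact h.2 k h1' h2
    refine ⟨fun l hl hlL => ?_, fun l hl hlL z hz => ?_⟩
    · rcases eq_or_lt_of_le hl with rfl | hl'
      · rw [Function.update_self]
        exact ⟨P.isPGroup'.map _, hP, hPimg,
          fun x hx => (hnorm x).mpr ⟨le_normalizer hx, (hPiX hx).1⟩⟩
      · rw [hupd l hl']
        obtain ⟨h1, h2, h3, h4⟩ := hQ1 l hl' hlL
        refine ⟨h1, h2, h3, fun x hx => mem_normAbove.mpr fun k h5 h6 => ?_⟩
        rw [hupd k (by omega)]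
        exact mem_normAbove.mp (h4 hx) k h5 h6
    · obtain ⟨g, hg, rfl⟩ := hQ2 l (by omega) hlL hz
      -- Frattini
      have hgX : MulAut.conj g • Pi ≤ X := by
        intro x hx
        rw [Subgroup.mem_pointwise_smul_iff_inv_smul_mem] at hx
        simp only [MulAut.smul_def, ← map_inv, MulAut.conj_apply, inv_inv] at hx
        have hx' := hPiX hx
        refine ⟨?_, ?_⟩
        · have := Y.mul_mem (Y.mul_mem hg hx'.1) (Y.inv_mem hg)
          simpa [mul_assoc] using this
        · show π x ∈ Qb i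
          have h1 := (mem_normalizer_iff.mp (hT.norm l i (by omega) hiL hz) _).mp
            (show π (g⁻¹ * x * g) ∈ Qb i from hx'.2)
          simpa [mul_assoc] using h1
      obtain ⟨k, hk, hkP⟩ := CfsgLib.Core.exists_conj_of_card_eq P hgX
        (CfsgLib.Core.card_conj_smul _ _)
      have hn : k⁻¹ * g ∈ normalizer (Pi : Set G) := by
        rw [CfsgLib.Core.mem_normalizer_iff_conj_smul_eq, map_mul, mul_smul, ← hkP, map_inv,
          inv_smul_smul]
      have hkim : π k ∈ Qb i := hk.2
      obtain ⟨p, hp, hpk⟩ := hPimg.ge hkim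
      refine ⟨p * (k⁻¹ * g), (hnorm _).mpr ⟨mul_mem (le_normalizer hp) hn,
        mul_mem (hPiX hp).1 (mul_mem (inv_mem hk.1) hg)⟩, ?_⟩
      rw [map_mul, map_mul, map_inv, hpk, mul_inv_cancel_left]

end Lift

/-- A solvable group without a short series has a long tower. -/
theorem exists_tower : ∀ (L : ℕ) (G : Type u) [Group G] [Finite G], Group.IsSolvable G →
    ∀ σ : MulAut G, (orderOf σ).Coprime (Nat.card G) → ¬ HasChain G L →
      ∃ (pr : ℕ → ℕ) (Q : ℕ → Subgroup G), Tower σ L pr Q ∧ Q L ≤ Cfsg.pCore (pr L) G := by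
  intro L
  induction L with
  | zero =>
    intro G _ _ hG σ _ hno
    haveI := hG
    have hnt : Nontrivial G := by
      by_contra hn
      haveI := not_nontrivial_iff_subsingleton.mp hn
      exact hno ⟨fun _ => ⊥, rfl, Subsingleton.elim _ _, monotone_const, fun _ => inferInstance,
        fun i => i.elim0⟩
    obtain ⟨p, hp, hne⟩ := CfsgLib.Core.exists_pCore_ne_bot (G := G)
    refine ⟨fun _ => p, fun _ => Cfsg.pCore p G, ⟨fun _ _ => hp, fun l hl => absurd hl (Nat.not_lt_zero l),
      fun _ _ => CfsgLib.Core.isPGroup_pCore p G, fun _ _ x hx => ?_, fun _ _ _ _ =>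
        Subgroup.le_normalizer_of_normal, hne⟩, le_rfl⟩
    exact (CfsgLib.PGroups.Alperin.mem_iff_of_char σ (Cfsg.pCore p G) x).mp hx
  | succ L ih =>
    intro G _ _ hG σ hcop hno
    classical
    haveI := hG
    set N := Cfsg.fittingSubgroup G with hN
    haveI : N.Characteristic := by rw [hN]; infer_instance
    let σ' := CfsgLib.PGroups.Alperin.onQuot σ N (CfsgLib.PGroups.Alperin.mem_iff_of_char σ N)
    have hord : σ' ^ orderOf σ = 1 := MulEquiv.ext fun a => by
      induction a using QuotientGroup.induction_on with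
      | H x => rw [CfsgLib.PGroups.Alperin.onQuot_pow, pow_orderOf_eq_one]; rfl
    have hcop' : (orderOf σ').Coprime (Nat.card (G ⧸ N)) :=
      (hcop.coprime_dvd_left (orderOf_dvd_of_pow_eq_one hord)).coprime_dvd_right N.card_quotient_dvd_card
    obtain ⟨pr, Qb, hT, hbot⟩ := ih (G ⧸ N) inferInstance σ' hcop' fun h => hno (hasChain_succ h)
    obtain ⟨Q, hQ, hQim⟩ := lift_tower (σ := σ) N (σ' := σ') (fun x => rfl) hcop hT
    set p := pr L with hp
    haveI : Fact p.Prime := ⟨hT.prime L le_rfl⟩
    set S := iter Q L with hS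
    -- a prime at which the bottom is not centralised
    obtain ⟨t, ht, htp, htc⟩ : ∃ t : ℕ, t.Prime ∧ t ≠ p ∧ ⁅Cfsg.pCore t G, S⁆ ≠ ⊥ := by
      by_contra hcon
      push Not at hcon
      let Yp : Subgroup G := (Cfsg.pCore p (G ⧸ N)).comap (QuotientGroup.mk' N)
      let D : Subgroup G := Yp ⊓ ⨅ t : {t : ℕ // t.Prime ∧ t ≠ p},
        centralizer (Cfsg.pCore (t : ℕ) G : Set G)
      haveI hDn : D.Normal := by
        haveI : Yp.Normal := Subgroup.Normal.comap inferInstance _
        haveI : (⨅ t : {t : ℕ // t.Prime ∧ t ≠ p}, centralizer (Cfsg.pCore (t : ℕ) G : Set G)).Normal :=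
          Subgroup.normal_iInf_normal fun t => Subgroup.normal_centralizer
        infer_instance
      have hSD : S ≤ D := by
        refine le_inf (fun x hx => hbot ?_) (le_iInf fun t => ?_)
        · rw [← hQim L le_rfl]
          exact mem_map_of_mem _ (iter_le (σ := σ) (pr := pr) hQ.norm L le_rfl hx)
        · exact Subgroup.le_centralizer_iff.mpr
            (commutator_eq_bot_iff_le_centralizer.mp (hcon t t.2.1 t.2.2))
      -- every `t`-element of `D` is central
      have hcent : ∀ t : ℕ, t.Prime → t ≠ p → ∀ x : D, (∃ k, (x : G) ^ t ^ k = 1) → x ∈ center D := by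
        intro t ht' htp' x hx
        haveI := Fact.mk ht'
        obtain ⟨k, hk⟩ := hx
        obtain ⟨j, hj⟩ := CfsgLib.Core.isPGroup_pCore p (G ⧸ N)
          ⟨QuotientGroup.mk' N (x : G), x.2.1⟩
        have hj' : (QuotientGroup.mk' N (x : G)) ^ p ^ j = 1 := congrArg Subtype.val hj
        have hk' : (QuotientGroup.mk' N (x : G)) ^ t ^ k = 1 := by rw [← map_pow, hk, map_one]
        have h3 := pow_gcd_eq_one.mpr ⟨hk', hj'⟩
        rw [(((Nat.coprime_primes ht' (hT.prime L le_rfl)).mpr htp').pow k j).gcd_eq_one, pow_one,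
          QuotientGroup.mk'_apply, QuotientGroup.eq_one_iff] at h3
        have hxt := mem_pCore_of_fitting (t := t) h3 hk
        rw [Subgroup.mem_center_iff]
        intro y
        exact Subtype.ext (mem_centralizer_iff.mp
          (Subgroup.mem_iInf.mp y.2.2 (⟨t, ht', htp'⟩ : {t : ℕ // t.Prime ∧ t ≠ p})) (x : G) hxt).symm
      have hquot : IsPGroup p (D ⧸ center D) := by
        refine IsPGroup.of_card (n := (Nat.card (D ⧸ center D)).factorization p) ?_
        refine Nat.eq_pow_of_factorization_eq_single Nat.card_pos.ne' ?_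
        ext t
        by_cases htp' : t = p
        · subst htp'; simp
        rw [Finsupp.single_eq_of_ne htp']
        by_cases ht' : t.Prime
        swap
        · exact Nat.factorization_eq_zero_of_not_prime _ ht'
        refine Nat.factorization_eq_zero_of_not_dvd fun hd => ?_
        haveI := Fact.mk ht'
        obtain ⟨P⟩ := (Sylow.nonempty : Nonempty (Sylow t D))
        have hle : (P : Subgroup D) ≤ center D := fun x hx => by
          obtain ⟨k, hk⟩ := P.isPGroup' ⟨x, hx⟩
          exact hcent t ht' htp' x ⟨k, by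
            have := congrArg (fun z : P => ((z : D) : G)) hk
            simpa using this⟩
        have h1 : t ∣ (P : Subgroup D).index :=
          hd.trans ((Subgroup.index_eq_card (center D)).symm ▸ Subgroup.index_dvd_of_le hle)
        exact P.not_dvd_index h1
      haveI := hquot.isNilpotent
      have hDnil : Group.IsNilpotent D := _root_.isNilpotent_of_ker_le_center
        (QuotientGroup.mk' (center D)) (by rw [QuotientGroup.ker_mk'])
      have hDF : D ≤ N := CfsgLib.Core.le_fittingSubgroup hDnil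
      have hSim : S.map (QuotientGroup.mk' N) = ⊥ :=
        (Subgroup.map_eq_bot_iff _).mpr (by rw [QuotientGroup.ker_mk']; exact hSD.trans hDF)
      have himg : ∀ l ≤ L, (iter Q l).map (QuotientGroup.mk' N) = iter Qb l := by
        intro l
        induction l with
        | zero => exact fun hl => hQim 0 hl
        | succ l ihl =>
          intro hl
          show (⁅Q (l + 1), iter Q l⁆).map _ = ⁅Qb (l + 1), iter Qb l⁆
          rw [Subgroup.map_commutator, ihl (by omega), hQim (l + 1) hl]
      exact hT.top ((himg L le_rfl).symm.trans hSim)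
    refine ⟨fun l => if l ≤ L then pr l else t, fun l => if l ≤ L then Q l else Cfsg.pCore t G, ?_, ?_⟩
    · have hiter : ∀ l ≤ L, iter (fun l => if l ≤ L then Q l else Cfsg.pCore t G) l = iter Q l := by
        intro l
        induction l with
        | zero => intro _; show (if 0 ≤ L then Q 0 else Cfsg.pCore t G) = Q 0; rw [if_pos (Nat.zero_le L)]
        | succ l ihl =>
          intro hl
          show ⁅(if l + 1 ≤ L then Q (l + 1) else Cfsg.pCore t G), _⁆ = ⁅Q (l + 1), iter Q l⁆
          rw [if_pos hl, ihl (by omega)]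
      refine ⟨fun l hl => ?_, fun l hl => ?_, fun l hl => ?_, fun l hl => ?_, fun l k hlk hk => ?_, ?_⟩
      · split_ifs with h
        exacts [hQ.prime l h, ht]
      · by_cases h : l < L
        · rw [if_pos h.le, if_pos (by omega)]; exact hQ.ne l h
        · rw [if_pos (by omega), if_neg (by omega), show l = L by omega]
          exact htp.symm
      · by_cases h : l ≤ L
        · rw [if_pos h, if_pos h]; exact hQ.isP l h
        · rw [if_neg h, if_neg h]; exact CfsgLib.Core.isPGroup_pCore t G
      · by_cases h : l ≤ L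
        · simp only [if_pos h]; exact hQ.inv l h
        · simp only [if_neg h]
          exact fun x hx => (CfsgLib.PGroups.Alperin.mem_iff_of_char σ _ x).mp hx
      · by_cases h : k ≤ L
        · simp only [if_pos h, if_pos (hlk.trans h)]; exact hQ.norm l k hlk h
        · simp only [if_neg h]; exact Subgroup.le_normalizer_of_normal
      · show ⁅(if L + 1 ≤ L then Q (L + 1) else Cfsg.pCore t G), _⁆ ≠ ⊥
        rw [if_neg (by omega), hiter L le_rfl]
        exact htc
    · simp

end CfsgLib.PGroups.Turull
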