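import Mathlib
import Cfsg.Agent.Lib.PGroups.Turull.TowerExists
import Cfsg.Agent.Lib.PGroups.Basic

/-!
# Minimal towers

* `zk`: the kernels of a tower; `nk`: the largest invariant proper subgroups of a minimal tower
* `MinTower.fixed`: the members below the first moved one are fixed
-/

set_option autoImplicit false
set_option linter.all false
set_option maxHeartbeats 1000000

namespace CfsgLib.PGroups.Turull

open scoped commutatorElement
open Subgroup

variable {G : Type*} [Group G]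

/-- The elements centralising `A` modulo `N`. -/
def modCent (A N : Subgroup G) : Subgroup G where
  carrier := {x | x ∈ normalizer (N : Set G) ∧ ∀ y ∈ A, ⁅y, x⁆ ∈ N}
  one_mem' := ⟨one_mem _, fun y _ => by rw [commutatorElement_one_right]; exact one_mem N⟩
  mul_mem' := fun {a b} ha hb => ⟨mul_mem ha.1 hb.1, fun y hy => by
    rw [show ⁅y, a * b⁆ = ⁅y, a⁆ * (a * ⁅y, b⁆ * a⁻¹) by simp [commutatorElement_def, mul_assoc]]
    exact N.mul_mem (ha.2 y hy) ((mem_normalizer_iff.mp ha.1 _).mp (hb.2 y hy))⟩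
  inv_mem' := fun {a} ha => ⟨inv_mem ha.1, fun y hy => by
    rw [show ⁅y, a⁻¹⁆ = a⁻¹ * ⁅y, a⁆⁻¹ * a by simp [commutatorElement_def, mul_assoc]]
    exact (mem_normalizer_iff''.mp ha.1 _).mp (N.inv_mem (ha.2 y hy))⟩

theorem mem_modCent {A N : Subgroup G} {x : G} :
    x ∈ modCent A N ↔ x ∈ normalizer (N : Set G) ∧ ∀ y ∈ A, ⁅y, x⁆ ∈ N := Iff.rfl

theorem modCent_normalizes {A N : Subgroup G} {g : G} (hA : g ∈ normalizer (A : Set G))
    (hN : g ∈ normalizer (N : Set G)) : g ∈ normalizer (modCent A N : Set G) := by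
  have hstep : ∀ g, g ∈ normalizer (A : Set G) → g ∈ normalizer (N : Set G) →
      ∀ x ∈ modCent A N, g * x * g⁻¹ ∈ modCent A N := by
    intro g hA hN x hx
    refine ⟨mul_mem (mul_mem hN hx.1) (inv_mem hN), fun y hy => ?_⟩
    have h1 := (mem_normalizer_iff.mp hN _).mp (hx.2 _ ((mem_normalizer_iff''.mp hA y).mp hy))
    rwa [show g * ⁅g⁻¹ * y * g, x⁆ * g⁻¹ = ⁅y, g * x * g⁻¹⁆ by
      simp [commutatorElement_def, mul_assoc]] at h1
  rw [mem_normalizer_iff]
  intro x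
  refine ⟨hstep g hA hN x, fun hx => ?_⟩
  have := hstep g⁻¹ (inv_mem hA) (inv_mem hN) _ hx
  simpa [mul_assoc] using this

theorem modCent_inv [Finite G] {σ : MulAut G} {A N : Subgroup G} (hA : ∀ x ∈ A, σ x ∈ A)
    (hN : ∀ x ∈ N, σ x ∈ N) : ∀ x ∈ modCent A N, σ x ∈ modCent A N := fun x hx =>
  ⟨apply_mem_normalizer hN hx.1, fun y hy => by
    obtain ⟨z, rfl⟩ := σ.surjective y
    rw [← map_commutatorElement]
    exact hN _ (hx.2 z ((apply_mem_iff_of_mapsTo hA z).mpr hy))⟩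

/-- The kernels, by distance from the bottom. -/
def zkd (Q : ℕ → Subgroup G) : ℕ → ℕ → Subgroup G
  | 0, _ => ⊥
  | j + 1, l => Q l ⊓ modCent (Q (l + 1)) (zkd Q j (l + 1))

/-- The kernels. -/
def zk (Q : ℕ → Subgroup G) (L l : ℕ) : Subgroup G := zkd Q (L - l) l

theorem zk_self (Q : ℕ → Subgroup G) (L : ℕ) : zk Q L L = ⊥ := by
  rw [zk, Nat.sub_self]; rfl

theorem zk_succ (Q : ℕ → Subgroup G) {L l : ℕ} (hl : l < L) :
    zk Q L l = Q l ⊓ modCent (Q (l + 1)) (zk Q L (l + 1)) := by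
  rw [zk, show L - l = (L - (l + 1)) + 1 by omega]
  rfl

theorem zk_le (Q : ℕ → Subgroup G) (L l : ℕ) : zk Q L l ≤ Q l := by
  rw [zk]
  cases L - l with
  | zero => exact bot_le
  | succ j => exact inf_le_left

/-- The large invariant subgroups. -/
def nk (Q : ℕ → Subgroup G) (L : ℕ) : ℕ → Subgroup G
  | 0 => zk Q L 0
  | l + 1 => Q (l + 1) ⊓ modCent (Q l) (zk Q L (l + 1))

theorem nk_le (Q : ℕ → Subgroup G) (L : ℕ) : ∀ l, nk Q L l ≤ Q l
  | 0 => zk_le Q L 0
  | _ + 1 => inf_le_left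

theorem iter_congr {Q Q' : ℕ → Subgroup G} {l k : ℕ} (hlk : l ≤ k) (h0 : iter Q' l = iter Q l)
    (h : ∀ j, l < j → j ≤ k → Q' j = Q j) : iter Q' k = iter Q k := by
  induction k, hlk using Nat.le_induction with
  | base => exact h0
  | succ k hlk ih =>
    show ⁅Q' (k + 1), iter Q' k⁆ = ⁅Q (k + 1), iter Q k⁆
    rw [h (k + 1) (by omega) le_rfl, ih fun j h1 h2 => h j h1 (by omega)]

variable [Finite G] {σ : MulAut G} {L : ℕ} {pr : ℕ → ℕ} {Q : ℕ → Subgroup G}

/-- The kernel is invariant. -/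
theorem Tower.zk_norm (hT : Tower σ L pr Q) : ∀ l ≤ L,
    (∀ x ∈ zk Q L l, σ x ∈ zk Q L l) ∧ ∀ k ≤ l, Q k ≤ normalizer (zk Q L l : Set G) := by
  suffices h : ∀ d l, l + d = L →
      (∀ x ∈ zk Q L l, σ x ∈ zk Q L l) ∧ ∀ k ≤ l, Q k ≤ normalizer (zk Q L l : Set G) from
    fun l hl => h (L - l) l (by omega)
  intro d
  induction d with
  | zero =>
    intro l hl
    obtain rfl : l = L := by omega
    rw [zk_self]
    exact ⟨fun x hx => by rw [Subgroup.mem_bot] at hx ⊢; rw [hx, map_one],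
      fun k _ => le_top.trans (le_of_eq (Subgroup.normalizer_eq_top (⊥ : Subgroup G)).symm)⟩
  | succ d ih =>
    intro l hl
    obtain ⟨hi, hn⟩ := ih (l + 1) (by omega)
    rw [zk_succ Q (show l < L by omega)]
    refine ⟨fun x hx => ⟨hT.inv l (by omega) x hx.1,
      modCent_inv (hT.inv (l + 1) (by omega)) hi x hx.2⟩, fun k hk g hg => ?_⟩
    exact inf_normalizer_le_normalizer_inf ⟨hT.norm k l hk (by omega) hg,
      modCent_normalizes (hT.norm k (l + 1) (by omega) (by omega) hg) (hn k (by omega) hg)⟩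

theorem Tower.mem_zk (hT : Tower σ L pr Q) {l : ℕ} (hl : l < L) {x : G} :
    x ∈ zk Q L l ↔ x ∈ Q l ∧ ∀ y ∈ Q (l + 1), ⁅y, x⁆ ∈ zk Q L (l + 1) := by
  rw [zk_succ Q hl]
  exact ⟨fun h => ⟨h.1, h.2.2⟩, fun h => ⟨h.1, (hT.zk_norm (l + 1) hl).2 l (Nat.le_succ l) h.1, h.2⟩⟩

theorem Tower.mem_nk (hT : Tower σ L pr Q) {l : ℕ} (hl : l + 1 ≤ L) {x : G} :
    x ∈ nk Q L (l + 1) ↔ x ∈ Q (l + 1) ∧ ∀ y ∈ Q l, ⁅y, x⁆ ∈ zk Q L (l + 1) :=
  ⟨fun h => ⟨h.1, h.2.2⟩, fun h => ⟨h.1, (hT.zk_norm (l + 1) hl).2 (l + 1) le_rfl h.1, h.2⟩⟩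

theorem Tower.zk_le_nk (hT : Tower σ L pr Q) : ∀ l ≤ L, zk Q L l ≤ nk Q L l := by
  rintro (_ | l) hl
  · exact le_rfl
  intro z hz
  rw [hT.mem_nk hl]
  refine ⟨zk_le Q L _ hz, fun y hy => ?_⟩
  rw [commutatorElement_def]
  exact mul_mem ((mem_normalizer_iff.mp ((hT.zk_norm (l + 1) hl).2 l (Nat.le_succ l) hy) z).mp hz)
    (inv_mem hz)

theorem Tower.iter_zk_step (hT : Tower σ L pr Q) {l : ℕ} (hl : l < L) {S : Subgroup G}
    (hS : S ≤ zk Q L l) : ⁅Q (l + 1), S⁆ ≤ zk Q L (l + 1) :=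
  commutator_le.mpr fun y hy x hx => ((hT.mem_zk hl).mp (hS hx)).2 y hy

theorem Tower.iter_zk_conv (hT : Tower σ L pr Q) : ∀ d l, l + d = L → ∀ Q' : ℕ → Subgroup G,
    (∀ j, l < j → j ≤ L → Q' j = Q j) → iter Q' l ≤ Q l → iter Q' L = ⊥ → iter Q' l ≤ zk Q L l := by
  intro d
  induction d with
  | zero =>
    intro l hl Q' _ _ hbot
    obtain rfl : l = L := by omega
    rw [hbot]; exact bot_le
  | succ d ih =>
    intro l hl Q' hQ' hle hbot x hx
    have h1 : iter Q' (l + 1) = ⁅Q (l + 1), iter Q' l⁆ := by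
      show ⁅Q' (l + 1), iter Q' l⁆ = _
      rw [hQ' (l + 1) (by omega) (by omega)]
    have h2 := ih (l + 1) (by omega) Q' (fun j hj hjL => hQ' j (by omega) hjL) (by
      rw [h1]
      exact commutator_le_left' (hle.trans (hT.norm l (l + 1) (by omega) (by omega)))) hbot
    rw [h1] at h2
    exact (hT.mem_zk (by omega)).mpr ⟨hle hx, fun y hy => h2 (commutator_mem_commutator hy hx)⟩

/-- A minimal tower. -/
structure MinTower (σ : MulAut G) (L : ℕ) (pr : ℕ → ℕ) (Q : ℕ → Subgroup G) : Prop where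
  tower : Tower σ L pr Q
  min : ∀ Q' : ℕ → Subgroup G, (∀ l ≤ L, Q' l ≤ Q l) → Tower σ L pr Q' → ∀ l ≤ L, Q' l = Q l

theorem exists_minTower (hT : Tower σ L pr Q) : ∃ Q', MinTower σ L pr Q' := by
  classical
  let m : (ℕ → Subgroup G) → ℕ := fun Q => ∑ l ∈ Finset.range (L + 1), Nat.card (Q l)
  have hex : ∃ k, ∃ Q', Tower σ L pr Q' ∧ m Q' = k := ⟨_, Q, hT, rfl⟩
  obtain ⟨Q', hQ', hm⟩ := Nat.find_spec hex
  refine ⟨Q', hQ', fun Q'' hle hQ'' l hl => ?_⟩
  by_contra hne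
  have hlt : m Q'' < m Q' := by
    refine Finset.sum_lt_sum (fun k hk => Subgroup.card_le_of_le (hle k (by
      have := Finset.mem_range.mp hk; omega))) ⟨l, Finset.mem_range.mpr (by omega), ?_⟩
    exact lt_of_le_of_ne (Subgroup.card_le_of_le (hle l hl))
      fun heq => hne (Subgroup.eq_of_le_of_card_ge (hle l hl) heq.ge)
  exact Nat.find_min hex (hm ▸ hlt) ⟨Q'', hQ'', rfl⟩

/-- Replacing one member. -/
theorem Tower.update (hT : Tower σ L pr Q) {l : ℕ} (hl : l ≤ L) {X : Subgroup G} (hX : X ≤ Q l)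
    (hinv : ∀ x ∈ X, σ x ∈ X) (hnorm : ∀ k < l, Q k ≤ normalizer (X : Set G))
    (htop : iter (Function.update Q l X) L ≠ ⊥) : Tower σ L pr (Function.update Q l X) := by
  have hle : ∀ k, Function.update Q l X k ≤ Q k := fun k => by
    by_cases hk : k = l
    · subst hk; rw [Function.update_self]; exact hX
    · rw [Function.update_of_ne hk]
  refine ⟨hT.prime, hT.ne, fun k hk => (hT.isP k hk).to_le (hle k), fun k hk => ?_, fun j k hjk hk => ?_,
    htop⟩
  · by_cases hkl : k = l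
    · subst hkl; rw [Function.update_self]; exact hinv
    · rw [Function.update_of_ne hkl]; exact hT.inv k hk
  · by_cases hkl : k = l
    · subst hkl
      rw [Function.update_self]
      by_cases hjl : j = k
      · subst hjl; rw [Function.update_self]; exact Subgroup.le_normalizer
      · rw [Function.update_of_ne hjl]; exact hnorm j (by omega)
    · rw [Function.update_of_ne hkl]
      exact (hle j).trans (hT.norm j k hjk hk)

theorem Tower.commutator_inv (hT : Tower σ L pr Q) {l : ℕ} (hl : l < L) :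
    ∀ x ∈ ⁅Q (l + 1), Q l⁆, σ x ∈ ⁅Q (l + 1), Q l⁆ := by
  have h : (⁅Q (l + 1), Q l⁆).map σ.toMonoidHom ≤ ⁅Q (l + 1), Q l⁆ := by
    rw [map_commutator]
    refine commutator_mono ?_ ?_
    · rintro _ ⟨y, hy, rfl⟩; exact hT.inv (l + 1) hl y hy
    · rintro _ ⟨y, hy, rfl⟩; exact hT.inv l (by omega) y hy
  exact fun x hx => h (mem_map_of_mem _ hx)

/-- Each member is the commutator with the one above. -/
theorem MinTower.step_eq (h : MinTower σ L pr Q) {l : ℕ} (hl : l < L) :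
    ⁅Q (l + 1), Q l⁆ = Q (l + 1) := by
  have hT := h.tower
  have hn : Q l ≤ normalizer (Q (l + 1) : Set G) := hT.norm l (l + 1) (Nat.le_succ l) hl
  set X := ⁅Q (l + 1), Q l⁆ with hX
  have hXle : X ≤ Q (l + 1) := commutator_le_left' hn
  have hnorm : ∀ k < l + 1, Q k ≤ normalizer (X : Set G) := by
    intro k hk g hg
    have e : ∀ g, g ∈ normalizer (Q (l + 1) : Set G) → g ∈ normalizer (Q l : Set G) →
        ∀ x ∈ X, g * x * g⁻¹ ∈ X := by
      intro g h1 h2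
      have h3 : X.map (MulAut.conj g).toMonoidHom ≤ X := by
        rw [hX, map_commutator]
        refine commutator_mono ?_ ?_
        · rintro _ ⟨y, hy, rfl⟩; exact (mem_normalizer_iff.mp h1 y).mp hy
        · rintro _ ⟨y, hy, rfl⟩; exact (mem_normalizer_iff.mp h2 y).mp hy
      exact fun x hx => h3 (mem_map_of_mem _ hx)
    have hg1 := hT.norm k (l + 1) (by omega) hl hg
    have hg2 := hT.norm k l (by omega) (by omega) hg
    rw [mem_normalizer_iff]
    refine fun x => ⟨e g hg1 hg2 x, fun hx => ?_⟩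
    have := e g⁻¹ (inv_mem hg1) (inv_mem hg2) _ hx
    simpa [mul_assoc] using this
  set Q' := Function.update Q (l + 1) X with hQ'
  have hle : ∀ k, Q' k ≤ Q k := fun k => by
    by_cases hk : k = l + 1
    · subst hk; rw [hQ', Function.update_self]; exact hXle
    · rw [hQ', Function.update_of_ne hk]
  have hlow : ∀ k ≤ l, iter Q' k = iter Q k := fun k hk => by
    refine iter_congr (Nat.zero_le k) ?_ fun j _ hj => ?_
    · show Q' 0 = Q 0
      rw [hQ', Function.update_of_ne (by omega)]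
    · rw [hQ', Function.update_of_ne (by omega)]
  have hnext : iter Q' (l + 1) = iter Q (l + 1) := by
    show ⁅Q' (l + 1), iter Q' l⁆ = ⁅Q (l + 1), iter Q l⁆
    rw [hlow l le_rfl, hQ', Function.update_self]
    have hSl := iter_le (σ := σ) (pr := pr) hT.norm l (by omega)
    refine le_antisymm (commutator_mono hXle le_rfl) ?_
    conv_lhs => rw [← commutator_twice (hT.prime l (by omega)) (hT.prime (l + 1) hl) (hT.ne l hl)
      ((hT.isP l (by omega)).to_le hSl) (hT.isP (l + 1) hl) (hSl.trans hn)]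
    exact commutator_mono (commutator_mono le_rfl hSl) le_rfl
  have htop : iter Q' L ≠ ⊥ := by
    rw [iter_congr (l := l + 1) hl hnext fun j hj _ => by rw [hQ', Function.update_of_ne (by omega)]]
    exact hT.top
  have := h.min Q' (fun k _ => hle k) (hT.update hl hXle (hT.commutator_inv hl) hnorm htop) (l + 1) hl
  rwa [hQ', Function.update_self] at this

theorem MinTower.iter_eq (h : MinTower σ L pr Q) : ∀ l ≤ L, iter Q l = Q l := by
  intro l
  induction l with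
  | zero => exact fun _ => rfl
  | succ l ih =>
    intro hl
    show ⁅Q (l + 1), iter Q l⁆ = _
    rw [ih (by omega), h.step_eq hl]

theorem MinTower.not_le_zk (h : MinTower σ L pr Q) : ∀ l ≤ L, ¬ Q l ≤ zk Q L l := by
  suffices hd : ∀ d l, l + d = L → ¬ Q l ≤ zk Q L l from fun l hl => hd (L - l) l (by omega)
  intro d
  induction d with
  | zero =>
    intro l hl hle
    obtain rfl : l = L := by omega
    rw [zk_self, le_bot_iff] at hle
    exact h.tower.top (by rw [h.iter_eq l le_rfl, hle])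
  | succ d ih =>
    intro l hl hle
    refine ih (l + 1) (by omega) ?_
    rw [← h.step_eq (show l < L by omega)]
    exact h.tower.iter_zk_step (by omega) hle

theorem MinTower.nk_ne (h : MinTower σ L pr Q) : ∀ l ≤ L, nk Q L l ≠ Q l := by
  rintro (_ | l) hl he
  · exact h.not_le_zk 0 hl he.ge
  refine h.not_le_zk (l + 1) hl ?_
  conv_lhs => rw [← h.step_eq hl]
  rw [commutator_le]
  intro x hx y hy
  have h1 := ((h.tower.mem_nk hl).mp (he.ge hx)).2 y hy
  rw [← commutatorElement_inv]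
  exact inv_mem h1

/-- A proper invariant subgroup is small. -/
theorem MinTower.le_nk (h : MinTower σ L pr Q) {l : ℕ} (hl : l ≤ L) {X : Subgroup G} (hX : X ≤ Q l)
    (hinv : ∀ x ∈ X, σ x ∈ X) (hnorm : ∀ k < l, Q k ≤ normalizer (X : Set G)) (hne : X ≠ Q l) :
    X ≤ nk Q L l := by
  classical
  set Q' := Function.update Q l X with hQ'
  have hbot : iter Q' L = ⊥ := by
    by_contra htop
    have := h.min Q' (fun k _ => by
      by_cases hk : k = l
      · subst hk; rw [hQ', Function.update_self]; exact hX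
      · rw [hQ', Function.update_of_ne hk]) (h.tower.update hl hX hinv hnorm htop) l hl
    rw [hQ', Function.update_self] at this
    exact hne this
  have hup : ∀ j, l < j → j ≤ L → Q' j = Q j := fun j hj _ => by
    rw [hQ', Function.update_of_ne (by omega)]
  cases l with
  | zero =>
    have := h.tower.iter_zk_conv L 0 (Nat.zero_add L) Q' hup
      (by show Q' 0 ≤ Q 0; rw [hQ', Function.update_self]; exact hX) hbot
    have e : iter Q' 0 = X := by show Q' 0 = X; rw [hQ', Function.update_self]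
    rwa [e] at this
  | succ l =>
    have e : iter Q' (l + 1) = ⁅X, Q l⁆ := by
      show ⁅Q' (l + 1), iter Q' l⁆ = _
      rw [iter_congr (Q := Q) (Nat.zero_le l)
        (by show Q' 0 = Q 0; rw [hQ', Function.update_of_ne (by omega)])
        (fun j _ hj => by rw [hQ', Function.update_of_ne (by omega)]), h.iter_eq l (by omega), hQ',
        Function.update_self]
    have := h.tower.iter_zk_conv (L - (l + 1)) (l + 1) (by omega) Q' hup (by
      rw [e]
      exact (commutator_mono hX le_rfl).trans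
        (commutator_le_left' (h.tower.norm l (l + 1) (Nat.le_succ l) hl))) hbot
    rw [e] at this
    intro x hx
    refine (h.tower.mem_nk hl).mpr ⟨hX hx, fun y hy => ?_⟩
    rw [← commutatorElement_inv]
    exact inv_mem (this (commutator_mem_commutator hx hy))

theorem MinTower.frattini_le (h : MinTower σ L pr Q) {l : ℕ} (hl : l ≤ L) :
    (∀ y ∈ Q l, y ^ pr l ∈ nk Q L l) ∧ ∀ y ∈ Q l, ∀ z ∈ Q l, ⁅y, z⁆ ∈ nk Q L l := by
  haveI := Fact.mk (h.tower.prime l hl)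
  have hp := h.tower.isP l hl
  set Φ := (frattini (Q l)).map (Q l).subtype with hΦ
  have hch : ∀ (α : MulAut G), (∀ x, x ∈ Q l ↔ α x ∈ Q l) → ∀ x ∈ Φ, α x ∈ Φ := by
    rintro α hα _ ⟨x, hx, rfl⟩
    exact ⟨Alperin.restrict α (Q l) hα x, (Alperin.mem_iff_of_char _ _ x).mp hx, rfl⟩
  have hne : Φ ≠ Q l := by
    intro he
    have htop : frattini (Q l) = ⊤ := by
      refine Subgroup.map_injective (Q l).subtype_injective ?_
      rw [← MonoidHom.range_eq_map, Subgroup.range_subtype]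
      exact he
    have : (⊥ : Subgroup (Q l)) = ⊤ := frattini_nongenerating (by rw [htop, bot_sup_eq])
    refine h.not_le_zk l hl fun x hx => ?_
    have h1 : (⟨x, hx⟩ : Q l) ∈ (⊥ : Subgroup (Q l)) := this ▸ Subgroup.mem_top _
    rw [Subgroup.mem_bot] at h1
    rw [show x = 1 from congrArg Subtype.val h1]
    exact one_mem _
  have hle : Φ ≤ nk Q L l := by
    refine h.le_nk hl (map_subtype_le _) (hch σ (apply_mem_iff_of_mapsTo (h.tower.inv l hl)))
      (fun k hk g hg => ?_) hne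
    have hg' := h.tower.norm k l hk.le hl hg
    rw [mem_normalizer_iff]
    refine fun x => ⟨hch (MulAut.conj g) (mem_normalizer_iff.mp hg') x, fun hx => ?_⟩
    have := hch (MulAut.conj g⁻¹) (mem_normalizer_iff.mp (inv_mem hg')) _ hx
    simpa [mul_assoc] using this
  refine ⟨fun y hy => hle ⟨⟨y, hy⟩ ^ pr l, CfsgLib.PGroups.pow_mem_frattini hp _, rfl⟩,
    fun y hy z hz => hle ⟨⁅(⟨y, hy⟩ : Q l), ⟨z, hz⟩⁆, CfsgLib.PGroups.commutator_le_frattini' hp
      (commutator_mem_commutator (mem_top _) (mem_top _)), rfl⟩⟩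

theorem MinTower.nk_inv (h : MinTower σ L pr Q) {l : ℕ} (hl : l ≤ L) :
    (∀ x ∈ nk Q L l, σ x ∈ nk Q L l) ∧ ∀ k ≤ l, Q k ≤ normalizer (nk Q L l : Set G) := by
  cases l with
  | zero => exact h.tower.zk_norm 0 hl
  | succ l =>
    obtain ⟨hi, hn⟩ := h.tower.zk_norm (l + 1) hl
    refine ⟨fun x hx => ⟨h.tower.inv (l + 1) hl x hx.1,
      modCent_inv (h.tower.inv l (by omega)) hi x hx.2⟩, fun k hk g hg => ?_⟩
    rcases eq_or_lt_of_le hk with rfl | hk'
    · have e : ∀ g ∈ Q (l + 1), ∀ x ∈ nk Q L (l + 1), g * x * g⁻¹ ∈ nk Q L (l + 1) := fun g hg x hx => by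
        have := mul_mem ((h.frattini_le hl).2 g hg x (nk_le Q L _ hx)) hx
        simpa [commutatorElement_def] using this
      rw [mem_normalizer_iff]
      refine fun x => ⟨e g hg x, fun hx => ?_⟩
      have := e g⁻¹ (inv_mem hg) _ hx
      simpa [mul_assoc] using this
    · exact inf_normalizer_le_normalizer_inf ⟨h.tower.norm k (l + 1) hk hl hg,
        modCent_normalizes (h.tower.norm k l (by omega) (by omega) hg) (hn k hk hg)⟩

/-- Centralising `Q (l+1) / nk` is being in the kernel. -/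
theorem MinTower.zk_of_nk (h : MinTower σ L pr Q) {l : ℕ} (hl : l < L) {x : G} (hx : x ∈ Q l)
    (hc : ∀ y ∈ Q (l + 1), ⁅y, x⁆ ∈ nk Q L (l + 1)) : x ∈ zk Q L l := by
  refine (h.tower.mem_zk hl).mpr ⟨hx, fun y hy => ?_⟩
  set B := normalizer (zk Q L (l + 1) : Set G) with hB
  haveI : ((zk Q L (l + 1)).subgroupOf B).Normal :=
    normal_subgroupOf_of_le_normalizer le_rfl
  let π : B →* B ⧸ (zk Q L (l + 1)).subgroupOf B := QuotientGroup.mk' _
  have hxB : x ∈ B := (h.tower.zk_norm (l + 1) hl).2 l (Nat.le_succ l) hx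
  have hyB : y ∈ B := (h.tower.zk_norm (l + 1) hl).2 (l + 1) le_rfl hy
  set m := ⁅x, y⁆ with hm
  have hmN : m ∈ nk Q L (l + 1) := by
    rw [hm, ← commutatorElement_inv]
    exact inv_mem (hc y hy)
  have hmQ : m ∈ Q (l + 1) := nk_le Q L _ hmN
  have hmB : m ∈ B := (h.tower.zk_norm (l + 1) hl).2 (l + 1) le_rfl hmQ
  have h1 : π ⟨x, hxB⟩ * π ⟨m, hmB⟩ = π ⟨m, hmB⟩ * π ⟨x, hxB⟩ := by
    rw [← commutatorElement_eq_one_iff_mul_comm, ← map_commutatorElement]
    exact (QuotientGroup.eq_one_iff _).mpr (((h.tower.mem_nk hl).mp hmN).2 x hx)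
  have h2 : π ⟨x, hxB⟩ * π ⟨y, hyB⟩ * (π ⟨x, hxB⟩)⁻¹ = π ⟨m, hmB⟩ * π ⟨y, hyB⟩ := by
    rw [← map_inv, ← map_mul, ← map_mul, ← map_mul]
    exact congrArg π (Subtype.ext (by simp [hm, commutatorElement_def, mul_assoc]))
  have hall : ∀ k : ℕ, π ⟨x, hxB⟩ ^ k * π ⟨y, hyB⟩ * (π ⟨x, hxB⟩ ^ k)⁻¹ =
      π ⟨m, hmB⟩ ^ k * π ⟨y, hyB⟩ := by
    intro k
    induction k with
    | zero => simp
    | succ k ih =>
      have hc' : π ⟨x, hxB⟩ * π ⟨m, hmB⟩ ^ k * (π ⟨x, hxB⟩)⁻¹ = π ⟨m, hmB⟩ ^ k := by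
        rw [((Commute.pow_right h1 k) : Commute _ _).eq, mul_inv_cancel_right]
      calc π ⟨x, hxB⟩ ^ (k + 1) * π ⟨y, hyB⟩ * (π ⟨x, hxB⟩ ^ (k + 1))⁻¹
          = π ⟨x, hxB⟩ * (π ⟨x, hxB⟩ ^ k * π ⟨y, hyB⟩ * (π ⟨x, hxB⟩ ^ k)⁻¹) * (π ⟨x, hxB⟩)⁻¹ := by
            rw [pow_succ']; group
        _ = π ⟨x, hxB⟩ * (π ⟨m, hmB⟩ ^ k * π ⟨y, hyB⟩) * (π ⟨x, hxB⟩)⁻¹ := by rw [ih]
        _ = (π ⟨x, hxB⟩ * π ⟨m, hmB⟩ ^ k * (π ⟨x, hxB⟩)⁻¹) *
              (π ⟨x, hxB⟩ * π ⟨y, hyB⟩ * (π ⟨x, hxB⟩)⁻¹) := by group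
        _ = _ := by rw [hc', h2, pow_succ, mul_assoc]
  obtain ⟨a, ha⟩ := h.tower.isP l (by omega) ⟨x, hx⟩
  obtain ⟨b, hb⟩ := h.tower.isP (l + 1) hl ⟨m, hmQ⟩
  have ha' : π ⟨x, hxB⟩ ^ pr l ^ a = 1 := by
    have e : (⟨x, hxB⟩ : B) ^ pr l ^ a = 1 := Subtype.ext (congrArg Subtype.val ha :)
    rw [← map_pow, e, map_one]
  have hb' : π ⟨m, hmB⟩ ^ pr (l + 1) ^ b = 1 := by
    have e : (⟨m, hmB⟩ : B) ^ pr (l + 1) ^ b = 1 := Subtype.ext (congrArg Subtype.val hb :)
    rw [← map_pow, e, map_one]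
  have h3 := hall (pr l ^ a)
  rw [ha', one_mul, inv_one, mul_one] at h3
  have h4 := pow_gcd_eq_one.mpr ⟨(mul_eq_right.mp h3.symm), hb'⟩
  rw [(((Nat.coprime_primes (h.tower.prime l (by omega)) (h.tower.prime (l + 1) hl)).mpr
    (h.tower.ne l hl)).pow a b).gcd_eq_one, pow_one, QuotientGroup.mk'_apply,
    QuotientGroup.eq_one_iff] at h4
  rw [← commutatorElement_inv]
  exact inv_mem h4

/-- `σ` is trivial on `Q l` modulo the kernel. -/
def FixMod (σ : MulAut G) (Q : ℕ → Subgroup G) (L l : ℕ) : Prop := ∀ x ∈ Q l, x⁻¹ * σ x ∈ zk Q L l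

theorem MinTower.fixMod_mono (h : MinTower σ L pr Q) {l : ℕ} (hl : l < L)
    (hf : FixMod σ Q L (l + 1)) : FixMod σ Q L l := by
  intro x hx
  refine (h.tower.mem_zk hl).mpr
    ⟨mul_mem (inv_mem hx) (h.tower.inv l (by omega) x hx), fun y hy => ?_⟩
  set B := normalizer (zk Q L (l + 1) : Set G) with hB
  haveI : ((zk Q L (l + 1)).subgroupOf B).Normal :=
    normal_subgroupOf_of_le_normalizer le_rfl
  let π : B →* B ⧸ (zk Q L (l + 1)).subgroupOf B := QuotientGroup.mk' _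
  have hQB : ∀ {k}, k ≤ l + 1 → ∀ {u}, u ∈ Q k → u ∈ B := fun {k} hk {u} hu =>
    (h.tower.zk_norm (l + 1) hl).2 k hk hu
  have hσx := h.tower.inv l (by omega) x hx
  have hσy := h.tower.inv (l + 1) hl y hy
  have hc : ⁅y, x⁆ ∈ Q (l + 1) := commutator_le_left' (h.tower.norm l (l + 1) (Nat.le_succ l) hl)
    (commutator_mem_commutator hy hx)
  have e1 : π ⟨σ y, hQB le_rfl hσy⟩ = π ⟨y, hQB le_rfl hy⟩ :=
    ((QuotientGroup.eq (a := (⟨y, hQB le_rfl hy⟩ : B)) (b := ⟨σ y, hQB le_rfl hσy⟩)).mpr (hf y hy)).symm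
  have e2 : π ⟨σ ⁅y, x⁆, hQB le_rfl (h.tower.inv (l + 1) hl _ hc)⟩ = π ⟨⁅y, x⁆, hQB le_rfl hc⟩ :=
    ((QuotientGroup.eq (a := (⟨⁅y, x⁆, hQB le_rfl hc⟩ : B))
      (b := ⟨σ ⁅y, x⁆, hQB le_rfl (h.tower.inv (l + 1) hl _ hc)⟩)).mpr (hf _ hc)).symm
  have e3 : ⁅π ⟨y, hQB le_rfl hy⟩, π ⟨σ x, hQB (Nat.le_succ l) hσx⟩⁆ =
      ⁅π ⟨y, hQB le_rfl hy⟩, π ⟨x, hQB (Nat.le_succ l) hx⟩⁆ := by
    conv_lhs => rw [← e1]
    rw [← map_commutatorElement, ← map_commutatorElement]
    refine Eq.trans (congrArg π (Subtype.ext ?_)) (e2.trans (congrArg π (Subtype.ext ?_)))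
    · exact (map_commutatorElement σ y x).symm
    · rfl
  set a := π ⟨y, hQB le_rfl hy⟩
  set u := π ⟨σ x, hQB (Nat.le_succ l) hσx⟩
  set v := π ⟨x, hQB (Nat.le_succ l) hx⟩
  have hd : π ⟨x⁻¹ * σ x, mul_mem (inv_mem (hQB (Nat.le_succ l) hx)) (hQB (Nat.le_succ l) hσx)⟩ =
      v⁻¹ * u := by
    show _ = (π _)⁻¹ * π _
    rw [← map_inv, ← map_mul]
    rfl
  have e4 : ⁅a, v⁻¹ * u⁆ = 1 := by
    rw [commutatorElement_eq_one_iff_mul_comm]
    simp only [commutatorElement_def, mul_assoc, mul_right_inj] at e3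
    calc a * (v⁻¹ * u) = v⁻¹ * (v * (a * (v⁻¹ * 1))) * u := by group
      _ = v⁻¹ * (u * (a * (u⁻¹ * 1))) * u := by
        rw [show v * (a * (v⁻¹ * 1)) = u * (a * (u⁻¹ * 1)) by
          have e5 := congrArg (fun z => z⁻¹) e3
          simpa [mul_assoc] using e5.symm]
      _ = v⁻¹ * u * a := by group
  rw [← hd, ← map_commutatorElement, QuotientGroup.mk'_apply, QuotientGroup.eq_one_iff] at e4
  exact e4

variable [Group.IsSolvable G]

/-- The members below the first moved one are fixed. -/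
theorem MinTower.fixed (h : MinTower σ L pr Q) (hcop : (orderOf σ).Coprime (Nat.card G)) {J : ℕ}
    (hJ : J ≤ L + 1) (hf : ∀ l < J, FixMod σ Q L l) : ∀ l < J, ∀ x ∈ Q l, σ x = x := by
  classical
  let C : Subgroup G := MonoidHom.eqLocus σ.toMonoidHom (MonoidHom.id G)
  let Q' : ℕ → Subgroup G := fun l => if l < J then Q l ⊓ C else Q l
  have hle : ∀ k, Q' k ≤ Q k := fun k => by
    by_cases hk : k < J
    · simp only [Q', if_pos hk]; exact inf_le_left
    · simp only [Q', if_neg hk]; exact le_rfl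
  have hsplit : ∀ l ≤ L, ∀ x ∈ Q l, ∃ a ∈ Q' l, ∃ z ∈ zk Q L l, x = a * z := by
    intro l hl x hx
    by_cases hlJ : l < J
    · obtain ⟨n, hn, hfix⟩ := exists_fixed_lift (h.tower.zk_norm l hl).1 hcop (hf l hlJ x hx)
      refine ⟨x * n, ?_, n⁻¹, inv_mem hn, (mul_inv_cancel_right x n).symm⟩
      simp only [Q', if_pos hlJ]
      exact ⟨mul_mem hx (zk_le Q L l hn), hfix⟩
    · refine ⟨x, ?_, 1, one_mem _, (mul_one x).symm⟩
      simp only [Q', if_neg hlJ]
      exact hx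
  have hnorm' : ∀ j k, j ≤ k → k ≤ L → Q' j ≤ normalizer (Q' k : Set G) := by
    intro j k hjk hk
    by_cases hkJ : k < J
    · simp only [Q', if_pos hkJ, if_pos (lt_of_le_of_lt hjk hkJ)]
      exact fun g hg => inf_normalizer_le_normalizer_inf ⟨h.tower.norm j k hjk hk hg.1, le_normalizer hg.2⟩
    · simp only [Q', if_neg hkJ]
      exact (hle j).trans (h.tower.norm j k hjk hk)
  have hcover : ∀ l ≤ L, Q l ≤ iter Q' l ⊔ zk Q L l := by
    intro l
    induction l with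
    | zero =>
      intro hl x hx
      obtain ⟨a, ha, z, hz, rfl⟩ := hsplit 0 hl x hx
      exact mul_mem (mem_sup_left ha) (mem_sup_right hz)
    | succ l ih =>
      intro hl
      conv_lhs => rw [← h.step_eq hl]
      rw [commutator_le]
      intro y hy x hx
      have hS : iter Q' l ≤ Q l := (iter_le (σ := σ) (pr := pr) hnorm' l (by omega)).trans (hle l)
      obtain ⟨a, ha, z, hz, rfl⟩ := (CfsgLib.Core.mem_sup_iff_mul
        (hS.trans ((h.tower.zk_norm l (by omega)).2 l le_rfl))).mp (ih (by omega) hx)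
      obtain ⟨b, hb, w, hw, rfl⟩ := hsplit (l + 1) hl y hy
      set B := normalizer (zk Q L (l + 1) : Set G) with hB
      haveI : ((zk Q L (l + 1)).subgroupOf B).Normal :=
        normal_subgroupOf_of_le_normalizer le_rfl
      let π : B →* B ⧸ (zk Q L (l + 1)).subgroupOf B := QuotientGroup.mk' _
      have hQB : ∀ {k}, k ≤ l + 1 → ∀ {u}, u ∈ Q k → u ∈ B := fun {k} hk {u} hu =>
        (h.tower.zk_norm (l + 1) hl).2 k hk hu
      have hbB := hQB le_rfl (hle _ hb)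
      have hwB := hQB le_rfl (zk_le Q L _ hw)
      have haB := hQB (Nat.le_succ l) (hS ha)
      have hzB := hQB (Nat.le_succ l) (zk_le Q L _ hz)
      have ew : π ⟨w, hwB⟩ = 1 := (QuotientGroup.eq_one_iff _).mpr hw
      have ez : ⁅π ⟨b, hbB⟩, π ⟨z, hzB⟩⁆ = 1 := by
        rw [← map_commutatorElement]
        exact (QuotientGroup.eq_one_iff _).mpr (((h.tower.mem_zk hl).mp hz).2 b (hle _ hb))
      have ec : π ⟨⁅b * w, a * z⁆, (⁅(⟨b, hbB⟩ : B) * ⟨w, hwB⟩, ⟨a, haB⟩ * ⟨z, hzB⟩⁆ : B).2⟩ =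
          π ⟨⁅b, a⁆, (⁅(⟨b, hbB⟩ : B), ⟨a, haB⟩⁆ : B).2⟩ := by
        show π ⁅(⟨b, hbB⟩ : B) * ⟨w, hwB⟩, ⟨a, haB⟩ * ⟨z, hzB⟩⁆ = π ⁅(⟨b, hbB⟩ : B), ⟨a, haB⟩⁆
        rw [map_commutatorElement, map_mul, map_mul, ew, mul_one, map_commutatorElement,
          show ∀ A X Z : B ⧸ (zk Q L (l + 1)).subgroupOf B,
            ⁅A, X * Z⁆ = ⁅A, X⁆ * (X * ⁅A, Z⁆ * X⁻¹) from fun A X Z => by
              simp [commutatorElement_def, mul_assoc],
          ez, mul_one, mul_inv_cancel, mul_one]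
      have hmem := QuotientGroup.eq.mp ec.symm
      have hba : ⁅b, a⁆ ∈ iter Q' (l + 1) := commutator_mem_commutator hb ha
      rw [show ⁅b * w, a * z⁆ = ⁅b, a⁆ * ((⁅b, a⁆)⁻¹ * ⁅b * w, a * z⁆) by group]
      exact mul_mem (mem_sup_left hba) (mem_sup_right hmem)
  have htop : iter Q' L ≠ ⊥ := by
    intro hbot
    have := hcover L le_rfl
    rw [hbot, zk_self, sup_bot_eq] at this
    exact h.not_le_zk L le_rfl (this.trans bot_le)
  have hT' : Tower σ L pr Q' := by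
    refine ⟨h.tower.prime, h.tower.ne, fun k hk => (h.tower.isP k hk).to_le (hle k), fun k hk x hx => ?_,
      hnorm', htop⟩
    by_cases hkJ : k < J
    · simp only [Q', if_pos hkJ] at hx ⊢
      exact ⟨h.tower.inv k hk x hx.1, congrArg σ (hx.2 : σ x = x)⟩
    · simp only [Q', if_neg hkJ] at hx ⊢
      exact h.tower.inv k hk x hx
  intro l hl x hx
  have hx' := (h.min Q' (fun k _ => hle k) hT' l (by omega)).ge hx
  simp only [Q', if_pos hl] at hx'
  exact hx'.2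

end CfsgLib.PGroups.Turull
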