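import Mathlib
import Cfsg.Agent.Lib.PGroups.Turull.TowerMinimal
import Cfsg.Agent.Lib.PGroups.Turull.StageBasic

/-!
# A minimal tower acting on one of its factors

`ActData`: the operators on `Q l / nk l`; the images of the members above form a `Stage`
-/

set_option autoImplicit false
set_option linter.all false
set_option maxHeartbeats 1000000

namespace CfsgLib.PGroups.Turull

open scoped commutatorElement
open Subgroup

variable {G : Type*} [Group G]

/-- The elements acting on a factor. -/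
def actDom (Q : ℕ → Subgroup G) (L l : ℕ) : Subgroup G :=
  normalizer (Q l : Set G) ⊓ normalizer (nk Q L l : Set G)

/-- The operators on a factor. -/
structure ActData (σ : MulAut G) (Q : ℕ → Subgroup G) (L l : ℕ) {E : Type*} [CommGroup E] (π : Q l →* E)
    (act : actDom Q L l →* MulAut E) (s : MulAut E) : Prop where
  surj : Function.Surjective π
  ker : ∀ z : Q l, π z = 1 ↔ (z : G) ∈ nk Q L l
  act_apply : ∀ (g : actDom Q L l) (z : Q l), act g (π z) = π (cj g.2.1 z)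
  s_apply : ∀ (z : Q l) (hz : σ (z : G) ∈ Q l), s (π z) = π ⟨σ (z : G), hz⟩

/-- The operators of a subgroup. -/
def img {Q : ℕ → Subgroup G} {L l : ℕ} {A : Type*} [Group A] (act : actDom Q L l →* A) (X : Subgroup G) :
    Subgroup A :=
  (X.subgroupOf (actDom Q L l)).map act

theorem img_comm {Q : ℕ → Subgroup G} {L l : ℕ} {A : Type*} [Group A] (act : actDom Q L l →* A)
    {X Y : Subgroup G} (hX : X ≤ actDom Q L l) (hY : Y ≤ actDom Q L l) (hXY : ⁅X, Y⁆ ≤ actDom Q L l) :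
    img act ⁅X, Y⁆ = ⁅img act X, img act Y⁆ := by
  show (⁅X, Y⁆.subgroupOf _).map act = ⁅(X.subgroupOf _).map act, (Y.subgroupOf _).map act⁆
  rw [← map_commutator]
  refine congrArg (Subgroup.map act) (Subgroup.map_injective (actDom Q L l).subtype_injective ?_)
  rw [map_commutator, map_subgroupOf_eq_of_le hXY, map_subgroupOf_eq_of_le hX,
    map_subgroupOf_eq_of_le hY]

theorem mem_img {Q : ℕ → Subgroup G} {L l : ℕ} {A : Type*} [Group A] (act : actDom Q L l →* A)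
    {X : Subgroup G} {x : G} (hx : x ∈ X) (hxA : x ∈ actDom Q L l) : act ⟨x, hxA⟩ ∈ img act X :=
  ⟨⟨x, hxA⟩, hx, rfl⟩

theorem img_norm {Q : ℕ → Subgroup G} {L l : ℕ} {A : Type*} [Group A] (act : actDom Q L l →* A)
    (X : Subgroup G) (g : actDom Q L l) (hg : (g : G) ∈ normalizer (X : Set G)) :
    act g ∈ normalizer (img act X : Set A) := by
  refine Subgroup.le_normalizer_map (H := X.subgroupOf _) act ⟨g, ?_, rfl⟩
  rw [SetLike.mem_coe, mem_normalizer_iff]
  exact fun z => mem_normalizer_iff.mp hg (z : G)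

variable [Finite G] [Group.IsSolvable G] {σ : MulAut G} {L : ℕ} {pr : ℕ → ℕ} {Q : ℕ → Subgroup G}
  (h : MinTower σ L pr Q) {i : ℕ} (hi : i + 2 ≤ L) {E : Type*} [CommGroup E] {π : Q (i + 2) →* E}
  {act : actDom Q L (i + 2) →* MulAut E} {s : MulAut E} (d : ActData σ Q L (i + 2) π act s)
include h hi d

omit d in
theorem le_actDom {k : ℕ} (hk : k ≤ i + 2) : Q k ≤ actDom Q L (i + 2) :=
  le_inf (h.tower.norm k _ hk hi) ((h.nk_inv hi).2 k hk)

omit d in
theorem sigma_mem_actDom {g : G} (hg : g ∈ actDom Q L (i + 2)) : σ g ∈ actDom Q L (i + 2) :=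
  ⟨apply_mem_normalizer (h.tower.inv _ hi) hg.1, apply_mem_normalizer (h.nk_inv hi).1 hg.2⟩

theorem s_pow_eq_one {r : ℕ} (hσr : σ ^ r = 1) : s ^ r = 1 := by
  have hp : ∀ (j : ℕ) (z : Q (i + 2)), ∃ hz : (σ ^ j) (z : G) ∈ Q (i + 2), (s ^ j) (π z) = π ⟨_, hz⟩ := by
    intro j
    induction j with
    | zero => exact fun z => ⟨z.2, rfl⟩
    | succ j ih =>
      intro z
      obtain ⟨hz, he⟩ := ih z
      have hz' : σ ((σ ^ j) (z : G)) ∈ Q (i + 2) := h.tower.inv _ hi _ hz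
      refine ⟨by rw [pow_succ', MulAut.mul_apply]; exact hz', ?_⟩
      rw [pow_succ' s, MulAut.mul_apply, he, d.s_apply _ hz']
      exact congrArg π (Subtype.ext (by simp [pow_succ']))
  refine MulEquiv.ext fun a => ?_
  obtain ⟨z, rfl⟩ := d.surj a
  obtain ⟨hz, he⟩ := hp r z
  rw [he, MulAut.one_apply]
  exact congrArg π (Subtype.ext (by simp [hσr]))

theorem conj_act (g : actDom Q L (i + 2)) :
    s * act g * s⁻¹ = act ⟨σ (g : G), sigma_mem_actDom h hi g.2⟩ := by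
  rw [mul_inv_eq_iff_eq_mul]
  refine MulEquiv.ext fun a => ?_
  obtain ⟨z, rfl⟩ := d.surj a
  have hz : σ (z : G) ∈ Q (i + 2) := h.tower.inv _ hi _ z.2
  rw [MulAut.mul_apply, MulAut.mul_apply, d.act_apply, d.s_apply z hz,
    d.s_apply _ (h.tower.inv _ hi _ (cj g.2.1 z).2), d.act_apply]
  exact congrArg π (Subtype.ext (by simp [cj_apply, map_mul, map_inv]))

theorem img_norm_s (X : Subgroup G) (hX : ∀ x ∈ X, σ x ∈ X) :
    s ∈ normalizer (img act X : Set (MulAut E)) := by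
  rw [mem_normalizer_iff]
  refine fun z => ⟨?_, fun hz => ?_⟩
  · rintro ⟨g, hg, rfl⟩
    rw [conj_act h hi d]
    exact mem_img act (hX _ hg) _
  · obtain ⟨g, hg, hgz⟩ := hz
    have hgA : σ.symm (g : G) ∈ actDom Q L (i + 2) := by
      have := (apply_mem_iff_of_mapsTo (σ := σ) (fun u hu => sigma_mem_actDom h hi hu) (σ.symm (g : G))).mpr
        (by rw [MulEquiv.apply_symm_apply]; exact g.2)
      exact this
    refine ⟨⟨_, hgA⟩, (apply_mem_iff_of_mapsTo hX _).mpr (by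
      show σ (σ.symm (g : G)) ∈ X
      rw [MulEquiv.apply_symm_apply]; exact hg), ?_⟩
    have h1 := conj_act h hi d ⟨_, hgA⟩
    simp only [MulEquiv.apply_symm_apply] at h1
    exact mul_left_cancel (mul_right_cancel (h1.trans hgz))

theorem act_eq_one_iff {x : G} (hx : x ∈ Q (i + 1)) :
    act ⟨x, le_actDom h hi (Nat.le_succ _) hx⟩ = 1 ↔ x ∈ zk Q L (i + 1) := by
  constructor
  · intro he
    refine h.zk_of_nk (by omega) hx fun y hy => ?_
    have h1 := MulEquiv.congr_fun he (π ⟨y, hy⟩)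
    rw [d.act_apply, MulAut.one_apply] at h1
    have h2 : (x * y * x⁻¹)⁻¹ * y ∈ nk Q L (i + 2) := by
      refine (d.ker ((cj (le_actDom h hi (Nat.le_succ (i + 1)) hx).1 ⟨y, hy⟩)⁻¹ * ⟨y, hy⟩)).mp ?_
      rw [map_mul, map_inv, h1, inv_mul_cancel]
    have h3 := (mem_normalizer_iff.mp ((h.nk_inv hi).2 _ le_rfl hy) _).mp h2
    rwa [show y * ((x * y * x⁻¹)⁻¹ * y) * y⁻¹ = ⁅y, x⁆ by simp [commutatorElement_def, mul_assoc]] at h3
  · intro hz
    refine MulEquiv.ext fun a => ?_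
    obtain ⟨y, rfl⟩ := d.surj a
    rw [d.act_apply, MulAut.one_apply, ← inv_mul_eq_one, ← map_inv, ← map_mul, d.ker]
    show (x * y * x⁻¹)⁻¹ * (y : G) ∈ nk Q L (i + 2)
    have h1 := h.tower.zk_le_nk _ hi (((h.tower.mem_zk (by omega)).mp hz).2 _ y.2)
    have h3 := (mem_normalizer_iff''.mp ((h.nk_inv hi).2 _ le_rfl y.2) _).mp h1
    rwa [show (x * y * x⁻¹)⁻¹ * (y : G) = (y : G)⁻¹ * ⁅(y : G), x⁆ * y by
      simp [commutatorElement_def, mul_assoc]]

theorem mem_nk_of_act {v : G} (hv : v ∈ Q (i + 1))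
    (he : act ⟨v, le_actDom h hi (Nat.le_succ _) hv⟩ ∈ img act (nk Q L (i + 1))) : v ∈ nk Q L (i + 1) := by
  obtain ⟨n, hn, hne⟩ := he
  have hn' : (n : G) ∈ nk Q L (i + 1) := hn
  have hnv : (n : G)⁻¹ * v ∈ Q (i + 1) := mul_mem (inv_mem (nk_le Q L _ hn')) hv
  have h1 : act ⟨_, le_actDom h hi (Nat.le_succ _) hnv⟩ = 1 := by
    show act (n⁻¹ * ⟨v, le_actDom h hi (Nat.le_succ _) hv⟩) = 1
    rw [map_mul, map_inv, hne, inv_mul_cancel]
  have := mul_mem hn' (h.tower.zk_le_nk _ (by omega) ((act_eq_one_iff h hi d hnv).mp h1))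
  simpa using this

omit d in
theorem img_gen : ⁅img act (Q (i + 1)), img act (Q i)⁆ = img act (Q (i + 1)) := by
  have hQi : ⁅Q (i + 1), Q i⁆ = Q (i + 1) := h.step_eq (by omega)
  rw [← img_comm act (le_actDom h hi (Nat.le_succ _)) (le_actDom h hi (by omega))
    (by rw [hQi]; exact le_actDom h hi (Nat.le_succ _)), hQi]

theorem img_central_top {a o : MulAut E} (ha : a ∈ img act (nk Q L (i + 1))) (ho : o ∈ img act (Q i)) :
    a * o = o * a := by
  obtain ⟨n, hn, rfl⟩ := ha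
  obtain ⟨x, hx, rfl⟩ := ho
  have hn' : (n : G) ∈ nk Q L (i + 1) := hn
  have h1 : ⁅(x : G), (n : G)⁆ ∈ zk Q L (i + 1) := ((h.tower.mem_nk (by omega)).mp hn').2 _ hx
  have h2 : act ⁅x, n⁆ = 1 := (act_eq_one_iff h hi d (zk_le Q L _ h1)).mpr h1
  rw [map_commutatorElement, commutatorElement_eq_one_iff_mul_comm] at h2
  exact h2.symm

theorem img_central {a y : MulAut E} (ha : a ∈ img act (nk Q L (i + 1))) (hy : y ∈ img act (Q (i + 1))) :
    a * y = y * a := by
  have hMP : img act (nk Q L (i + 1)) ≤ img act (Q (i + 1)) :=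
    Subgroup.map_mono (Subgroup.comap_mono (nk_le Q L _))
  have hcomm : ∀ u ∈ img act (Q (i + 1)), ∀ v ∈ img act (Q (i + 1)), ⁅u, v⁆ ∈ img act (nk Q L (i + 1)) := by
    rintro _ ⟨u, hu, rfl⟩ _ ⟨v, hv, rfl⟩
    rw [← map_commutatorElement]
    exact ⟨_, (h.frattini_le (by omega)).2 _ hu _ hv, rfl⟩
  have h3 : ⁅⁅img act (Q i), img act (Q (i + 1))⁆, img act (nk Q L (i + 1))⁆ = ⊥ := by
    refine Subgroup.commutator_commutator_eq_bot_of_rotate ?_ ?_
    · rw [← le_bot_iff, commutator_le]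
      intro a ha o ho
      rw [Subgroup.mem_bot, commutatorElement_eq_one_iff_mul_comm]
      refine img_central_top h hi d ?_ ho
      exact (commutator_le.mpr fun u hu v hv => hcomm u hu v (hMP hv)) ha
    · rw [show ⁅img act (nk Q L (i + 1)), img act (Q i)⁆ = ⊥ from
        le_bot_iff.mp (commutator_le.mpr fun a ha o ho => by
          rw [Subgroup.mem_bot, commutatorElement_eq_one_iff_mul_comm]
          exact img_central_top h hi d ha ho), commutator_bot_left]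
  rw [Subgroup.commutator_comm (img act (Q i)), img_gen h hi] at h3
  have h4 : ⁅y, a⁆ = 1 := Subgroup.mem_bot.mp (h3 ▸ commutator_mem_commutator hy ha)
  rw [commutatorElement_eq_one_iff_mul_comm] at h4
  exact h4.symm

omit d in
theorem act_mem_H {k : ℕ} (hk : k ≤ i) {g : G} (hg : g ∈ Q k) :
    act ⟨g, le_actDom h hi (by omega) hg⟩ ∈ normalizer (img act (Q (i + 1)) : Set (MulAut E)) ⊓
      normalizer (img act (nk Q L (i + 1)) : Set (MulAut E)) ⊓ normalizer (img act (Q i) : Set (MulAut E)) :=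
  ⟨⟨img_norm act _ _ (h.tower.norm k _ (by omega) (by omega) hg),
    img_norm act _ _ ((h.nk_inv (by omega)).2 k (by omega) hg)⟩,
    img_norm act _ _ (h.tower.norm k i hk (by omega) hg)⟩

theorem img_irr {X : Subgroup (MulAut E)} (hMX : img act (nk Q L (i + 1)) ≤ X)
    (hXP : X ≤ img act (Q (i + 1))) (hsX : s ∈ normalizer (X : Set (MulAut E)))
    (hHX : normalizer (img act (Q (i + 1)) : Set (MulAut E)) ⊓
      normalizer (img act (nk Q L (i + 1)) : Set (MulAut E)) ⊓ normalizer (img act (Q i) : Set (MulAut E)) ≤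
        normalizer (X : Set (MulAut E))) :
    X = img act (nk Q L (i + 1)) ∨ X = img act (Q (i + 1)) := by
  let X' : Subgroup G := Q (i + 1) ⊓ (X.comap act).map (actDom Q L (i + 2)).subtype
  have hX'mem : ∀ y, y ∈ X' ↔
      ∃ hy : y ∈ Q (i + 1), act ⟨y, le_actDom h hi (Nat.le_succ _) hy⟩ ∈ X := by
    intro y
    constructor
    · rintro ⟨hy, z, hz, rfl⟩
      exact ⟨hy, hz⟩
    · rintro ⟨hy, hy'⟩
      exact ⟨hy, ⟨y, le_actDom h hi (Nat.le_succ _) hy⟩, hy', rfl⟩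
  by_cases hne : X' = Q (i + 1)
  · refine Or.inr (le_antisymm hXP ?_)
    rintro _ ⟨y, hy, rfl⟩
    obtain ⟨hy', hyX⟩ := (hX'mem _).mp (hne.ge hy)
    exact hyX
  left
  refine le_antisymm (fun z hz => ?_) hMX
  obtain ⟨y, hy, rfl⟩ := hXP hz
  refine ⟨y, ?_, rfl⟩
  refine h.le_nk (show i + 1 ≤ L by omega) inf_le_left (fun v hv => ?_) (fun k hk g hg => ?_) hne
    ((hX'mem _).mpr ⟨hy, hz⟩)
  · obtain ⟨hv', hvX⟩ := (hX'mem v).mp hv
    refine (hX'mem _).mpr ⟨h.tower.inv _ (by omega) v hv', ?_⟩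
    have h1 := (mem_normalizer_iff.mp hsX _).mp hvX
    rw [conj_act h hi d] at h1
    exact h1
  · rw [mem_normalizer_iff]
    have hstep : ∀ g ∈ Q k, ∀ v ∈ X', g * v * g⁻¹ ∈ X' := by
      intro g hg v hv
      obtain ⟨hv', hvX⟩ := (hX'mem v).mp hv
      refine (hX'mem _).mpr ⟨(mem_normalizer_iff.mp (h.tower.norm k _ hk.le (by omega) hg) v).mp hv', ?_⟩
      have h1 := (mem_normalizer_iff.mp (hHX (act_mem_H h hi (show k ≤ i by omega) hg)) _).mp hvX
      rwa [← map_inv, ← map_mul, ← map_mul] at h1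
    refine fun v => ⟨hstep g hg v, fun hv => ?_⟩
    have h2 := hstep g⁻¹ (inv_mem hg) _ hv
    rwa [show g⁻¹ * (g * v * g⁻¹) * g⁻¹⁻¹ = v by group] at h2

/-- The first moved member has no fixed point modulo the large subgroup. -/
theorem img_fpf (hfix : ∀ k ≤ i, ∀ x ∈ Q k, σ x = x) (hmoved : ¬ FixMod σ Q L (i + 1)) :
    ∀ y ∈ img act (Q (i + 1)), s * y * s⁻¹ * y⁻¹ ∈ img act (nk Q L (i + 1)) →
      y ∈ img act (nk Q L (i + 1)) := by
  have hT := h.tower
  have hQi : ⁅Q (i + 1), Q i⁆ = Q (i + 1) := h.step_eq (by omega)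
  have hnN : ∀ b ∈ Q (i + 1), ∀ c ∈ nk Q L (i + 1), b⁻¹ * c * b ∈ nk Q L (i + 1) := fun b hb c hc =>
    (mem_normalizer_iff''.mp ((h.nk_inv (by omega)).2 _ le_rfl hb) c).mp hc
  have hnZ : ∀ b ∈ Q (i + 1), ∀ c ∈ zk Q L (i + 1), b⁻¹ * c * b ∈ zk Q L (i + 1) :=
    fun b hb c hc => (mem_normalizer_iff''.mp ((hT.zk_norm _ (by omega)).2 _ le_rfl hb) c).mp hc
  let X₀ : Subgroup G :=
    { carrier := {y | y ∈ Q (i + 1) ∧ y⁻¹ * σ y ∈ nk Q L (i + 1)}
      one_mem' := ⟨one_mem _, by simp [one_mem]⟩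
      mul_mem' := fun {a b} ha hb => ⟨mul_mem ha.1 hb.1, by
        have := mul_mem (hnN b hb.1 _ ha.2) hb.2
        simpa [mul_assoc] using this⟩
      inv_mem' := fun {a} ha => ⟨inv_mem ha.1, by
        have := hnN a⁻¹ (inv_mem ha.1) _ (inv_mem ha.2)
        simpa [mul_assoc] using this⟩ }
  let X₁ : Subgroup G :=
    { carrier := {y | y ∈ Q (i + 1) ∧ y⁻¹ * σ y ∈ zk Q L (i + 1)}
      one_mem' := ⟨one_mem _, by simp [one_mem]⟩
      mul_mem' := fun {a b} ha hb => ⟨mul_mem ha.1 hb.1, by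
        have := mul_mem (hnZ b hb.1 _ ha.2) hb.2
        simpa [mul_assoc] using this⟩
      inv_mem' := fun {a} ha => ⟨inv_mem ha.1, by
        have := hnZ a⁻¹ (inv_mem ha.1) _ (inv_mem ha.2)
        simpa [mul_assoc] using this⟩ }
  have hle : X₀ ≤ nk Q L (i + 1) := by
    refine h.le_nk (by omega) (fun y hy => hy.1) (fun y hy => ⟨hT.inv _ (by omega) y hy.1, ?_⟩)
      (fun k hk g hg => ?_) fun heq => hmoved ?_
    · rw [← map_inv, ← map_mul]
      exact (h.nk_inv (by omega)).1 _ hy.2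
    · have hstep : ∀ g ∈ Q k, ∀ y ∈ X₀, g * y * g⁻¹ ∈ X₀ := fun g hg y hy =>
        ⟨(mem_normalizer_iff.mp (hT.norm k _ hk.le (by omega) hg) y).mp hy.1, by
          have h1 := (mem_normalizer_iff.mp ((h.nk_inv (by omega)).2 k hk.le hg) _).mp hy.2
          rw [map_mul, map_mul, map_inv, hfix k (by omega) g hg]
          simpa [mul_assoc] using h1⟩
      rw [mem_normalizer_iff]
      refine fun y => ⟨hstep g hg y, fun hy => ?_⟩
      have := hstep g⁻¹ (inv_mem hg) _ hy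
      simpa [mul_assoc] using this
    · intro u hu
      have hX₁ : ⁅Q (i + 1), Q i⁆ ≤ X₁ := commutator_le.mpr fun y hy x hx => by
        refine ⟨hQi.le (commutator_mem_commutator hy hx), ?_⟩
        have hd : y⁻¹ * σ y ∈ nk Q L (i + 1) := (heq.ge hy).2
        have h1 : ⁅y⁻¹ * σ y, x⁆ ∈ zk Q L (i + 1) := by
          rw [← commutatorElement_inv]
          exact inv_mem (((hT.mem_nk (by omega)).mp hd).2 x hx)
        have h2 := (mem_normalizer_iff.mp ((hT.zk_norm _ (by omega)).2 _ le_rfl hy) _).mp h1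
        have h3 := hnZ ⁅y, x⁆ (hQi.le (commutator_mem_commutator hy hx)) _ h2
        rw [map_commutatorElement, hfix i le_rfl x hx]
        simpa [commutatorElement_def, mul_assoc] using h3
      exact (hX₁ (hQi.ge hu)).2
  rintro _ ⟨u, hu, rfl⟩ hm
  refine ⟨u, hle ⟨hu, ?_⟩, rfl⟩
  have hσu := hT.inv _ (show i + 1 ≤ L by omega) _ hu
  rw [conj_act h hi d, ← map_inv, ← map_mul] at hm
  have h1 : σ (u : G) * (u : G)⁻¹ ∈ nk Q L (i + 1) :=
    mem_nk_of_act h hi d (mul_mem hσu (inv_mem hu)) hm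
  have := hnN _ hu _ h1
  simpa [mul_assoc] using this

end CfsgLib.PGroups.Turull
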