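import Mathlib
import Cfsg.Agent.Lib.PGroups.Turull.TowerAct
import Cfsg.Agent.Lib.PGroups.Turull.Frame
import Cfsg.Agent.Lib.PGroups.Turull.StageJunction

/-!
# The steps along a minimal tower

* `Hit`: an element seen by a moved functional
* `MinTower.step`, `MinTower.start`, `MinTower.junction`
-/

set_option autoImplicit false
set_option linter.all false
set_option maxHeartbeats 1000000

namespace CfsgLib.PGroups.Turull

open scoped commutatorElement TensorProduct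
open Subgroup

universe u

variable {G : Type u} [Group G]

/-- The functionals of a level. -/
abbrev Lset (Q : ℕ → Subgroup G) (pr : ℕ → ℕ) (l : ℕ) : Type u :=
  Set (Q l →* Multiplicative (ZMod (pr l)))

/-- Functionals separating the top of a level. -/
structure LabelSet (pr : ℕ → ℕ) (Q : ℕ → Subgroup G) (L l : ℕ) (Λ : Lset Q pr l) : Prop where
  kills : ∀ ℓ ∈ Λ, ∀ y : Q l, (y : G) ∈ nk Q L l → ℓ y = 1
  sep : ∀ y : Q l, (∀ ℓ ∈ Λ, ℓ y = 1) → (y : G) ∈ nk Q L l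
  inv : ∀ k < l, ∀ g ∈ Q k, ∀ hg : g ∈ normalizer (Q l : Set G), ∀ ℓ ∈ Λ,
    ℓ.comp (cj hg).toMonoidHom ∈ Λ

/-- A moved functional. -/
def Moved (σ : MulAut G) {Q : ℕ → Subgroup G} {pr : ℕ → ℕ} {l : ℕ}
    (ℓ : Q l →* Multiplicative (ZMod (pr l))) : Prop :=
  ∃ (y : Q l) (hy : σ (y : G) ∈ Q l), ℓ ⟨σ (y : G), hy⟩ ≠ ℓ y

/-- An element seen by a moved functional. -/
def Hit (σ : MulAut G) {Q : ℕ → Subgroup G} {pr : ℕ → ℕ} {l : ℕ} (Λ : Lset Q pr l) (u : G) : Prop :=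
  ∃ hu : u ∈ Q l, ∃ ℓ ∈ Λ, Moved σ ℓ ∧ ℓ ⟨u, hu⟩ ≠ 1

variable [Finite G] [Group.IsSolvable G] {σ : MulAut G} {L : ℕ} {pr : ℕ → ℕ} {Q : ℕ → Subgroup G}

theorem Tower.member_ne_bot (hT : Tower σ L pr Q) : ∀ l ≤ L, Q l ≠ ⊥ := by
  intro l hl hbot
  have h1 : iter Q l = ⊥ := le_bot_iff.mp (hbot ▸ iter_le (σ := σ) (pr := pr) hT.norm l hl)
  have h2 : ∀ k, l ≤ k → iter Q k = ⊥ := by
    intro k hk
    induction k, hk using Nat.le_induction with
    | base => exact h1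
    | succ k _ ih => show ⁅Q (k + 1), iter Q k⁆ = ⊥; rw [ih, commutator_bot_right]
  exact hT.top (h2 L hl)

theorem Tower.prime_ne (hT : Tower σ L pr Q) {r : ℕ} [hr : Fact r.Prime] (hcop : ¬ r ∣ Nat.card G)
    {l : ℕ} (hl : l ≤ L) : pr l ≠ r := by
  intro he
  haveI := Fact.mk (hT.prime l hl)
  obtain ⟨k, hk⟩ := IsPGroup.iff_card.mp (hT.isP l hl)
  rcases k with _ | k
  · exact hT.member_ne_bot l hl (Subgroup.card_eq_one.mp (by rw [hk, pow_zero]))
  · exact hcop (he ▸ (dvd_pow_self _ k.succ_ne_zero).trans (hk ▸ (Q l).card_subgroup_dvd_card))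

section Generic

variable (h : MinTower σ L pr Q) {r : ℕ} [hr : Fact r.Prime] (hσr : σ ^ r = 1)
  (hcop : ¬ r ∣ Nat.card G) {i : ℕ} (hi : i + 2 ≤ L)
  {E : Type u} [CommGroup E] [Finite E] [Fact (pr (i + 2)).Prime]
  [Module (ZMod (pr (i + 2))) (Additive E)] {π : Q (i + 2) →* E}
  {act : actDom Q L (i + 2) →* MulAut E} {s : MulAut E} (d : ActData σ Q L (i + 2) π act s)
  (K : Type*) [Field K] [hKclosed : IsAlgClosed K] [hKalg : Algebra (ZMod (pr (i + 2))) K]
  {Λ' : Lset Q pr (i + 2)} (hΛ' : LabelSet pr Q L (i + 2) Λ')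

/-- The functionals on the factor. -/
def pushLabels (π : Q (i + 2) →* E) (Λ' : Lset Q pr (i + 2)) :
    Set (E →* Multiplicative (ZMod (pr (i + 2)))) := {f | f.comp π ∈ Λ'}

include h hi d hσr hcop

theorem stage_of_tower :
    Stage (extRep (p := pr (i + 2)) K : MulAut E →* _) s r (pr i) (pr (i + 1)) (img act (Q (i + 1)))
      (img act (Q i)) (img act (nk Q L (i + 1)))
      (normalizer (img act (Q (i + 1)) : Set (MulAut E)) ⊓
        normalizer (img act (nk Q L (i + 1)) : Set (MulAut E)) ⊓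
        normalizer (img act (Q i) : Set (MulAut E))) := by
  have hT := h.tower
  haveI : CharP K (pr (i + 2)) :=
    charP_of_injective_algebraMap (algebraMap (ZMod (pr (i + 2))) K).injective _
  have hcast : ∀ {q : ℕ}, q.Prime → q ≠ pr (i + 2) → (q : K) ≠ 0 := fun {q} hq hne h0 =>
    hne (((Nat.prime_dvd_prime_iff_eq (hT.prime _ hi) hq).mp
      ((CharP.cast_eq_zero_iff K (pr (i + 2)) q).mp h0)).symm)
  exact
    { inj := extRep_injective K
      s_pow := s_pow_eq_one h hi d hσr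
      isPGroup := ((hT.isP _ (by omega)).comap_of_injective _ (actDom Q L (i + 2)).subtype_injective).map act
      isPGroup_top := ((hT.isP _ (by omega)).comap_of_injective _ (actDom Q L (i + 2)).subtype_injective).map act
      p_ne_q := hT.ne i (by omega)
      p_ne_r := hT.prime_ne hcop (by omega)
      q_ne_r := hT.prime_ne hcop (by omega)
      q_ne := hcast (hT.prime _ (by omega)) (hT.ne (i + 1) (by omega))
      r_ne := hcast hr.out (hT.prime_ne hcop hi).symm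
      s_norm := img_norm_s h hi d _ (hT.inv _ (by omega))
      s_norm_M := img_norm_s h hi d _ (h.nk_inv (by omega)).1
      s_norm_top := img_norm_s h hi d _ (hT.inv _ (by omega))
      top_norm := by
        rintro _ ⟨x, hx, rfl⟩
        exact img_norm act _ _ (hT.norm i _ (Nat.le_succ i) (by omega) hx)
      le := Subgroup.map_mono (Subgroup.comap_mono (nk_le Q L _))
      pow_mem := by
        rintro _ ⟨y, hy, rfl⟩
        rw [← map_pow]
        exact ⟨_, (h.frattini_le (by omega)).1 _ hy, rfl⟩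
      comm_mem := by
        rintro _ ⟨y, hy, rfl⟩ _ ⟨z, hz, rfl⟩
        rw [← map_commutatorElement]
        exact ⟨_, (h.frattini_le (by omega)).2 _ hy _ hz, rfl⟩
      central := fun a ha y hy => img_central h hi d ha hy
      central_top := fun a ha o ho => img_central_top h hi d ha ho
      gen := img_gen h hi
      top_le := by rintro _ ⟨x, hx, rfl⟩; exact act_mem_H h hi le_rfl hx
      irr := fun X hMX hXP hsX hHX => img_irr h hi d hMX hXP hsX hHX
      H_norm := inf_le_left.trans inf_le_left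
      H_norm_M := inf_le_left.trans inf_le_right
      H_norm_top := inf_le_right }

omit hσr hcop in
theorem img_ne : img act (nk Q L (i + 1)) ≠ img act (Q (i + 1)) := fun he =>
  h.nk_ne (i + 1) (by omega) (le_antisymm (nk_le Q L _) fun y hy =>
    mem_nk_of_act h hi d hy (he.ge (mem_img act hy (le_actDom h hi (Nat.le_succ _) hy))))

include hΛ'

omit hσr hcop h hi in
theorem exists_push {ℓ : Q (i + 2) →* Multiplicative (ZMod (pr (i + 2)))} (hℓ : ℓ ∈ Λ') :
    ∃ f ∈ pushLabels π Λ', f.comp π = ℓ := by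
  have hk : π.ker ≤ ℓ.ker := fun z hz => hΛ'.kills ℓ hℓ z ((d.ker z).mp hz)
  refine ⟨π.liftOfSurjective d.surj ⟨ℓ, hk⟩, ?_, MonoidHom.liftOfRightInverse_comp ..⟩
  show (π.liftOfSurjective d.surj ⟨ℓ, hk⟩).comp π ∈ Λ'
  rw [show (π.liftOfSurjective d.surj ⟨ℓ, hk⟩).comp π = ℓ from MonoidHom.liftOfRightInverse_comp ..]
  exact hℓ

omit hσr in
theorem func_of_labels :
    ∀ hst : Stage (extRep (p := pr (i + 2)) K : MulAut E →* _) s r (pr i) (pr (i + 1)) (img act (Q (i + 1)))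
      (img act (Q i)) (img act (nk Q L (i + 1)))
      (normalizer (img act (Q (i + 1)) : Set (MulAut E)) ⊓
        normalizer (img act (nk Q L (i + 1)) : Set (MulAut E)) ⊓
        normalizer (img act (Q i) : Set (MulAut E))),
      hst.Func (extLabels K (pushLabels π Λ')) := by
  intro hst
  refine ⟨extLabels_sep K fun a ha => ?_, ?_⟩
  · obtain ⟨z, rfl⟩ := d.surj a
    refine (d.ker z).mpr (hΛ'.sep z fun ℓ hℓ => ?_)
    obtain ⟨f, hf, hfπ⟩ := exists_push d hΛ' hℓ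
    rw [← hfπ]
    exact ha f hf
  · rintro _ ⟨y, hy, rfl⟩ g hg
    refine extLabels_comp K (fun f hf => ?_) g hg
    have hy' : (y : G) ∈ normalizer (Q (i + 2) : Set G) := y.2.1
    have := hΛ'.inv (i + 1) (by omega) (y : G) hy hy' _ hf
    show (f.comp (act y).toMonoidHom).comp π ∈ Λ'
    convert this using 1
    refine MonoidHom.ext fun z => ?_
    show f (act y (π z)) = f (π (cj hy' z))
    rw [d.act_apply]

/-- A displacement that is not killed comes from a fixed element. -/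
theorem hit_of_not_killed {x : G} (hx : x ∈ actDom Q L (i + 2)) {n : K ⊗[ZMod (pr (i + 2))] Additive E}
    (hn : extRep (p := pr (i + 2)) K s n = n)
    (hk : ¬ Kills (extLabels K (pushLabels π Λ')) (extRep (p := pr (i + 2)) K s)
      (extRep (p := pr (i + 2)) K (act ⟨x, hx⟩) n - n)) :
    ∃ c ∈ Q (i + 2), σ c = c ∧ Hit σ Λ' ⁅x, c⁆ := by
  haveI : CharP K (pr (i + 2)) :=
    charP_of_injective_algebraMap (algebraMap (ZMod (pr (i + 2))) K).injective _
  have hrK := (stage_of_tower h hσr hcop hi d K).r_ne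
  obtain ⟨a, ha, f, hf, hmv, hne⟩ := exists_fixed_witness K hrK (s_pow_eq_one h hi d hσr)
    (linOf (act ⟨x, hx⟩) - 1) hn (by
      rw [LinearMap.baseChange_sub, LinearMap.sub_apply, Module.End.one_eq_id, LinearMap.baseChange_id,
        LinearMap.id_apply]
      exact hk)
  obtain ⟨z, rfl⟩ := d.surj a
  have hσz : σ (z : G) ∈ Q (i + 2) := h.tower.inv _ hi _ z.2
  rw [d.s_apply z hσz] at ha
  have hmem : (z : G)⁻¹ * σ (z : G) ∈ nk Q L (i + 2) := by
    refine (d.ker (z⁻¹ * ⟨σ (z : G), hσz⟩)).mp ?_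
    rw [map_mul, map_inv, ha, inv_mul_cancel]
  obtain ⟨m, hm, hmfix⟩ := exists_fixed_lift (h.nk_inv hi).1
    (Nat.Coprime.coprime_dvd_left (orderOf_dvd_of_pow_eq_one hσr) (hr.out.coprime_iff_not_dvd.mpr hcop))
    hmem
  have hc : (z : G) * m ∈ Q (i + 2) := mul_mem z.2 (nk_le Q L _ hm)
  have hπc : π ⟨_, hc⟩ = π z := by
    show π (z * ⟨m, nk_le Q L _ hm⟩) = π z
    rw [map_mul, (d.ker ⟨m, nk_le Q L _ hm⟩).mpr hm, mul_one]
  set c : Q (i + 2) := ⟨_, hc⟩ with hcdef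
  have hu : ⁅x, (c : G)⁆ ∈ Q (i + 2) := by
    rw [commutatorElement_def]
    exact mul_mem ((mem_normalizer_iff.mp hx.1 _).mp c.2) (inv_mem c.2)
  refine ⟨c, c.2, hmfix, hu, _, hf, ?_, fun h1 => hne ?_⟩
  · by_contra hno
    refine hmv (MonoidHom.ext fun b => ?_)
    obtain ⟨w, rfl⟩ := d.surj b
    have hσw : σ (w : G) ∈ Q (i + 2) := h.tower.inv _ hi _ w.2
    show f (s (π w)) = f (π w)
    rw [d.s_apply w hσw]
    by_contra hne'
    exact hno ⟨w, hσw, hne'⟩
  · rw [LinearMap.sub_apply, Module.End.one_apply, map_sub, linOf_apply, dualOf_apply, dualOf_apply,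
      sub_eq_zero, ← hπc, d.act_apply]
    refine congrArg Multiplicative.toAdd ?_
    rw [← mul_inv_eq_one, ← map_inv, ← map_mul, ← map_inv, ← map_mul]
    exact h1

include K hKclosed hKalg in
/-- The step. -/
theorem step_generic :
    ∃ Λ : Lset Q pr (i + 1), LabelSet pr Q L (i + 1) Λ ∧
      ∀ x ∈ Q (i + 1), σ x = x → Hit σ Λ x → ∃ c ∈ Q (i + 2), σ c = c ∧ Hit σ Λ' ⁅x, c⁆ := by
  haveI : Fact (pr (i + 1)).Prime := ⟨h.tower.prime _ (by omega)⟩
  haveI : Fact (pr i).Prime := ⟨h.tower.prime _ (by omega)⟩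
  haveI : Module.Finite (ZMod (pr (i + 2))) (Additive E) := Module.Finite.of_finite
  have hst := stage_of_tower h hσr hcop hi d K
  have hA : ∀ {y : G}, y ∈ Q (i + 1) → y ∈ actDom Q L (i + 2) := fun hy => le_actDom h hi (Nat.le_succ _) hy
  refine ⟨{ℓ | ∃ ℓ₀ : img act (Q (i + 1)) →* Multiplicative (ZMod (pr (i + 1))), hst.Rel ℓ₀ ∧
      ∀ y : Q (i + 1), ℓ y = ℓ₀ ⟨act ⟨(y : G), hA y.2⟩, mem_img act y.2 _⟩}, ⟨?_, ?_, ?_⟩, ?_⟩
  · rintro ℓ ⟨ℓ₀, hrel, heq⟩ y hy
    rw [heq]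
    exact hrel.1 _ (mem_img act hy _)
  · intro y hy
    refine mem_nk_of_act h hi d y.2
      (hst.rel_sep (img_ne h hi d) (y := ⟨_, mem_img act y.2 _⟩) fun ℓ₀ hrel => ?_)
    let incl : Q (i + 1) →* img act (Q (i + 1)) :=
      { toFun := fun z => ⟨act ⟨(z : G), hA z.2⟩, mem_img act z.2 _⟩
        map_one' := Subtype.ext (map_one act)
        map_mul' := fun a b => Subtype.ext (map_mul act ⟨(a : G), hA a.2⟩ ⟨(b : G), hA b.2⟩) }
    exact hy (ℓ₀.comp incl) ⟨ℓ₀, hrel, fun z => rfl⟩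
  · rintro k hk g hg hgn ℓ ⟨ℓ₀, hrel, heq⟩
    have hH := act_mem_H (act := act) h hi (show k ≤ i by omega) hg
    refine ⟨_, hst.rel_conj hrel (g := act ⟨g, le_actDom h hi (by omega) hg⟩) (hst.H_norm hH)
      (hst.H_norm_M hH) (hst.H_norm_top hH), fun y => ?_⟩
    show ℓ (cj hgn y) = ℓ₀ _
    rw [heq]
    refine congrArg ℓ₀ (Subtype.ext ?_)
    show act _ = act _ * act _ * (act _)⁻¹
    rw [← map_inv, ← map_mul, ← map_mul]
    rfl
  · rintro x hx hσx ⟨hx', ℓ, ⟨ℓ₀, hrel, heq⟩, ⟨y, hy, hmv⟩, hne⟩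
    have hmov : ℓ₀.comp (cj hst.s_norm).toMonoidHom ≠ ℓ₀ := by
      intro he
      refine hmv ?_
      rw [heq, heq]
      refine Eq.trans (congrArg ℓ₀ (Subtype.ext ?_)) (DFunLike.congr_fun he _)
      exact (conj_act h hi d ⟨(y : G), hA y.2⟩).symm
    have hsx : s * act ⟨x, hA hx⟩ = act ⟨x, hA hx⟩ * s := by
      have h1 := conj_act h hi d ⟨x, hA hx⟩
      simp only [hσx] at h1
      exact mul_inv_eq_iff_eq_mul.mp h1
    obtain ⟨n, hn, hk⟩ : ∃ n, extRep (p := pr (i + 2)) K s n = n ∧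
        ¬ Kills (extLabels K (pushLabels π Λ')) (extRep (p := pr (i + 2)) K s)
          (extRep (p := pr (i + 2)) K (act ⟨x, hA hx⟩) n - n) := by
      by_contra hno
      push Not at hno
      refine hne ?_
      rw [heq]
      exact hst.moved_label_eq_one (func_of_labels h hcop hi d K hΛ' hst) (mem_img act hx (hA hx)) hsx hno
        hrel hmov
    exact hit_of_not_killed h hσr hcop hi d K hΛ' (hA hx) hn hk

include K hKclosed hKalg in
/-- The start. -/
theorem start_generic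
    (hcase : (∃ x ∈ Q i, x⁻¹ * σ x ∉ zk Q L i) ∨
      ((∀ k ≤ i, ∀ x ∈ Q k, σ x = x) ∧ ¬ FixMod σ Q L (i + 1))) :
    ∃ c ∈ Q (i + 2), σ c = c ∧ Hit σ Λ' c := by
  haveI : Fact (pr (i + 1)).Prime := ⟨h.tower.prime _ (by omega)⟩
  haveI : Fact (pr i).Prime := ⟨h.tower.prime _ (by omega)⟩
  haveI : Module.Finite (ZMod (pr (i + 2))) (Additive E) := Module.Finite.of_finite
  have hT := h.tower
  have hst := stage_of_tower h hσr hcop hi d K
  have hQi : ⁅Q (i + 1), Q i⁆ = Q (i + 1) := h.step_eq (by omega)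
  obtain ⟨n, hn, hk⟩ := hst.exists_not_killed (func_of_labels h hcop hi d K hΛ' hst) (img_ne h hi d) (by
    rcases hcase with ⟨x, hx, hxz⟩ | ⟨hfix, hmoved⟩
    · left
      have hd : x⁻¹ * σ x ∈ Q i := mul_mem (inv_mem hx) (hT.inv i (by omega) x hx)
      rw [hT.mem_zk (show i < L by omega)] at hxz
      push Not at hxz
      obtain ⟨y, hy, hyz⟩ := hxz hd
      have hxA := le_actDom h hi (show i ≤ i + 2 by omega) hx
      have hyA := le_actDom h hi (Nat.le_succ (i + 1)) hy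
      refine ⟨act ⟨x, hxA⟩, mem_img act hx _, act ⟨y, hyA⟩, mem_img act hy _, ?_⟩
      rw [conj_act h hi d, ← map_inv, ← map_mul]
      intro hc
      refine hyz ?_
      have hyd : ⁅y, x⁻¹ * σ x⁆ ∈ Q (i + 1) := hQi.le (commutator_mem_commutator hy hd)
      refine (act_eq_one_iff h hi d hyd).mp ?_
      show act ⁅(⟨y, hyA⟩ : actDom Q L (i + 2)),
        (⟨x, hxA⟩ : actDom Q L (i + 2))⁻¹ * ⟨σ x, sigma_mem_actDom h hi hxA⟩⁆ = 1
      rw [map_commutatorElement, commutatorElement_eq_one_iff_mul_comm]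
      exact hc.symm
    · right
      refine ⟨?_, img_fpf h hi d hfix hmoved⟩
      rintro _ ⟨o, ho, rfl⟩
      have h1 := conj_act h hi d o
      simp only [hfix i le_rfl (o : G) ho] at h1
      exact mul_inv_eq_iff_eq_mul.mp h1)
  obtain ⟨a, ha, f, hf, hmv, hne⟩ := exists_fixed_witness K hst.r_ne (s_pow_eq_one h hi d hσr) 1 hn (by
    rw [Module.End.one_eq_id, LinearMap.baseChange_id, LinearMap.id_apply]; exact hk)
  obtain ⟨z, rfl⟩ := d.surj a
  have hσz : σ (z : G) ∈ Q (i + 2) := h.tower.inv _ hi _ z.2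
  rw [d.s_apply z hσz] at ha
  have hmem : (z : G)⁻¹ * σ (z : G) ∈ nk Q L (i + 2) := by
    refine (d.ker (z⁻¹ * ⟨σ (z : G), hσz⟩)).mp ?_
    rw [map_mul, map_inv, ha, inv_mul_cancel]
  obtain ⟨m, hm, hmfix⟩ := exists_fixed_lift (h.nk_inv hi).1
    (Nat.Coprime.coprime_dvd_left (orderOf_dvd_of_pow_eq_one hσr) (hr.out.coprime_iff_not_dvd.mpr hcop))
    hmem
  have hc : (z : G) * m ∈ Q (i + 2) := mul_mem z.2 (nk_le Q L _ hm)
  have hπc : π ⟨_, hc⟩ = π z := by
    show π (z * ⟨m, nk_le Q L _ hm⟩) = π z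
    rw [map_mul, (d.ker ⟨m, nk_le Q L _ hm⟩).mpr hm, mul_one]
  refine ⟨_, hc, hmfix, hc, _, hf, ?_, fun h1 => hne ?_⟩
  · by_contra hno
    refine hmv (MonoidHom.ext fun b => ?_)
    obtain ⟨w, rfl⟩ := d.surj b
    have hσw : σ (w : G) ∈ Q (i + 2) := h.tower.inv _ hi _ w.2
    show f (s (π w)) = f (π w)
    rw [d.s_apply w hσw]
    by_contra hne'
    exact hno ⟨w, hσw, hne'⟩
  · rw [Module.End.one_apply, dualOf_apply, ← hπc]
    show Multiplicative.toAdd ((f.comp π) ⟨_, hc⟩) = 0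
    rw [h1]
    rfl

include K hKclosed hKalg in
/-- The junction. -/
theorem junction_generic {j : ℕ} (hj : j + 1 = i) (hfix : ∀ k ≤ i, ∀ x ∈ Q k, σ x = x)
    (hmoved : ¬ FixMod σ Q L (i + 1)) :
    (∃ x ∈ Q i, ∃ c ∈ Q (i + 2), σ c = c ∧ Hit σ Λ' ⁅x, c⁆) ∨
      (∃ a ∈ nk Q L (i + 1), σ a = a ∧ ∃ t ∈ Q j, ∃ c ∈ Q (i + 2), σ c = c ∧ Hit σ Λ' ⁅⁅a, t⁆, c⁆) := by
  haveI : Fact (pr (i + 1)).Prime := ⟨h.tower.prime _ (by omega)⟩
  haveI : Fact (pr i).Prime := ⟨h.tower.prime _ (by omega)⟩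
  haveI : Module.Finite (ZMod (pr (i + 2))) (Additive E) := Module.Finite.of_finite
  have hT := h.tower
  have hst := stage_of_tower h hσr hcop hi d K
  by_contra hno
  push Not at hno
  obtain ⟨hno1, hno2⟩ := hno
  have hcomm : ∀ k ≤ i, ∀ o ∈ img act (Q k), s * o = o * s := by
    rintro k hk _ ⟨o, ho, rfl⟩
    have h1 := conj_act h hi d o
    simp only [hfix k hk (o : G) ho] at h1
    exact mul_inv_eq_iff_eq_mul.mp h1
  have hQj : ⁅Q i, Q j⁆ = Q i := by
    subst hj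
    exact h.step_eq (by omega)
  refine hst.false_of_junction (func_of_labels h hcop hi d K hΛ' hst) (img_ne h hi d) (hcomm i le_rfl)
    (img_fpf h hi d hfix hmoved) (img act (Q j)) (hcomm j (by omega)) ?_ ?_ ?_ ?_ ?_ ?_
  · rintro _ ⟨o, ho, rfl⟩; exact hst.H_norm (act_mem_H h hi (show j ≤ i by omega) ho)
  · rintro _ ⟨o, ho, rfl⟩; exact hst.H_norm_M (act_mem_H h hi (show j ≤ i by omega) ho)
  · rintro _ ⟨o, ho, rfl⟩; exact hst.H_norm_top (act_mem_H h hi (show j ≤ i by omega) ho)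
  · rw [← img_comm act (le_actDom h hi (by omega)) (le_actDom h hi (by omega))
      (by rw [hQj]; exact le_actDom h hi (by omega)), hQj]
  · rintro _ ⟨x, hx, rfl⟩ n hn
    by_contra hk
    obtain ⟨c, hc, hσc, hhit⟩ := hit_of_not_killed h hσr hcop hi d K hΛ' x.2 hn hk
    exact hno1 _ hx c hc hσc hhit
  · rintro _ ⟨a, ha, rfl⟩ hsa _ ⟨t, ht, rfl⟩ n hn
    by_contra hk
    -- a fixed preimage
    have ha' : (a : G) ∈ nk Q L (i + 1) := ha
    have haQ := nk_le Q L _ ha'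
    have hd : (a : G)⁻¹ * σ (a : G) ∈ Q (i + 1) := mul_mem (inv_mem haQ) (hT.inv _ (by omega) _ haQ)
    have hdz : (a : G)⁻¹ * σ (a : G) ∈ zk Q L (i + 1) := by
      refine (act_eq_one_iff h hi d hd).mp ?_
      show act (a⁻¹ * ⟨σ (a : G), sigma_mem_actDom h hi a.2⟩) = 1
      rw [map_mul, map_inv, ← conj_act h hi d, hsa, mul_inv_cancel_right, inv_mul_cancel]
    obtain ⟨m, hm, hmfix⟩ := exists_fixed_lift (hT.zk_norm _ (by omega)).1
      (Nat.Coprime.coprime_dvd_left (orderOf_dvd_of_pow_eq_one hσr) (hr.out.coprime_iff_not_dvd.mpr hcop))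
      hdz
    have hamQ : (a : G) * m ∈ Q (i + 1) := mul_mem haQ (zk_le Q L _ hm)
    have hamA := le_actDom h hi (Nat.le_succ (i + 1)) hamQ
    have hmA : m ∈ actDom Q L (i + 2) := le_actDom h hi (Nat.le_succ (i + 1)) (zk_le Q L _ hm)
    have e1 : act ⟨(a : G) * m, hamA⟩ = act a := by
      show act (a * ⟨m, hmA⟩) = act a
      rw [map_mul, (act_eq_one_iff h hi d (zk_le Q L _ hm)).mpr hm, mul_one]
    rw [← e1, ← map_commutatorElement] at hk
    obtain ⟨c, hc, hσc, hhit⟩ := hit_of_not_killed h hσr hcop hi d K hΛ'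
      (⁅(⟨(a : G) * m, hamA⟩ : actDom Q L (i + 2)), t⁆ : actDom Q L (i + 2)).2 hn hk
    exact hno2 _ (mul_mem ha' (hT.zk_le_nk _ (by omega) hm)) hmfix _ ht c hc hσc hhit

end Generic

theorem MinTower.exists_actData (h : MinTower σ L pr Q) {i : ℕ} (hi : i + 2 ≤ L) [Fact (pr (i + 2)).Prime] :
    ∃ (E : Type u) (_ : CommGroup E) (_ : Finite E) (_ : Module (ZMod (pr (i + 2))) (Additive E))
      (π : Q (i + 2) →* E) (act : actDom Q L (i + 2) →* MulAut E) (s : MulAut E),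
      ActData σ Q L (i + 2) π act s := by
  set N' := (nk Q L (i + 2)).subgroupOf (Q (i + 2)) with hN'
  haveI : N'.Normal := normal_subgroupOf_of_le_normalizer ((h.nk_inv hi).2 _ le_rfl)
  let inst : CommGroup (Q (i + 2) ⧸ N') :=
    { (inferInstance : Group (Q (i + 2) ⧸ N')) with
      mul_comm := fun a b => by
        induction a using QuotientGroup.induction_on with
        | H a =>
        induction b using QuotientGroup.induction_on with
        | H b =>
        show ((a * b : Q (i + 2)) : Q (i + 2) ⧸ N') = ((b * a : Q (i + 2)) : Q (i + 2) ⧸ N')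
        rw [QuotientGroup.eq]
        show ((((a * b)⁻¹ * (b * a) : Q (i + 2))) : G) ∈ nk Q L (i + 2)
        simpa [commutatorElement_def, mul_assoc] using
          (h.frattini_le hi).2 _ (inv_mem b.2) _ (inv_mem a.2) }
  have hexp : ∀ a : Q (i + 2) ⧸ N', a ^ pr (i + 2) = 1 := fun a => by
    induction a using QuotientGroup.induction_on with
    | H y => exact (QuotientGroup.eq_one_iff _).mpr ((h.frattini_le hi).1 _ y.2)
  letI := inst
  let mo : Module (ZMod (pr (i + 2))) (Additive (Q (i + 2) ⧸ N')) := AddCommGroup.zmodModule fun x =>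
    congrArg Additive.ofMul (hexp (Additive.toMul x))
  have hinv : ∀ (g : actDom Q L (i + 2)) (z : Q (i + 2)), z ∈ N' ↔ cj g.2.1 z ∈ N' := fun g z => by
    show (z : G) ∈ nk Q L (i + 2) ↔ (g : G) * z * (g : G)⁻¹ ∈ nk Q L (i + 2)
    exact mem_normalizer_iff.mp g.2.2 _
  have hRσ := apply_mem_iff_of_mapsTo (h.tower.inv _ hi)
  refine ⟨Q (i + 2) ⧸ N', inst, inferInstance, mo, QuotientGroup.mk' N',
    { toFun := fun g => Alperin.onQuot (cj g.2.1) N' (hinv g)
      map_one' := MulEquiv.ext fun a => by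
        induction a using QuotientGroup.induction_on with
        | H z =>
          rw [Alperin.onQuot_mk]
          exact congrArg _ (Subtype.ext (by simp [cj_apply]))
      map_mul' := fun g g' => MulEquiv.ext fun a => by
        induction a using QuotientGroup.induction_on with
        | H z =>
          rw [MulAut.mul_apply, Alperin.onQuot_mk, Alperin.onQuot_mk, Alperin.onQuot_mk]
          exact congrArg _ (Subtype.ext (by simp [cj_apply, mul_assoc])) },
    Alperin.onQuot (Alperin.restrict σ (Q (i + 2)) hRσ) N'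
      (fun z => apply_mem_iff_of_mapsTo (h.nk_inv hi).1 (z : G)), ?_⟩
  exact ⟨QuotientGroup.mk'_surjective N', fun z => QuotientGroup.eq_one_iff z, fun g z => rfl,
    fun z hz => rfl⟩

variable (h : MinTower σ L pr Q) {r : ℕ} [hr : Fact r.Prime] (hσr : σ ^ r = 1)
  (hcop : ¬ r ∣ Nat.card G) {i : ℕ} (hi : i + 2 ≤ L) {Λ' : Lset Q pr (i + 2)}
  (hΛ' : LabelSet pr Q L (i + 2) Λ')
include h hσr hcop hi hΛ'

/-- The step. -/
theorem MinTower.step :
    ∃ Λ : Lset Q pr (i + 1), LabelSet pr Q L (i + 1) Λ ∧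
      ∀ x ∈ Q (i + 1), σ x = x → Hit σ Λ x → ∃ c ∈ Q (i + 2), σ c = c ∧ Hit σ Λ' ⁅x, c⁆ := by
  haveI : Fact (pr (i + 2)).Prime := ⟨h.tower.prime _ hi⟩
  obtain ⟨E, _, _, _, π, act, s, d⟩ := h.exists_actData hi
  exact step_generic h hσr hcop hi d (AlgebraicClosure (ZMod (pr (i + 2)))) hΛ'

/-- The start. -/
theorem MinTower.start
    (hcase : (∃ x ∈ Q i, x⁻¹ * σ x ∉ zk Q L i) ∨
      ((∀ k ≤ i, ∀ x ∈ Q k, σ x = x) ∧ ¬ FixMod σ Q L (i + 1))) :
    ∃ c ∈ Q (i + 2), σ c = c ∧ Hit σ Λ' c := by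
  haveI : Fact (pr (i + 2)).Prime := ⟨h.tower.prime _ hi⟩
  obtain ⟨E, _, _, _, π, act, s, d⟩ := h.exists_actData hi
  exact start_generic h hσr hcop hi d (AlgebraicClosure (ZMod (pr (i + 2)))) hΛ' hcase

/-- The junction. -/
theorem MinTower.junction {j : ℕ} (hj : j + 1 = i) (hfix : ∀ k ≤ i, ∀ x ∈ Q k, σ x = x)
    (hmoved : ¬ FixMod σ Q L (i + 1)) :
    (∃ x ∈ Q i, ∃ c ∈ Q (i + 2), σ c = c ∧ Hit σ Λ' ⁅x, c⁆) ∨
      (∃ a ∈ nk Q L (i + 1), σ a = a ∧ ∃ t ∈ Q j, ∃ c ∈ Q (i + 2), σ c = c ∧ Hit σ Λ' ⁅⁅a, t⁆, c⁆) := by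
  haveI : Fact (pr (i + 2)).Prime := ⟨h.tower.prime _ hi⟩
  obtain ⟨E, _, _, _, π, act, s, d⟩ := h.exists_actData hi
  exact junction_generic h hσr hcop hi d (AlgebraicClosure (ZMod (pr (i + 2))))
    hΛ' hj hfix hmoved

end CfsgLib.PGroups.Turull
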