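import Mathlib
import Cfsg.Agent.Lib.PGroups.Turull.TowerStage

/-!
# The fixed points of a minimal tower

* `MinTower.false_of_chain`: a minimal tower of length `n + 3` has fixed points of nilpotent length above `n`
* `hasChain_add_two`: nilpotent length of a solvable group with a coprime automorphism of prime order
-/

set_option autoImplicit false
set_option linter.all false
set_option maxHeartbeats 1000000

namespace CfsgLib.PGroups.Turull

open scoped commutatorElement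
open Subgroup

universe u

variable {G : Type u} [Group G]

theorem not_hit_one {σ : MulAut G} {pr : ℕ → ℕ} {Q : ℕ → Subgroup G} {l : ℕ} (Λ : Lset Q pr l) :
    ¬ Hit σ Λ 1 := fun ⟨_, ℓ, _, _, hne⟩ => hne (map_one ℓ)

theorem Hit.inv {σ : MulAut G} {pr : ℕ → ℕ} {Q : ℕ → Subgroup G} {l : ℕ} {Λ : Lset Q pr l} {u : G}
    (h : Hit σ Λ u) : Hit σ Λ u⁻¹ := by
  obtain ⟨hu, ℓ, hℓ, hm, hne⟩ := h
  refine ⟨inv_mem hu, ℓ, hℓ, hm, fun h1 => hne ?_⟩
  rw [show (⟨u⁻¹, inv_mem hu⟩ : Q l) = ⟨u, hu⟩⁻¹ from rfl, map_inv, inv_eq_one] at h1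
  exact h1

/-- The elements of `T` seen by no moved functional. -/
def killSub (σ : MulAut G) {Q : ℕ → Subgroup G} {pr : ℕ → ℕ} {l : ℕ} (Λ : Lset Q pr l) (T : Subgroup G)
    (hT : T ≤ Q l) : Subgroup G where
  carrier := {u | u ∈ T ∧ ¬ Hit σ Λ u}
  one_mem' := ⟨one_mem _, not_hit_one Λ⟩
  mul_mem' := fun {a b} ha hb => ⟨mul_mem ha.1 hb.1, fun ⟨_, ℓ, hℓ, hm, hne⟩ => by
    refine hne ?_
    rw [show (⟨a * b, _⟩ : Q l) = ⟨a, hT ha.1⟩ * ⟨b, hT hb.1⟩ from rfl, map_mul]
    have h1 : ℓ ⟨a, hT ha.1⟩ = 1 := by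
      by_contra h; exact ha.2 ⟨_, ℓ, hℓ, hm, h⟩
    have h2 : ℓ ⟨b, hT hb.1⟩ = 1 := by
      by_contra h; exact hb.2 ⟨_, ℓ, hℓ, hm, h⟩
    rw [h1, h2, one_mul]⟩
  inv_mem' := fun {a} ha => ⟨inv_mem ha.1, fun h => ha.2 (by simpa using h.inv)⟩

/-- No deep subgroup has an element seen at this level. -/
def Bound (σ : MulAut G) (n L : ℕ) {Q : ℕ → Subgroup G} {pr : ℕ → ℕ} {l : ℕ} (Λ : Lset Q pr l) : Prop :=
  ∀ (k : ℕ) (S : Subgroup G), n + l ≤ k + L → Deep σ k (pr l) S → S ≤ Q l → ∀ u ∈ S, ¬ Hit σ Λ u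

variable [Finite G] [Group.IsSolvable G] {σ : MulAut G} {L n : ℕ} {pr : ℕ → ℕ} {Q : ℕ → Subgroup G}
  {C : Subgroup G} (hC : ∀ g, g ∈ C ↔ σ g = g)

include hC

omit [Group.IsSolvable G] in
theorem fixed_le_normalizer {X : Subgroup G} {g : G} (hσg : σ g = g) (hX : g ∈ normalizer (X : Set G)) :
    g ∈ normalizer ((X ⊓ C : Subgroup G) : Set G) :=
  inf_normalizer_le_normalizer_inf ⟨hX, le_normalizer ((hC g).mpr hσg)⟩

omit [Group.IsSolvable G] in
theorem Tower.deep_inf (hT : Tower σ L pr Q) {k p l : ℕ} {S : Subgroup G} (hl : l ≤ L)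
    (hS : Deep σ k p S) (hne : p ≠ pr l) (hn : S ≤ normalizer (Q l : Set G)) :
    Deep σ (k + 1) (pr l) ⁅Q l ⊓ C, S⁆ :=
  hS.step (hT.prime l hl) ((hT.isP l hl).to_le inf_le_left) hne (fun x hx => (hC x).mp hx.2)
    fun g hg => fixed_le_normalizer hC (hS.fixed g hg) (hn hg)

omit [Group.IsSolvable G] in
theorem killSub_normalizes (hT : Tower σ L pr Q) {l : ℕ} (hl : l ≤ L) {Λ : Lset Q pr l}
    (hΛ : LabelSet pr Q L l Λ) {k : ℕ} (hk : k < l) {g : G} (hg : g ∈ Q k) (hσg : σ g = g) :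
    g ∈ normalizer (killSub σ Λ (Q l ⊓ C) inf_le_left : Set G) := by
  have e : ∀ g ∈ Q k, σ g = g → ∀ u ∈ killSub σ Λ (Q l ⊓ C) inf_le_left,
      g * u * g⁻¹ ∈ killSub σ Λ (Q l ⊓ C) inf_le_left := by
    intro g hg hσg u hu
    have hgn := hT.norm k l hk.le hl hg
    refine ⟨(mem_normalizer_iff.mp (fixed_le_normalizer hC hσg hgn) u).mp hu.1, ?_⟩
    rintro ⟨hmem, ℓ, hℓ, ⟨y, hy, hmv⟩, hne⟩
    refine hu.2 ⟨hu.1.1, _, hΛ.inv k hk g hg hgn ℓ hℓ,
      ⟨(cj hgn).symm y, hT.inv l hl _ ((cj hgn).symm y).2, ?_⟩, hne⟩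
    show ℓ (cj hgn _) ≠ ℓ (cj hgn _)
    rw [MulEquiv.apply_symm_apply]
    intro h1
    refine hmv (Eq.trans (congrArg ℓ (Subtype.ext ?_)) h1)
    have h2 : (y : G) = g * ((cj hgn).symm y : Q l) * g⁻¹ := by
      rw [← cj_apply hgn, MulEquiv.apply_symm_apply]
    show σ (y : G) = g * σ (((cj hgn).symm y : Q l) : G) * g⁻¹
    rw [h2]
    simp only [map_mul, map_inv, hσg]
  rw [mem_normalizer_iff]
  refine fun u => ⟨e g hg hσg u, fun hu => ?_⟩
  have := e g⁻¹ (inv_mem hg) (by rw [map_inv, hσg]) _ hu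
  simpa [mul_assoc] using this

omit [Group.IsSolvable G] in
/-- If every commutator with `x` goes unseen, then so does every commutator with a commutator of `x`. -/
theorem exists_hit_comm (hT : Tower σ L pr Q) {l : ℕ} (hl : l ≤ L) {Λ : Lset Q pr l}
    (hΛ : LabelSet pr Q L l Λ) {k : ℕ} (hk : k < l) {x : G} (hx : x ∈ Q k) (hσx : σ x = x) {w : G}
    (hw : ∀ N : Subgroup G, (∀ j < l, ∀ g ∈ Q j, σ g = g → g ∈ normalizer (N : Set G)) → x ∈ N → w ∈ N)
    {c : G} (hc : c ∈ Q l) (hσc : σ c = c) (hhit : Hit σ Λ ⁅w, c⁆) :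
    ∃ y ∈ Q l ⊓ C, Hit σ Λ ⁅y, x⁆ := by
  by_contra hno
  push Not at hno
  have hxn := fixed_le_normalizer hC hσx (hT.norm k l hk.le hl hx)
  have hxM : x ∈ modCent (Q l ⊓ C) (killSub σ Λ (Q l ⊓ C) inf_le_left) := by
    refine ⟨killSub_normalizes hC hT hl hΛ hk hx hσx, fun y hy => ⟨?_, hno y hy⟩⟩
    rw [commutatorElement_def, mul_assoc, mul_assoc]
    refine mul_mem hy ?_
    rw [← mul_assoc]
    exact (mem_normalizer_iff.mp hxn _).mp (inv_mem hy)
  have hwM := hw _ (fun j hj g hg hσg => modCent_normalizes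
    (fixed_le_normalizer hC hσg (hT.norm j l hj.le hl hg)) (killSub_normalizes hC hT hl hΛ hj hg hσg)) hxM
  have := (hwM.2 c ⟨hc, (hC c).mpr hσc⟩).2
  rw [← commutatorElement_inv] at this
  exact this hhit.inv

variable (hn : HasChain C n)
include hn

omit [Group.IsSolvable G] in
theorem bound_top (Λ : Lset Q pr L) : Bound σ n L Λ := by
  intro k S hk hS _ u hu
  rw [hS.eq_bot hC hn (by omega), Subgroup.mem_bot] at hu
  rw [hu]
  exact not_hit_one Λ

omit hn in
theorem bound_step (hT : Tower σ L pr Q) {l : ℕ} (hl : l + 1 ≤ L) {Λ : Lset Q pr l}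
    {Λ' : Lset Q pr (l + 1)} (hb : Bound σ n L Λ')
    (hstep : ∀ x ∈ Q l, σ x = x → Hit σ Λ x → ∃ c ∈ Q (l + 1), σ c = c ∧ Hit σ Λ' ⁅x, c⁆) :
    Bound σ n L Λ := by
  intro k S hk hS hle u hu hhit
  obtain ⟨c, hc, hσc, hh⟩ := hstep u (hle hu) (hS.fixed u hu) hhit
  have hn' : S ≤ normalizer (Q (l + 1) : Set G) := hle.trans (hT.norm l (l + 1) (Nat.le_succ l) hl)
  have hSn : S ≤ normalizer ((Q (l + 1) ⊓ C : Subgroup G) : Set G) := fun g hg =>
    fixed_le_normalizer hC (hS.fixed g hg) (hn' hg)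
  refine hb (k + 1) _ (by omega) (hT.deep_inf hC hl hS (hT.ne l hl) hn')
    ((commutator_le_left' hSn).trans inf_le_left) _ ?_ hh
  rw [← commutatorElement_inv]
  exact inv_mem (commutator_mem_commutator ⟨hc, (hC c).mpr hσc⟩ hu)

variable (h : MinTower σ L pr Q) {r : ℕ} [hr : Fact r.Prime] (hσr : σ ^ r = 1) (hcop : ¬ r ∣ Nat.card G)
include h hσr hcop

theorem exists_good (hL : 2 ≤ L) : ∀ l, 1 ≤ l → l ≤ L → ∃ Λ : Lset Q pr l,
    LabelSet pr Q L l Λ ∧ Bound σ n L Λ := by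
  intro l hl1 hlL
  induction hd : L - l generalizing l with
  | zero =>
    obtain rfl : L = l := by omega
    obtain ⟨i, rfl⟩ : ∃ i, L = i + 2 := ⟨L - 2, by omega⟩
    haveI : Fact (pr (i + 2)).Prime := ⟨h.tower.prime _ le_rfl⟩
    obtain ⟨E, _, _, _, π, act, s, d⟩ := h.exists_actData le_rfl
    refine ⟨{ℓ | ∀ y : Q (i + 2), (y : G) ∈ nk Q (i + 2) (i + 2) → ℓ y = 1}, ⟨fun ℓ hℓ => hℓ, ?_, ?_⟩,
      bound_top hC hn _⟩
    · intro y hy
      refine (d.ker y).mp ?_
      refine Additive.ofMul.injective ((Module.forall_dual_apply_eq_zero_iff (ZMod (pr (i + 2))) _).mp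
        fun φ => ?_)
      have := hy (((AddMonoidHom.toMultiplicative φ.toAddMonoidHom).comp
        (MulEquiv.multiplicativeAdditive E).symm.toMonoidHom).comp π) fun z hz => by
          show Multiplicative.ofAdd (φ (Additive.ofMul (π z))) = 1
          rw [(d.ker z).mpr hz]
          simp
      exact congrArg Multiplicative.toAdd this
    · intro k hk g hg hgn ℓ hℓ y hy
      exact hℓ _ ((mem_normalizer_iff.mp ((h.nk_inv le_rfl).2 k hk.le hg) _).mp hy)
  | succ d ih =>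
    obtain ⟨Λ', hΛ', hb⟩ := ih (l + 1) (by omega) (by omega) (by omega)
    obtain ⟨i, rfl⟩ : ∃ i, l = i + 1 := ⟨l - 1, by omega⟩
    obtain ⟨Λ, hΛ, hstep⟩ := h.step hσr hcop (show i + 2 ≤ L by omega) hΛ'
    exact ⟨Λ, hΛ, bound_step hC h.tower (by omega) hb hstep⟩

theorem MinTower.false_of_chain (hL : L = n + 2) : False := by
  classical
  subst hL
  have hT := h.tower
  have hcop' : (orderOf σ).Coprime (Nat.card G) :=
    Nat.Coprime.coprime_dvd_left (orderOf_dvd_of_pow_eq_one hσr) (hr.out.coprime_iff_not_dvd.mpr hcop)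
  have hfix : ∀ J ≤ n + 1, (∀ l < J, FixMod σ Q (n + 2) l) → ∀ l < J, ∀ x ∈ Q l, σ x = x :=
    fun J hJ hf => h.fixed hcop' (by omega) hf
  have hdeep : ∀ J ≤ n + 1, (∀ l < J, FixMod σ Q (n + 2) l) → ∀ l < J, Deep σ l (pr l) (Q l) := by
    intro J hJ hf l hl
    induction l with
    | zero => exact .start (hT.prime 0 (by omega)) (hT.isP 0 (by omega)) (hfix J hJ hf 0 hl)
    | succ l ih =>
      have h1 := (ih (by omega)).step (hT.prime (l + 1) (by omega)) (hT.isP (l + 1) (by omega))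
        (hT.ne l (by omega)) (hfix J hJ hf _ hl) (hT.norm l (l + 1) (Nat.le_succ l) (by omega))
      rwa [h.step_eq (by omega)] at h1
  by_cases hall : ∀ l ≤ n, FixMod σ Q (n + 2) l
  · exact hT.member_ne_bot n (by omega)
      ((hdeep (n + 1) le_rfl (fun l hl => hall l (by omega)) n (by omega)).eq_bot hC hn le_rfl)
  push Not at hall
  obtain ⟨J, ⟨hJn, hJ⟩, hmin⟩ : ∃ J, (J ≤ n ∧ ¬ FixMod σ Q (n + 2) J) ∧ ∀ l < J, FixMod σ Q (n + 2) l := by
    refine ⟨Nat.find hall, Nat.find_spec hall, fun l hl => ?_⟩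
    have := Nat.find_min hall hl
    by_contra hl'
    exact this ⟨by have := (Nat.find_spec hall).1; omega, hl'⟩
  have hf := hfix J (by omega) hmin
  have hd := hdeep J (by omega) hmin
  match J, hJn, hJ, hf, hd with
  | 0, _, hJ, _, _ =>
    obtain ⟨Λ', hΛ', hb⟩ := exists_good hC hn h hσr hcop (by omega) 2 (by omega) (by omega)
    obtain ⟨x, hx, hxz⟩ : ∃ x ∈ Q 0, x⁻¹ * σ x ∉ zk Q (n + 2) 0 := by
      simpa [FixMod] using hJ
    obtain ⟨c, hc, hσc, hh⟩ := h.start hσr hcop (i := 0) (by omega) hΛ' (Or.inl ⟨x, hx, hxz⟩)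
    exact hb 0 (Q 2 ⊓ C) (by omega)
      (.start (hT.prime 2 (by omega)) ((hT.isP 2 (by omega)).to_le inf_le_left) fun x hx => (hC x).mp hx.2)
      inf_le_left c ⟨hc, (hC c).mpr hσc⟩ hh
  | 1, _, hJ, hf, _ =>
    obtain ⟨Λ', hΛ', hb⟩ := exists_good hC hn h hσr hcop (by omega) 2 (by omega) (by omega)
    obtain ⟨c, hc, hσc, hh⟩ := h.start hσr hcop (i := 0) (by omega) hΛ'
      (Or.inr ⟨fun k hk => hf k (by omega), hJ⟩)
    exact hb 0 (Q 2 ⊓ C) (by omega)
      (.start (hT.prime 2 (by omega)) ((hT.isP 2 (by omega)).to_le inf_le_left) fun x hx => (hC x).mp hx.2)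
      inf_le_left c ⟨hc, (hC c).mpr hσc⟩ hh
  | j + 2, hJn, hJ, hf, hd =>
    obtain ⟨Λ'', hΛ'', hb''⟩ :=
      exists_good hC hn h hσr hcop (by omega) (j + 4) (by omega) (by omega)
    obtain ⟨Λ', hΛ', hstep⟩ := h.step hσr hcop (i := j + 2) (by omega) hΛ''
    have hb' : Bound σ n (n + 2) Λ' := bound_step hC hT (by omega) hb'' hstep
    rcases h.junction hσr hcop (i := j + 1) (by omega) hΛ' rfl (fun k hk => hf k (by omega)) hJ with
      ⟨x, hx, c, hc, hσc, hh⟩ | ⟨a, ha, hσa, t, ht, c, hc, hσc, hh⟩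
    · have hσx := hf (j + 1) (by omega) x hx
      by_cases hp : pr (j + 1) = pr (j + 3)
      · have hw : σ ⁅x, c⁆ = ⁅x, c⁆ := by rw [map_commutatorElement, hσx, hσc]
        obtain ⟨c2, hc2, hσc2, hh2⟩ := hstep _ hh.choose hw hh
        obtain ⟨y, hy, hyh⟩ := exists_hit_comm hC hT (show j + 4 ≤ n + 2 by omega) hΛ''
          (show j + 1 < j + 4 by omega) hx hσx (w := ⁅x, c⁆) (fun N hN hxN => by
            rw [commutatorElement_def, mul_assoc, mul_assoc]
            refine mul_mem hxN ?_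
            rw [← mul_assoc]
            exact (mem_normalizer_iff.mp (hN (j + 3) (by omega) c hc hσc) _).mp (inv_mem hxN))
          hc2 hσc2 hh2
        refine hb'' (j + 2) _ (by omega)
          (hT.deep_inf hC (by omega) (hd (j + 1) (by omega)) (fun he => hT.ne (j + 3) (by omega) (hp ▸ he))
            (hT.norm _ _ (by omega) (by omega))) ?_ _ (commutator_mem_commutator hy hx) hyh
        exact (commutator_le_left' fun g hg => fixed_le_normalizer hC (hf (j + 1) (by omega) g hg)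
          (hT.norm _ _ (by omega) (by omega) hg)).trans inf_le_left
      · refine hb' (j + 2) _ (by omega)
          (hT.deep_inf hC (by omega) (hd (j + 1) (by omega)) hp (hT.norm _ _ (by omega) (by omega))) ?_ _ ?_ hh
        · exact (commutator_le_left' fun g hg => fixed_le_normalizer hC (hf (j + 1) (by omega) g hg)
            (hT.norm _ _ (by omega) (by omega) hg)).trans inf_le_left
        · rw [← commutatorElement_inv]
          exact inv_mem (commutator_mem_commutator ⟨hc, (hC c).mpr hσc⟩ hx)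
    · have hσt := hf j (by omega) t ht
      have haQ := nk_le Q (n + 2) _ ha
      by_cases hp : pr j = pr (j + 3)
      · have hne : pr j ≠ pr (j + 2) := fun he => hT.ne (j + 2) (by omega) (he ▸ hp)
        have hjn : Q j ≤ normalizer ((nk Q (n + 2) (j + 2) ⊓ C : Subgroup G) : Set G) := fun g hg =>
          fixed_le_normalizer hC (hf j (by omega) g hg) ((h.nk_inv (by omega)).2 j (by omega) hg)
        have h1 : Deep σ (j + 1) (pr (j + 2)) ⁅nk Q (n + 2) (j + 2) ⊓ C, Q j⁆ :=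
          (hd j (by omega)).step (hT.prime _ (by omega))
            ((hT.isP _ (by omega)).to_le (inf_le_left.trans (nk_le Q _ _))) hne
            (fun x hx => (hC x).mp hx.2) hjn
        have hS1 : ⁅nk Q (n + 2) (j + 2) ⊓ C, Q j⁆ ≤ Q (j + 2) :=
          (commutator_le_left' hjn).trans (inf_le_left.trans (nk_le Q _ _))
        refine hb' (j + 2) _ (by omega)
          (hT.deep_inf hC (by omega) h1 (hT.ne (j + 2) (by omega))
            (hS1.trans (hT.norm _ _ (by omega) (by omega)))) ?_ _ ?_ hh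
        · exact (commutator_le_left' fun g hg => fixed_le_normalizer hC (h1.fixed g hg)
            (hT.norm _ _ (by omega) (by omega) (hS1 hg))).trans inf_le_left
        · rw [← commutatorElement_inv]
          exact inv_mem (commutator_mem_commutator ⟨hc, (hC c).mpr hσc⟩
            (commutator_mem_commutator ⟨ha, (hC a).mpr hσa⟩ ht))
      · obtain ⟨y, hy, hyh⟩ := exists_hit_comm hC hT (show j + 3 ≤ n + 2 by omega) hΛ'
          (show j < j + 3 by omega) ht hσt (w := ⁅a, t⁆) (fun N hN htN => by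
            rw [commutatorElement_def]
            exact mul_mem ((mem_normalizer_iff.mp (hN (j + 2) (by omega) a haQ hσa) _).mp htN) (inv_mem htN))
          hc hσc hh
        refine hb' (j + 1) _ (by omega)
          (hT.deep_inf hC (by omega) (hd j (by omega)) hp (hT.norm _ _ (by omega) (by omega))) ?_ _
          (commutator_mem_commutator hy ht) hyh
        exact (commutator_le_left' fun g hg => fixed_le_normalizer hC (hf j (by omega) g hg)
          (hT.norm _ _ (by omega) (by omega) hg)).trans inf_le_left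

omit h in
/-- The nilpotent length of a solvable group exceeds that of the fixed points by at most two. -/
theorem hasChain_add_two : HasChain G (n + 2) := by
  by_contra hno
  have hcop' : (orderOf σ).Coprime (Nat.card G) :=
    Nat.Coprime.coprime_dvd_left (orderOf_dvd_of_pow_eq_one hσr) (hr.out.coprime_iff_not_dvd.mpr hcop)
  obtain ⟨pr, Q, hT, -⟩ := exists_tower (n + 2) G inferInstance σ hcop' hno
  obtain ⟨Q', hQ'⟩ := exists_minTower hT
  exact hQ'.false_of_chain hC hn hσr hcop rfl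

end CfsgLib.PGroups.Turull
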